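import Groth.Prelude.Def_Found
import Mathlib

/-!
# Finiteness of integral closures in finite algebras over the total ring of fractions
-/

set_option autoImplicit false
universe u
open nonZeroDivisors

namespace Groth.Agent.H1EssEt

set_option maxHeartbeats 1000000 in
/-- Over a Nagata ring the integral closure in a finite reduced algebra over the total ring of
fractions is finite. -/
theorem finite_integralClosure (A : Type u) [CommRing A] [IsNoetherianRing A] (hN : CAlg.IsNagata A)
    (F : Type u) [CommRing F] [IsReduced F] [IsArtinianRing F] [Algebra A F] [Algebra (FractionRing A) F]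
    [IsScalarTower A (FractionRing A) F] [Module.Finite (FractionRing A) F] :
    Module.Finite A (integralClosure A F) := by
  classical
  have hfin : ∀ m : MaximalSpectrum F, Module.Finite A (integralClosure A (F ⧸ m.asIdeal)) := fun m => by
    haveI := m.isMaximal
    letI : Field (F ⧸ m.asIdeal) := Ideal.Quotient.field _
    let Q := F ⧸ m.asIdeal
    let p : Ideal A := RingHom.ker (algebraMap A Q)
    haveI : p.IsPrime := RingHom.ker_isPrime _
    letI : Algebra (A ⧸ p) Q := RingHom.toAlgebra (R := A ⧸ p) (S := Q) (RingHom.kerLift (algebraMap A Q))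
    haveI : IsScalarTower A (A ⧸ p) Q := IsScalarTower.of_algebraMap_eq fun _ => rfl
    haveI : FaithfulSMul (A ⧸ p) Q :=
      (faithfulSMul_iff_algebraMap_injective _ _).mpr (RingHom.kerLift_injective (algebraMap A Q))
    letI : Algebra (FractionRing (A ⧸ p)) Q := FractionRing.liftAlgebra (A ⧸ p) Q
    let φ : FractionRing A →ₐ[A] FractionRing (A ⧸ p) :=
      IsLocalization.liftAlgHom (M := A⁰) (f := Algebra.ofId A (FractionRing (A ⧸ p))) fun a => by
        show IsUnit (algebraMap A (FractionRing (A ⧸ p)) a)
        rw [isUnit_iff_ne_zero, IsScalarTower.algebraMap_apply A (A ⧸ p) (FractionRing (A ⧸ p)), ne_eq,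
          IsFractionRing.to_map_eq_zero_iff, Ideal.Quotient.algebraMap_eq, Ideal.Quotient.eq_zero_iff_mem]
        intro ha
        have hu := ((IsLocalization.map_units (FractionRing A) a).map (algebraMap (FractionRing A) Q)).ne_zero
        rw [← IsScalarTower.algebraMap_apply] at hu
        exact hu ha
    letI : Algebra (FractionRing A) (FractionRing (A ⧸ p)) := φ.toRingHom.toAlgebra
    haveI : IsScalarTower (FractionRing A) (FractionRing (A ⧸ p)) Q := IsScalarTower.of_algebraMap_eq' (by
      refine IsLocalization.ringHom_ext A⁰ (RingHom.ext fun a => ?_)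
      show algebraMap (FractionRing A) Q (algebraMap A (FractionRing A) a) =
        algebraMap (FractionRing (A ⧸ p)) Q (φ (algebraMap A (FractionRing A) a))
      rw [φ.commutes, ← IsScalarTower.algebraMap_apply, IsScalarTower.algebraMap_apply A (A ⧸ p) (FractionRing (A ⧸ p)),
        ← IsScalarTower.algebraMap_apply (A ⧸ p) (FractionRing (A ⧸ p)) Q, ← IsScalarTower.algebraMap_apply])
    haveI : Module.Finite (FractionRing A) Q := inferInstance
    haveI : Module.Finite (FractionRing (A ⧸ p)) Q :=
      Module.Finite.of_restrictScalars_finite (FractionRing A) (FractionRing (A ⧸ p)) Q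
    have h := hN.2 p Q inferInstance
    have heq : Subalgebra.toSubmodule (integralClosure A Q) =
        (Subalgebra.toSubmodule (integralClosure (A ⧸ p) Q)).restrictScalars A := by
      ext x
      exact ⟨fun hx => (hx : IsIntegral A x).tower_top, fun hx => isIntegral_trans (A := A ⧸ p) x hx⟩
    have hfg := (Module.Finite.iff_fg (N := Subalgebra.toSubmodule (integralClosure (A ⧸ p) Q))).1 h
    refine Module.Finite.iff_fg.2 (show (Subalgebra.toSubmodule (integralClosure A Q)).FG from ?_)
    rw [heq]
    exact hfg.restrictScalars_of_surjective Ideal.Quotient.mk_surjective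
  let f : integralClosure A F →ₗ[A] ∀ m : MaximalSpectrum F, integralClosure A (F ⧸ m.asIdeal) :=
    LinearMap.pi fun m => (((Ideal.Quotient.mkₐ A m.asIdeal).comp (integralClosure A F).val).codRestrict
      (integralClosure A (F ⧸ m.asIdeal)) fun x => x.2.map (Ideal.Quotient.mkₐ A m.asIdeal)).toLinearMap
  refine Module.Finite.of_injective f fun x y hxy => ?_
  refine Subtype.ext (sub_eq_zero.mp ?_)
  have h : ((x : F) - y) ∈ Ideal.jacobson (⊥ : Ideal F) := Submodule.mem_sInf.mpr fun M hM => by
    exact Ideal.Quotient.eq.mp (congrArg Subtype.val (congrFun hxy ⟨M, hM.2⟩))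
  rw [IsArtinianRing.jacobson_eq_radical, show (⊥ : Ideal F).radical = ⊥ from nilradical_eq_zero _] at h
  exact h

end Groth.Agent.H1EssEt
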