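import Groth.Prelude.Def_EssEt
import Groth.Agent.S12237
import Groth.Agent.S0736
import Groth.Agent.WEtLib.Basic

/-!
# Local étale subalgebras of a strict henselization
-/

set_option autoImplicit false
universe u
open IsLocalRing

namespace Groth.Agent.H1EssEt

variable {A S : Type u} [CommRing A] [IsLocalRing A] [CommRing S] [IsLocalRing S] [Algebra A S]
  [IsLocalHom (algebraMap A S)]

theorem weaklyEtale [Hensel.IsStrictHenselization A S] : Algebra.WeaklyEtale A S :=
  S0736.result A S (S12237.result A S)

theorem injective_of_isLocalHom [Algebra.WeaklyEtale A S] {C : Type u} [CommRing C] [Algebra A C]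
    [Algebra.WeaklyEtale A C] (q : Ideal C) [q.IsPrime] (χ : Localization.AtPrime q →ₐ[A] S)
    [IsLocalHom χ.toRingHom] : Function.Injective χ := by
  letI : Algebra (Localization.AtPrime q) S := χ.toRingHom.toAlgebra
  haveI : IsScalarTower A (Localization.AtPrime q) S :=
    IsScalarTower.of_algebraMap_eq fun a => (χ.commutes a).symm
  letI : Algebra C S := Algebra.compHom S (algebraMap C (Localization.AtPrime q))
  haveI : IsScalarTower C (Localization.AtPrime q) S := IsScalarTower.of_algebraMap_eq fun _ => rfl
  haveI : IsScalarTower A C S :=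
    IsScalarTower.of_algebraMap_eq fun a => by
      show _ = algebraMap (Localization.AtPrime q) S (algebraMap C _ (algebraMap A C a))
      rw [← IsScalarTower.algebraMap_apply A C (Localization.AtPrime q), ← IsScalarTower.algebraMap_apply]
  haveI : Algebra.WeaklyEtale C S := WEtLib.cancel (A := A) (B := C) S
  haveI : Module.Flat (Localization.AtPrime q) S :=
    (Module.flat_iff_of_isLocalization (Localization.AtPrime q) q.primeCompl S).mpr inferInstance
  haveI : IsLocalHom (algebraMap (Localization.AtPrime q) S) := ‹IsLocalHom χ.toRingHom›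
  haveI : Module.FaithfullyFlat (Localization.AtPrime q) S := Module.FaithfullyFlat.of_flat_of_isLocalHom
  exact FaithfulSMul.algebraMap_injective (Localization.AtPrime q) S

/-- An étale algebra mapping to `S` gives a local étale subalgebra. -/
theorem exists_subalgebra_of_etale [Hensel.IsStrictHenselization A S] {C : Type u} [CommRing C]
    [Algebra A C] [Algebra.Etale A C] (β : C →ₐ[A] S) :
    ∃ E : Subalgebra A S, β.range ≤ E ∧ ∃ _ : IsLocalRing E, IsLocalHom (algebraMap E S) ∧
      EGA4loc.IsEssentiallyEtale A E := by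
  haveI := weaklyEtale (A := A) (S := S)
  let q : Ideal C := (maximalIdeal S).comap β
  have hu : ∀ y : q.primeCompl, IsUnit (β y) := fun y => IsLocalRing.notMem_maximalIdeal.mp y.2
  let χ : Localization.AtPrime q →ₐ[A] S := IsLocalization.liftAlgHom (f := β) hu
  have hχ : ∀ c, χ (algebraMap C (Localization.AtPrime q) c) = β c := fun c => IsLocalization.lift_eq _ c
  haveI hχl : IsLocalHom χ.toRingHom := by
    refine ⟨fun z hz => ?_⟩
    obtain ⟨c, s, rfl⟩ := IsLocalization.exists_mk'_eq q.primeCompl z
    rw [IsLocalization.AtPrime.isUnit_mk'_iff]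
    intro hc
    refine (IsLocalRing.mem_maximalIdeal _).mp (Ideal.mem_comap.mp hc) ?_
    rw [← hχ, ← IsLocalization.mk'_spec (Localization.AtPrime q) c s, map_mul]
    exact IsUnit.mul hz (by rw [hχ]; exact hu s)
  have hinj : Function.Injective χ := injective_of_isLocalHom q χ
  let e : Localization.AtPrime q ≃ₐ[A] χ.range := AlgEquiv.ofInjective χ hinj
  haveI : IsLocalRing χ.range := e.toRingEquiv.isLocalRing
  have hloc : IsLocalHom (algebraMap χ.range S) := by
    refine ⟨fun x hx => ?_⟩
    obtain ⟨z, rfl⟩ := e.surjective x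
    exact (hχl.map_nonunit z hx).map e
  have hcomap : q.comap (algebraMap A C) = maximalIdeal A := by
    ext a
    show β (algebraMap A C a) ∈ maximalIdeal S ↔ _
    rw [β.commutes, mem_maximalIdeal, mem_maximalIdeal, mem_nonunits_iff, mem_nonunits_iff]
    exact not_congr ⟨isUnit_of_map_unit _ a, fun h => h.map _⟩
  refine ⟨χ.range, ?_, inferInstance, hloc,
    ⟨C, inferInstance, inferInstance, q, inferInstance, inferInstance, hcomap, ⟨e.symm⟩⟩⟩
  rintro _ ⟨c, rfl⟩
  exact ⟨_, hχ c⟩

/-- Finite subsets of a strict henselization lie in local étale subalgebras. -/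
theorem exists_subalgebra_ge [Hensel.IsStrictHenselization A S] (s : Finset S) :
    ∃ E : Subalgebra A S, (s : Set S) ⊆ E ∧ ∃ _ : IsLocalRing E, IsLocalHom (algebraMap E S) ∧
      EGA4loc.IsEssentiallyEtale A E := by
  classical
  obtain ⟨T, hT, ⟨e⟩⟩ := IndEtLib.exists_sys (S12237.result A S)
  obtain ⟨j, y, hy⟩ := T.exists_lift_finset s e.symm
  haveI := hT j
  obtain ⟨E, hE, hE'⟩ := exists_subalgebra_of_etale (A := A) (C := T.A j) (e.toAlgHom.comp (T.ι j))
  refine ⟨E, fun x hx => ?_, hE'⟩
  exact hE ⟨y x, by simp [hy x hx]⟩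

end Groth.Agent.H1EssEt
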