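import Groth.Agent.H1EssEt.Basic
import Groth.Agent.EssEtLib.LocalHom
import Groth.Agent.S16448
import Groth.Agent.Hensel.HenselizationDescent

/-!
# Fraction rings of subalgebras of a strict henselization
-/

set_option autoImplicit false
universe u
open IsLocalRing

namespace Groth.Agent.H1EssEt

variable {A S : Type u} [CommRing A] [IsLocalRing A] [CommRing S] [IsLocalRing S] [Algebra A S]
  [IsLocalHom (algebraMap A S)] [Hensel.IsStrictHenselization A S]

theorem faithfullyFlat_subalgebra (E : Subalgebra A S) [IsLocalRing E] [IsLocalHom (algebraMap E S)]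
    (hE : EGA4loc.IsEssentiallyEtale A E) : Module.FaithfullyFlat E S := by
  haveI := weaklyEtale (A := A) (S := S)
  obtain ⟨C, _, _, q, _, _, _, _, -, hl⟩ := EtAlg7.exists_presentation hE
  letI : Algebra C S := Algebra.compHom S (algebraMap C E)
  haveI : IsScalarTower C E S := IsScalarTower.of_algebraMap_eq fun _ => rfl
  haveI : IsScalarTower A C S :=
    IsScalarTower.of_algebraMap_eq fun a => by
      show _ = algebraMap E S (algebraMap C E (algebraMap A C a))
      rw [← IsScalarTower.algebraMap_apply A C E, ← IsScalarTower.algebraMap_apply]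
  haveI : Algebra.WeaklyEtale C S := WEtLib.cancel (A := A) (B := C) S
  haveI : Module.Flat E S := (Module.flat_iff_of_isLocalization E q.primeCompl S).mpr inferInstance
  exact Module.FaithfullyFlat.of_flat_of_isLocalHom

theorem isSMulRegular_algebraMap {a : A} (ha : a ∈ nonZeroDivisors A) :
    IsSMulRegular S (algebraMap A S a) := by
  haveI := weaklyEtale (A := A) (S := S)
  haveI : Module.Flat A S := Algebra.WeaklyEtale.flat
  exact IsSMulRegular.of_flat (fun x y h => (mul_cancel_left_mem_nonZeroDivisors ha).mp h)

/-- An element some nonzerodivisor multiple of which lies in a local étale subalgebra lies in it. -/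
theorem mem_of_mul_mem (E : Subalgebra A S) [IsLocalRing E] [IsLocalHom (algebraMap E S)]
    (hE : EGA4loc.IsEssentiallyEtale A E) {a : A} (ha : a ∈ nonZeroDivisors A) {x : S}
    (hx : algebraMap A S a * x ∈ E) : x ∈ E := by
  haveI := faithfullyFlat_subalgebra E hE
  have h1 : (⟨_, hx⟩ : E) ∈ ((Ideal.span {algebraMap A E a}).map (algebraMap E S)).comap (algebraMap E S) := by
    rw [Ideal.mem_comap, Ideal.map_span, Set.image_singleton]
    exact Ideal.mem_span_singleton'.mpr ⟨x, mul_comm _ _⟩
  rw [Ideal.comap_map_eq_self_of_faithfullyFlat, Ideal.mem_span_singleton'] at h1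
  obtain ⟨e, he⟩ := h1
  have h2 : algebraMap A S a • (e : S) = algebraMap A S a • x := by
    rw [smul_eq_mul, smul_eq_mul, mul_comm]
    exact congrArg Subtype.val he
  exact isSMulRegular_algebraMap ha h2 ▸ e.2

theorem exists_eq_sq_mul {R : Type u} [CommRing R] [IsArtinianRing R] [IsReduced R] (y : R) :
    ∃ r, y = y ^ 2 * r := by
  obtain ⟨n, r, hr⟩ := IsArtinian.exists_pow_succ_smul_dvd y (1 : R)
  refine ⟨r, sub_eq_zero.mp (IsReduced.eq_zero _ ⟨n + 1, ?_⟩)⟩
  rw [smul_eq_mul, smul_eq_mul, mul_one] at hr
  have h2 : y - y ^ 2 * r = y * (1 - y * r) := by ring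
  rw [h2, mul_pow, pow_succ' y, pow_succ' (1 - y * r)]
  rw [Nat.succ_eq_add_one, pow_succ'] at hr
  linear_combination -(y * (1 - y * r) ^ n) * hr

set_option maxHeartbeats 800000 in
set_option synthInstance.maxHeartbeats 100000 in
theorem exists_mul_eq_algebraMap [IsReduced A] (hmin : (minimalPrimes A).Finite) (D : Subalgebra A S)
    {s : D} (hs : s ∈ nonZeroDivisors D) :
    ∃ a ∈ nonZeroDivisors A, ∃ d : D, s * d = algebraMap A D a := by
  classical
  obtain ⟨E, hsE, _, hEl, hE⟩ := exists_subalgebra_ge (A := A) {(s : S)}
  haveI := hEl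
  haveI := EssEtLib.isLocalHom_algebraMap hE
  haveI := EssEtFrac5.isArtinianRing_fractionRing hmin
  obtain ⟨hloc, t, ht⟩ := S16448.result A E hmin hE
  let y : FractionRing E := algebraMap E _ ⟨s, hsE (by simp)⟩
  have hu : ∀ a : nonZeroDivisors A, IsUnit ((algebraMap A (FractionRing E)) a) := fun a => by
    rw [IsScalarTower.algebraMap_apply A E (FractionRing E)]
    exact IsLocalization.map_units (M := (nonZeroDivisors A).map (algebraMap A E)) _
      ⟨_, Submonoid.mem_map_of_mem _ a.2⟩
  letI : Algebra (FractionRing A) (FractionRing E) := (IsLocalization.lift hu).toAlgebra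
  haveI : IsScalarTower A (FractionRing A) (FractionRing E) :=
    IsScalarTower.of_algebraMap_eq' (IsLocalization.lift_comp hu).symm
  haveI : Module.Finite (FractionRing A) (FractionRing E) := by
    refine ⟨⟨t, eq_top_iff.mpr fun x _ => ?_⟩⟩
    obtain ⟨a, ha, hax⟩ := ht x
    have h1 : algebraMap A (FractionRing E) a * x ∈
        Submodule.span (FractionRing A) (t : Set (FractionRing E)) :=
      Submodule.span_le_restrictScalars A (FractionRing A) _ hax
    have h2 := Submodule.smul_mem _ (IsLocalization.mk' (FractionRing A) 1 ⟨a, ha⟩) h1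
    have h3 : IsLocalization.mk' (FractionRing A) 1 (⟨a, ha⟩ : nonZeroDivisors A) *
        algebraMap A (FractionRing A) a = 1 := by
      simpa using IsLocalization.mk'_spec (FractionRing A) 1 (⟨a, ha⟩ : nonZeroDivisors A)
    rwa [Algebra.smul_def, ← mul_assoc, IsScalarTower.algebraMap_apply A (FractionRing A) (FractionRing E),
      ← map_mul, h3, map_one, one_mul] at h2
  let R := Algebra.adjoin (FractionRing A) ({y} : Set (FractionRing E))
  haveI : IsNoetherianRing (FractionRing A) := inferInstance
  haveI : Module.Finite (FractionRing A) R := Module.Finite.of_injective R.val.toLinearMap Subtype.val_injective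
  haveI : IsArtinianRing R := IsArtinianRing.of_finite (FractionRing A) R
  haveI : IsReduced S := (Groth.Agent.Hensel.isHenzLike_of_isStrictHenselization A S).isReduced_iff.mp inferInstance
  haveI : IsReduced E := isReduced_of_injective E.val.toRingHom Subtype.val_injective
  haveI : IsReduced (FractionRing E) :=
    isReduced_localizationPreserves (nonZeroDivisors E) (FractionRing E) inferInstance
  haveI : IsReduced R := isReduced_of_injective R.val.toRingHom Subtype.val_injective
  let yR : R := ⟨y, Algebra.self_mem_adjoin_singleton _ _⟩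
  obtain ⟨r, hyr⟩ := exists_eq_sq_mul yR
  obtain ⟨P, hP⟩ : (r : FractionRing E) ∈ (Polynomial.aeval (R := FractionRing A) y).range := by
    rw [← Algebra.adjoin_singleton_eq_range_aeval]
    exact r.2
  obtain ⟨a, ha, hP'⟩ := IsLocalization.integerNormalization_spec (nonZeroDivisors A) P
  let p := IsLocalization.integerNormalization (nonZeroDivisors A) P
  have hP2 : Polynomial.aeval y p = algebraMap A (FractionRing E) a * (r : FractionRing E) := by
    rw [← Polynomial.aeval_map_algebraMap (FractionRing A) y p,
      show p.map (algebraMap A (FractionRing A)) = a • P from hP']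
    rw [AlgHom.map_smul_of_tower, Algebra.smul_def, ← hP]
    rfl
  refine ⟨a, ha, Polynomial.aeval s p, ?_⟩
  have hyr' : y = y ^ 2 * (r : FractionRing E) := congrArg Subtype.val hyr
  have hE' : algebraMap A E a * (⟨s, hsE (by simp)⟩ : E) =
      (⟨s, hsE (by simp)⟩ : E) ^ 2 * Polynomial.aeval (⟨s, hsE (by simp)⟩ : E) p := by
    apply IsFractionRing.injective E (FractionRing E)
    rw [map_mul, map_mul, map_pow, ← IsScalarTower.algebraMap_apply, ← Polynomial.aeval_algebraMap_apply, hP2]
    linear_combination (algebraMap A (FractionRing E) a) * hyr'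
  have hS : algebraMap A S a * (s : S) = (s : S) ^ 2 * Polynomial.aeval (s : S) p := by
    have h := congrArg E.val hE'
    rw [map_mul, map_mul, map_pow, AlgHom.commutes, ← Polynomial.aeval_algHom_apply] at h
    exact h
  have hD : (s * Polynomial.aeval s p - algebraMap A D a) * s = 0 := by
    refine Subtype.ext ?_
    push_cast
    linear_combination -hS
  exact sub_eq_zero.mp (mem_nonZeroDivisors_iff_right.mp hs _ hD)

end Groth.Agent.H1EssEt
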