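import Groth.Agent.EtAlg7.EssEtale
import Groth.Agent.Hensel.EtaleReduced
import Mathlib

/-!
# Integral closure and base change along essentially étale algebras
-/

set_option autoImplicit false
universe u
open TensorProduct nonZeroDivisors

namespace Groth.Agent.H1EssEt

variable {A : Type u} [CommRing A] [IsLocalRing A] {E : Type u} [CommRing E] [Algebra A E]

/-- Integral closure commutes with essentially étale base change. -/
theorem bijective_toIntegralClosure (hE : EGA4loc.IsEssentiallyEtale A E) (B : Type u) [CommRing B]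
    [Algebra A B] : Function.Bijective (TensorProduct.toIntegralClosure A E B) := by
  obtain ⟨C, _, _, q, _, _, _, _, -, hl⟩ := EtAlg7.exists_presentation hE
  exact TensorProduct.toIntegralClosure_bijective_of_tower (S := C) (T := E)
    TensorProduct.toIntegralClosure_bijective_of_smooth
    (TensorProduct.toIntegralClosure_bijective_of_isLocalization q.primeCompl)

/-- An essentially étale algebra over a reduced ring is reduced. -/
theorem isReduced_tensor (hE : EGA4loc.IsEssentiallyEtale A E) (R : Type u) [CommRing R] [Algebra A R]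
    [IsReduced R] : IsReduced (R ⊗[A] E) := by
  obtain ⟨C, _, _, q, _, _, _, _, -, hl⟩ := EtAlg7.exists_presentation hE
  haveI : IsReduced (R ⊗[A] C) := Hensel.isReduced_of_etale R (R ⊗[A] C)
  let f : R ⊗[A] C →ₐ[A] R ⊗[A] E :=
    Algebra.TensorProduct.map (AlgHom.id A R) (IsScalarTower.toAlgHom A C E)
  letI := f.toRingHom.toAlgebra
  haveI : IsScalarTower R (R ⊗[A] C) (R ⊗[A] E) := IsScalarTower.of_algebraMap_eq fun r => by
    show r ⊗ₜ[A] (1 : E) = r ⊗ₜ[A] algebraMap C E 1
    rw [map_one]
  have := IsLocalization.tensorProduct_tensorProduct_right A R q.primeCompl E (by ext x; rfl)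
  exact isReduced_localizationPreserves
    (q.primeCompl.map (Algebra.TensorProduct.includeRight (R := A) (A := R))) _ inferInstance

/-- The base change of an essentially étale algebra to an Artinian ring is finite. -/
theorem finite_tensor (hE : EGA4loc.IsEssentiallyEtale A E) (R : Type u) [CommRing R] [Algebra A R]
    [IsArtinianRing R] : Module.Finite R (R ⊗[A] E) := by
  obtain ⟨C, _, _, q, _, _, _, _, -, hl⟩ := EtAlg7.exists_presentation hE
  haveI : Module.Finite R (R ⊗[A] C) := Module.Finite.of_quasiFinite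
  haveI : IsArtinianRing (R ⊗[A] C) := IsArtinianRing.of_finite R _
  let f : R ⊗[A] C →ₐ[R] R ⊗[A] E :=
    Algebra.TensorProduct.map (AlgHom.id R R) (IsScalarTower.toAlgHom A C E)
  haveI : IsArtinianRing f.toRingHom.range := (RingHom.rangeRestrict_surjective f.toRingHom).isArtinianRing
  suffices hf : Function.Surjective f from Module.Finite.of_surjective f.toLinearMap hf
  intro x
  induction x using TensorProduct.induction_on with
  | zero => exact ⟨0, map_zero f⟩
  | add x y hx hy =>
    obtain ⟨a, rfl⟩ := hx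
    obtain ⟨b, rfl⟩ := hy
    exact ⟨a + b, map_add f a b⟩
  | tmul r e =>
    obtain ⟨c, t, rfl⟩ := IsLocalization.exists_mk'_eq q.primeCompl e
    let t' : f.toRingHom.range := ⟨f ((1 : R) ⊗ₜ (t : C)), _, rfl⟩
    have htu : IsUnit (f ((1 : R) ⊗ₜ (t : C))) :=
      (IsLocalization.map_units E t).map (Algebra.TensorProduct.includeRight : E →ₐ[A] R ⊗[A] E)
    have ht' : IsUnit t' := IsArtinianRing.isUnit_of_mem_nonZeroDivisors
      (mem_nonZeroDivisors_iff_right.2 fun y hy =>
        Subtype.ext (htu.mul_left_eq_zero.1 (congrArg Subtype.val hy)))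
    obtain ⟨⟨u, w, hw⟩, hu'⟩ := ht'.exists_right_inv
    have hu'' : f ((1 : R) ⊗ₜ (t : C)) * u = 1 := congrArg Subtype.val hu'
    refine ⟨(r ⊗ₜ c) * w, ?_⟩
    rw [map_mul, show f w = u from hw]
    have hct : f (r ⊗ₜ c) = (r ⊗ₜ[A] IsLocalization.mk' E c t) * f ((1 : R) ⊗ₜ (t : C)) := by
      show r ⊗ₜ[A] algebraMap C E c = _ * ((1 : R) ⊗ₜ[A] algebraMap C E t)
      rw [Algebra.TensorProduct.tmul_mul_tmul, mul_one, IsLocalization.mk'_spec]
    rw [hct, mul_assoc, hu'', mul_one]

/-- In a reduced Artinian ring every ideal is generated by an idempotent. -/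
theorem exists_idempotent {R : Type u} [CommRing R] [IsArtinianRing R] [IsReduced R] (I : Ideal R) :
    ∃ e, IsIdempotentElem e ∧ I = Ideal.span {e} := by
  refine (Ideal.isIdempotentElem_iff_of_fg _ (IsNoetherian.noetherian I)).mp ?_
  refine le_antisymm Ideal.mul_le_right fun y hy => ?_
  obtain ⟨n, r, hr⟩ := IsArtinian.exists_pow_succ_smul_dvd y (1 : R)
  have h0 : y - y ^ 2 * r = 0 := IsReduced.eq_zero _ ⟨n + 1, by
    rw [smul_eq_mul, smul_eq_mul, mul_one, Nat.succ_eq_add_one, pow_succ'] at hr
    rw [show y - y ^ 2 * r = y * (1 - y * r) by ring, mul_pow, pow_succ' y, pow_succ' (1 - y * r)]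
    linear_combination -(y * (1 - y * r) ^ n) * hr⟩
  rw [show y = y * (y * r) by linear_combination h0]
  exact Ideal.mul_mem_mul hy (I.mul_mem_right r hy)

variable {S : Type u} [CommRing S] [Algebra A S] [Module.Flat A S]

/-- The map of total rings of fractions along a flat algebra. -/
noncomputable def fracMap (A S : Type u) [CommRing A] [CommRing S] [Algebra A S] [Module.Flat A S] :
    FractionRing A →ₐ[A] FractionRing S :=
  IsLocalization.liftAlgHom (M := A⁰) (f := Algebra.ofId A (FractionRing S)) fun a => by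
    show IsUnit (algebraMap A (FractionRing S) a)
    rw [IsScalarTower.algebraMap_apply A S (FractionRing S)]
    refine IsLocalization.map_units (M := S⁰) _ ⟨_, mem_nonZeroDivisors_iff_right.2 fun y hy => ?_⟩
    refine Module.Flat.isSMulRegular_of_nonZeroDivisors (M := S) a.2 ?_
    show (a : A) • y = (a : A) • 0
    rw [smul_zero, Algebra.smul_def, mul_comm]
    exact hy

/-- The canonical map to the total ring of fractions. -/
noncomputable def toFrac (E' : Subalgebra A S) : E' ⊗[A] FractionRing A →ₐ[E'] FractionRing S :=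
  Algebra.TensorProduct.lift (Algebra.ofId E' (FractionRing S)) (fracMap A S) fun _ _ => Commute.all _ _

theorem isUnit_algebraMap_frac (a : A⁰) : IsUnit (algebraMap A (FractionRing S) a) := by
  rw [← (fracMap A S).commutes]
  exact (IsLocalization.map_units (FractionRing A) a).map (fracMap A S)

theorem toFrac_tmul (E' : Subalgebra A S) (e : E') (k : FractionRing A) :
    toFrac E' (e ⊗ₜ k) = algebraMap S (FractionRing S) e * fracMap A S k := rfl

theorem exists_mul_tmul_one (E' : Subalgebra A S) (z : E' ⊗[A] FractionRing A) :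
    ∃ a : A⁰, ∃ e : E', z * ((1 : E') ⊗ₜ algebraMap A (FractionRing A) a) = e ⊗ₜ 1 := by
  induction z using TensorProduct.induction_on with
  | zero => exact ⟨1, 0, by rw [zero_mul, zero_tmul]⟩
  | tmul e k =>
    obtain ⟨⟨r, a⟩, h⟩ := IsLocalization.surj A⁰ k
    refine ⟨a, r • e, ?_⟩
    rw [Algebra.TensorProduct.tmul_mul_tmul, mul_one, h, Algebra.algebraMap_eq_smul_one, smul_tmul]
  | add x y hx hy =>
    obtain ⟨a, e, ha⟩ := hx
    obtain ⟨b, f, hb⟩ := hy
    refine ⟨a * b, (b : A) • e + (a : A) • f, ?_⟩
    have hab : ((1 : E') ⊗ₜ[A] algebraMap A (FractionRing A) (a * b : A⁰)) =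
        ((1 : E') ⊗ₜ[A] algebraMap A (FractionRing A) a) * ((1 : E') ⊗ₜ[A] algebraMap A (FractionRing A) b) := by
      rw [Algebra.TensorProduct.tmul_mul_tmul, mul_one, ← map_mul]; rfl
    have hs : ∀ (c : A) (w : E' ⊗[A] FractionRing A),
        c • w = ((1 : E') ⊗ₜ[A] algebraMap A (FractionRing A) c) * w := fun c w => by
      rw [Algebra.algebraMap_eq_smul_one, tmul_smul, ← Algebra.TensorProduct.one_def]
      exact ((smul_mul_assoc c 1 w).trans (by rw [one_mul])).symm
    rw [add_tmul, ← smul_tmul', ← smul_tmul', ← ha, ← hb, hab, hs, hs]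
    ring

theorem toFrac_injective (E' : Subalgebra A S) : Function.Injective (toFrac E') := by
  refine (injective_iff_map_eq_zero _).mpr fun z hz => ?_
  obtain ⟨a, e, h⟩ := exists_mul_tmul_one E' z
  have h1 := congrArg (toFrac E') h
  rw [map_mul, hz, zero_mul, toFrac_tmul, map_one, mul_one] at h1
  have he : e = 0 := Subtype.ext ((map_eq_zero_iff _ (IsFractionRing.injective S (FractionRing S))).mp h1.symm)
  rw [he, zero_tmul] at h
  exact ((IsLocalization.map_units (FractionRing A) a).map
    (Algebra.TensorProduct.includeRight : FractionRing A →ₐ[A] E' ⊗[A] FractionRing A)).mul_left_eq_zero.mp h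

/-- The normalisation of an essentially étale subalgebra is the base change of the normalisation. -/
theorem exists_toFrac_eq (E' : Subalgebra A S) (hE : EGA4loc.IsEssentiallyEtale A E')
    (x : FractionRing S) (hx : IsIntegral E' x)
    (ha : ∃ a ∈ A⁰, ∃ e ∈ E', algebraMap A (FractionRing S) a * x = algebraMap S (FractionRing S) e) :
    ∃ y : E' ⊗[A] integralClosure A (FractionRing A),
      toFrac E' (Algebra.TensorProduct.map (AlgHom.id E' E') (integralClosure A (FractionRing A)).val y) = x := by
  obtain ⟨a, ha, e, he, hae⟩ := ha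
  let z : E' ⊗[A] FractionRing A := (⟨e, he⟩ : E') ⊗ₜ IsLocalization.mk' (FractionRing A) 1 (⟨a, ha⟩ : A⁰)
  have hz : toFrac E' z = x := by
    refine (isUnit_algebraMap_frac (S := S) ⟨a, ha⟩).mul_left_cancel ?_
    rw [hae, toFrac_tmul, mul_left_comm]
    rw [← (fracMap A S).commutes, ← map_mul, mul_comm (algebraMap A _ _), IsLocalization.mk'_spec, map_one, map_one, mul_one]
  have hzi : IsIntegral E' z := (isIntegral_algHom_iff (toFrac E') (toFrac_injective E')).mp (hz ▸ hx)
  obtain ⟨y, hy⟩ := (bijective_toIntegralClosure hE (FractionRing A)).2 ⟨z, hzi⟩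
  exact ⟨y, (congrArg (toFrac E') (congrArg Subtype.val hy)).trans hz⟩

end Groth.Agent.H1EssEt
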