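import Groth.Agent.H1EssEt.Basic
import Groth.Agent.H1EssEt.Fraction
import Groth.Agent.H1EssEt.NormBase
import Groth.Agent.Hensel.Local
import Groth.Agent.Hensel.HenselizationDescent
import Groth.Agent.BrnchLib.NormBij
import Groth.Agent.BrnchLib.HenzStrict
import Groth.Agent.BrnchLib.Unibranch
import Mathlib

/-!
# Finite intermediate rings of the strict henselization of a henselian ring
-/

set_option autoImplicit false
universe u
open IsLocalRing

namespace Groth.Agent.H1EssEt

section

variable {A S : Type u} [CommRing A] [HenselianLocalRing A] [CommRing S] [IsLocalRing S] [Algebra A S]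
  [IsLocalHom (algebraMap A S)]

/-- A finite intermediate ring is local and dominated by `S`. -/
theorem isLocalHom_of_finite (D : Subalgebra A S) [Module.Finite A D] :
    IsLocalRing D ∧ IsLocalHom (algebraMap D S) := by
  classical
  obtain ⟨_, e, he, he'⟩ := Hensel.exists_idempotents_of_henselian A D
  let P : Ideal D := (maximalIdeal S).comap (algebraMap D S)
  haveI : P.IsPrime := Ideal.IsPrime.comap _
  have hP : P.IsMaximal := by
    refine Ideal.isMaximal_of_isIntegral_of_isMaximal_comap (R := A) P ?_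
    rw [Ideal.comap_comap, ← IsScalarTower.algebraMap_eq,
      ((local_hom_TFAE (algebraMap A S)).out 0 4 rfl rfl).mp inferInstance]
    exact maximalIdeal.isMaximal A
  have huniq : ∀ N : Ideal D, N.IsMaximal → N = P := fun N hN => by
    by_contra hne
    obtain ⟨hN1, hN2⟩ := he' ⟨N, hN⟩
    have hmem : e ⟨N, hN⟩ ∈ P := hN2 ⟨P, hP⟩ fun h => hne (congrArg MaximalSpectrum.asIdeal h).symm
    have hidem : IsIdempotentElem ((e ⟨N, hN⟩ : D) : S) := (he.idem ⟨N, hN⟩).map D.val
    rcases IsLocalRing.isUnit_or_isUnit_one_sub_self ((e ⟨N, hN⟩ : D) : S) with h | h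
    · exact hmem h
    · have h0 : ((e ⟨N, hN⟩ : D) : S) = 0 := by
        refine h.mul_right_eq_zero.mp ?_
        rw [sub_mul, one_mul, hidem.eq, sub_self]
      exact hN1 (by rw [show e ⟨N, hN⟩ = 0 from Subtype.ext h0]; exact N.zero_mem)
  have hloc : IsLocalHom (algebraMap D S) := ⟨fun d hd => by
    by_contra hnu
    obtain ⟨N, hN, hdN⟩ := exists_max_ideal_of_mem_nonunits hnu
    exact (huniq N hN ▸ hdN : d ∈ P) hd⟩
  exact ⟨(algebraMap D S).domain_isLocalRing, hloc⟩

end

/-- `S` is a strict henselization of every unramified intermediate local ring. -/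
theorem isStrictHenselization_of_formallyUnramified (A S : Type u) [CommRing A] [IsLocalRing A] [CommRing S]
    [IsLocalRing S] [Algebra A S] [IsLocalHom (algebraMap A S)] [hS : _root_.Hensel.IsStrictHenselization A S]
    (D : Subalgebra A S) [IsLocalRing D] [IsLocalHom (algebraMap D S)] [Algebra.EssFiniteType A D]
    [Algebra.FormallyUnramified A D] : _root_.Hensel.IsStrictHenselization D S := by
  haveI : IsLocalHom (algebraMap A D) :=
    ⟨fun a ha => isUnit_of_map_unit (algebraMap A S) a (ha.map D.val)⟩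
  haveI : IsScalarTower (ResidueField A) (ResidueField D) (ResidueField S) :=
    IsScalarTower.of_algebraMap_eq fun a => by
      obtain ⟨a, rfl⟩ := residue_surjective a
      rfl
  refine ⟨hS.henselian, ?_, ?_⟩
  · haveI := hS.isSepClosure.separable
    exact ⟨hS.isSepClosure.sep_closed, Algebra.isSeparable_tower_top_of_isSeparable (ResidueField A) _ _⟩
  intro T _ _ f _ τ hτ
  have hf0 : IsLocalHom (f.comp (algebraMap A D)) := inferInstance
  have hτ0 : τ.comp (ResidueField.map (algebraMap A S)) = ResidueField.map (f.comp (algebraMap A D)) := by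
    refine RingHom.ext fun a => ?_
    obtain ⟨a, rfl⟩ := residue_surjective a
    have h := RingHom.congr_fun hτ (residue D (algebraMap A D a))
    rw [RingHom.comp_apply, ResidueField.map_residue, ResidueField.map_residue,
      ← IsScalarTower.algebraMap_apply] at h
    rw [RingHom.comp_apply, ResidueField.map_residue, ResidueField.map_residue]
    exact h
  obtain ⟨g, ⟨hg, hgτ⟩, huniq⟩ := hS.universal T (f.comp (algebraMap A D)) τ hτ0
  letI : Algebra A T := (f.comp (algebraMap A D)).toAlgebra
  have hgD : g.comp (algebraMap D S) = f := by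
    let φ₁ : D →ₐ[A] T :=
      { g.comp (algebraMap D S) with
        commutes' := fun a => by
          show g (algebraMap D S (algebraMap A D a)) = _
          rw [← IsScalarTower.algebraMap_apply]
          exact RingHom.congr_fun hg a }
    let φ₂ : D →ₐ[A] T := { f with commutes' := fun a => rfl }
    have h : φ₁ = φ₂ := by
      refine Hensel.algHom_ext_of_le_jacobson (J := maximalIdeal T)
        (IsLocalRing.jacobson_eq_maximalIdeal ⊥ bot_ne_top).ge _ _ fun d => ?_
      refine Ideal.Quotient.eq.mp ?_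
      show residue T (g (algebraMap D S d)) = residue T (f d)
      rw [hgτ]
      have h := RingHom.congr_fun hτ (residue D d)
      rwa [RingHom.comp_apply, ResidueField.map_residue, ResidueField.map_residue] at h
    exact RingHom.ext fun d => congr($h d)
  refine ⟨g, ⟨hgD, hgτ⟩, fun g' ⟨hg', hg'τ⟩ => huniq g' ⟨?_, hg'τ⟩⟩
  rw [← hg', IsScalarTower.algebraMap_eq A D S]
  rfl

/-- A henselian local ring is its own henselization. -/
theorem isHenselization_self (R : Type u) [CommRing R] [HenselianLocalRing R] :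
    _root_.Hensel.IsHenselization R R :=
  ⟨inferInstance, fun _ _ _ f _ => ⟨f, RingHom.ext fun _ => rfl, fun _ hg => (RingHom.ext fun x => RingHom.congr_fun hg x)⟩⟩

/-- The contraction of minimal primes is injective iff the residue fields of the normalisation are purely
inseparable. -/
theorem injOn_minimalPrimes_iff (D S : Type u) [CommRing D] [HenselianLocalRing D] [IsNoetherianRing D]
    [CommRing S] [IsLocalRing S] [IsNoetherianRing S] [Algebra D S] [IsLocalHom (algebraMap D S)]
    [hS : _root_.Hensel.IsStrictHenselization D S] :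
    Set.InjOn (Ideal.comap (algebraMap D S)) (minimalPrimes S) ↔
      ∀ m : MaximalSpectrum (CAlg2.normRed D), Subsingleton (Brnch.Emb D m) := by
  classical
  haveI := isHenselization_self D
  haveI : IsLocalHom (algebraMap D D) := ⟨fun _ h => h⟩
  have hH := Groth.Agent.Hensel.isHenzLike_of_isStrictHenselization D S
  have hfD : (minimalPrimes D).Finite := minimalPrimes.finite_of_isNoetherianRing D
  have hfS : (minimalPrimes S).Finite := minimalPrimes.finite_of_isNoetherianRing S
  haveI := hfD.to_subtype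
  haveI := hfS.to_subtype
  have h1 := BrnchLib.card_minimalPrimes_strictHenselization D S
  have h2 := BrnchLib.card_minimalPrimes_henselization D D
  rw [Brnch.numGeomBranches, if_pos hfD] at h1
  rw [Brnch.numBranches, if_pos hfD] at h2
  haveI hfσ : Finite (Σ m : MaximalSpectrum (CAlg2.normRed D), Brnch.Emb D m) :=
    not_infinite_iff_finite.mp fun h => by
      exact (ENat.card_lt_top.mpr hfS.to_subtype).ne (h1.trans (ENat.card_eq_top.mpr h))
  haveI hfm : Finite (MaximalSpectrum (CAlg2.normRed D)) :=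
    not_infinite_iff_finite.mp fun h => by
      exact (ENat.card_lt_top.mpr hfD.to_subtype).ne (h2.trans (ENat.card_eq_top.mpr h))
  rw [ENat.card_eq_coe_natCard, ENat.card_eq_coe_natCard, Nat.cast_inj] at h1 h2
  let ψ : minimalPrimes S → minimalPrimes D := fun q =>
    ⟨q.1.comap (algebraMap D S), haveI := q.2.1.1; (BrnchLib.mem_minimalPrimes_iff_comap hH).1 q.2⟩
  have hψ : Function.Surjective ψ := fun p => by
    obtain ⟨q, hq, hqp⟩ := BrnchLib.exists_minimalPrimes_over hH p.2
    exact ⟨⟨q, hq⟩, Subtype.ext hqp⟩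
  have hfst : Function.Surjective (Sigma.fst : (Σ m : MaximalSpectrum (CAlg2.normRed D), Brnch.Emb D m) → _) :=
    fun m => ⟨⟨m, (BrnchLib.subsingleton_emb_iff D m).1.some⟩, rfl⟩
  calc Set.InjOn (Ideal.comap (algebraMap D S)) (minimalPrimes S) ↔ Function.Injective ψ :=
        ⟨fun h q q' hqq => Subtype.ext (h q.2 q'.2 (congrArg Subtype.val hqq)),
          fun h q hq q' hq' hqq => congrArg Subtype.val (@h ⟨q, hq⟩ ⟨q', hq'⟩ (Subtype.ext hqq))⟩
    _ ↔ Nat.card (minimalPrimes S) = Nat.card (minimalPrimes D) :=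
        ⟨fun h => Nat.card_eq_of_bijective ψ ⟨h, hψ⟩, fun h => (hψ.bijective_of_nat_card_le h.le).1⟩
    _ ↔ Nat.card (Σ m : MaximalSpectrum (CAlg2.normRed D), Brnch.Emb D m) =
          Nat.card (MaximalSpectrum (CAlg2.normRed D)) := by rw [h1, h2]
    _ ↔ Function.Injective (Sigma.fst : (Σ m : MaximalSpectrum (CAlg2.normRed D), Brnch.Emb D m) → _) :=
        ⟨fun h => (hfst.bijective_of_nat_card_le h.le).1, fun h => Nat.card_eq_of_bijective _ ⟨h, hfst⟩⟩
    _ ↔ ∀ m, Subsingleton (Brnch.Emb D m) :=
        ⟨fun h m => ⟨fun σ τ => eq_of_heq (Sigma.mk.inj (@h ⟨m, σ⟩ ⟨m, τ⟩ rfl)).2⟩,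
          fun h => by
            rintro ⟨m, σ⟩ ⟨m', τ⟩ hmm
            obtain rfl : m = m' := hmm
            rw [(h m).elim σ τ]⟩

/-- Purely inseparable residues. -/
def PI {D L : Type*} [Semiring D] [Semiring L] (q : ℕ) (f : D →+* L) : Prop :=
  ∀ x : L, ∃ n : ℕ, ∃ d : D, f d = x ^ q ^ n

theorem pi_congr {D L L' : Type*} [Semiring D] [Semiring L] [Semiring L'] (q : ℕ) (f : D →+* L)
    (e : L ≃+* L') : PI q (e.toRingHom.comp f) ↔ PI q f := by
  refine ⟨fun h x => ?_, fun h x => ?_⟩
  · obtain ⟨n, d, hd⟩ := h (e x)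
    exact ⟨n, d, e.injective (by rw [map_pow]; exact hd)⟩
  · obtain ⟨n, d, hd⟩ := h (e.symm x)
    refine ⟨n, d, ?_⟩
    show e (f d) = _
    rw [hd, map_pow, e.apply_symm_apply]

theorem ringExpChar_eq {D L : Type*} [CommRing D] [IsLocalRing D] [CommRing L] [IsDomain L] (f : D →+* L)
    (hf : ∀ d ∈ maximalIdeal D, f d = 0) :
    ExpChar L (ringExpChar (ResidueField D)) ∧ ringExpChar L = ringExpChar (ResidueField D) := by
  haveI : ExpChar (ResidueField D) (ringExpChar (ResidueField D)) := ringExpChar.expChar _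
  let φ : ResidueField D →+* L := Ideal.Quotient.lift _ f hf
  haveI h : ExpChar L (ringExpChar (ResidueField D)) := expChar_of_injective_ringHom φ.injective _
  exact ⟨h, ringExpChar.eq L _⟩

/-- The criterion of purely inseparable residues as a separable closure. -/
theorem separableClosure_eq_bot_iff_pi {D L : Type u} [CommRing D] [IsLocalRing D] [Field L] (f : D →+* L)
    (hint : f.IsIntegral) (hm : ∀ d ∈ maximalIdeal D, f d = 0) :
    separableClosure (Subfield.closure (Set.range f)) L = ⊥ ↔ PI (ringExpChar (ResidueField D)) f := by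
  obtain ⟨hexp, -⟩ := ringExpChar_eq f hm
  set k₀ := Subfield.closure (Set.range f) with hk₀
  let φ : ResidueField D →+* L := Ideal.Quotient.lift _ f hm
  have hrange : ∀ x : L, x ∈ k₀ → ∃ d, f d = x := fun x hx => by
    have h : k₀ ≤ φ.fieldRange := Subfield.closure_le.mpr (by rintro _ ⟨d, rfl⟩; exact ⟨residue D d, rfl⟩)
    obtain ⟨z, hz⟩ := h hx
    obtain ⟨d, rfl⟩ := residue_surjective z
    exact ⟨d, hz⟩
  let f₀ : D →+* k₀ := f.codRestrict k₀ fun d => Subfield.subset_closure ⟨d, rfl⟩
  haveI : Algebra.IsIntegral k₀ L := ⟨fun x => by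
    obtain ⟨p, hp, hp0⟩ := hint x
    refine ⟨p.map f₀, hp.map _, ?_⟩
    rw [Polynomial.eval₂_map]
    exact hp0⟩
  haveI : Algebra.IsAlgebraic k₀ L := Algebra.IsIntegral.isAlgebraic
  haveI : ExpChar k₀ (ringExpChar (ResidueField D)) := by
    haveI := hexp
    haveI : ExpChar k₀ (ringExpChar k₀) := ringExpChar.expChar k₀
    haveI : ExpChar L (ringExpChar k₀) := expChar_of_injective_ringHom (algebraMap k₀ L).injective _
    rw [← (ringExpChar.eq L (ringExpChar (ResidueField D))), ringExpChar.eq L (ringExpChar k₀)]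
    infer_instance
  rw [separableClosure.eq_bot_iff, isPurelyInseparable_iff_pow_mem k₀ (ringExpChar (ResidueField D))]
  refine forall_congr' fun x => exists_congr fun n => ⟨?_, ?_⟩
  · rintro ⟨z, hz⟩
    obtain ⟨d, hd⟩ := hrange z z.2
    exact ⟨d, hd.trans hz⟩
  · rintro ⟨d, hd⟩
    exact ⟨f₀ d, hd⟩

theorem subsingleton_emb_iff_pi {D : Type u} [CommRing D] [IsLocalRing D] (m : MaximalSpectrum (CAlg2.normRed D)) :
    Subsingleton (Brnch.Emb D m) ↔ PI (ringExpChar (ResidueField D)) (Brnch.toResidue D m) := by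
  haveI := m.isMaximal
  letI : Field (CAlg2.normRed D ⧸ m.asIdeal) := Ideal.Quotient.field _
  have hker : ∀ d ∈ maximalIdeal D, Brnch.toResidue D m d = 0 := by
    letI := (Brnch.toResidue D m).toAlgebra
    haveI : Algebra.IsIntegral D (CAlg2.normRed D ⧸ m.asIdeal) := ⟨BrnchLib.toResidue_isIntegral D m⟩
    haveI : (⊥ : Ideal (CAlg2.normRed D ⧸ m.asIdeal)).IsMaximal := Ideal.bot_isMaximal
    have := IsLocalRing.eq_maximalIdeal (Ideal.isMaximal_comap_of_isIntegral_of_isMaximal (R := D)
      (S := CAlg2.normRed D ⧸ m.asIdeal) (⊥ : Ideal (CAlg2.normRed D ⧸ m.asIdeal)))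
    exact fun d hd => this.ge hd
  rw [(BrnchLib.subsingleton_emb_iff D m).2, (ringExpChar_eq _ hker).2]
  exact forall_congr' fun x => exists_congr fun n => Iff.rfl

/-- Integral closures in total rings of fractions along a ring isomorphism. -/
theorem exists_integralClosure_equiv {R R' : Type u} [CommRing R] [CommRing R'] (e : R ≃+* R') :
    ∃ φ : integralClosure R (FractionRing R) ≃+* integralClosure R' (FractionRing R'),
      ∀ r, φ (algebraMap R _ r) = algebraMap R' _ (e r) := by
  let Ψ : FractionRing R ≃+* FractionRing R' := IsFractionRing.ringEquivOfRingEquiv e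
  have hΨ : ∀ r, Ψ (algebraMap R _ r) = algebraMap R' _ (e r) :=
    fun r => IsFractionRing.ringEquivOfRingEquiv_algebraMap e r
  have h1 : ∀ x, IsIntegral R x → IsIntegral R' (Ψ x) := fun x hx =>
    IsIntegral.map_of_comp_eq e.toRingHom Ψ.toRingHom (RingHom.ext fun r => (hΨ r).symm) hx
  have h2 : ∀ y, IsIntegral R' y → IsIntegral R (Ψ.symm y) := fun y hy =>
    IsIntegral.map_of_comp_eq e.symm.toRingHom Ψ.symm.toRingHom (RingHom.ext fun r => by
      show algebraMap R (FractionRing R) (e.symm r) = Ψ.symm (algebraMap R' (FractionRing R') r)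
      rw [RingEquiv.eq_symm_apply, hΨ, e.apply_symm_apply]) hy
  refine ⟨{ toFun := fun x => ⟨Ψ x, h1 _ x.2⟩
            invFun := fun y => ⟨Ψ.symm y, h2 _ y.2⟩
            left_inv := fun x => Subtype.ext (Ψ.symm_apply_apply _)
            right_inv := fun y => Subtype.ext (Ψ.apply_symm_apply _)
            map_mul' := fun x y => Subtype.ext (map_mul Ψ _ _)
            map_add' := fun x y => Subtype.ext (map_add Ψ _ _) }, fun r => Subtype.ext (hΨ r)⟩

end Groth.Agent.H1EssEt
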