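import Groth.Agent.H1EssEt.Rigid
import Groth.Agent.H1EssEt.FiniteInter
import Groth.Agent.H1Gal.Main
import Mathlib

/-!
# Arbitrary intermediate rings of the strict henselization of a henselian ring
-/

set_option autoImplicit false
universe u
open IsLocalRing

namespace Groth.Agent.H1EssEt

variable {A S : Type u} [CommRing A] [HenselianLocalRing A] [CommRing S] [IsLocalRing S] [Algebra A S]
  [IsLocalHom (algebraMap A S)] [_root_.Hensel.IsStrictHenselization A S]

/-- The strict henselization of a henselian local ring is integral over it. -/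
theorem isIntegral_strictHenselization (A S : Type u) [CommRing A] [HenselianLocalRing A] [CommRing S]
    [IsLocalRing S] [Algebra A S] [IsLocalHom (algebraMap A S)] [_root_.Hensel.IsStrictHenselization A S] :
    Algebra.IsIntegral A S := ⟨fun x => by
  obtain ⟨l, E, hE, -, hgE⟩ := H1Gal.exists_isFE_ge (A := A) (S := S) {x}
  haveI := hE.finite
  exact (Algebra.IsIntegral.isIntegral (⟨x, hgE (by simp)⟩ : E)).map E.val⟩

theorem isIntegral_subalgebra (D : Subalgebra A S) : Algebra.IsIntegral A D :=
  haveI := isIntegral_strictHenselization A S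
  ⟨fun x => (isIntegral_algHom_iff D.val Subtype.val_injective).mp (Algebra.IsIntegral.isIntegral (x : S))⟩

/-- Every intermediate ring is local and dominated by `S`. -/
theorem isLocalHom_subalgebra (D : Subalgebra A S) :
    IsLocalRing D ∧ IsLocalHom (algebraMap D S) := by
  haveI := isIntegral_strictHenselization A S
  have hloc : IsLocalHom (algebraMap D S) := ⟨fun x hx => by
    have hle : Algebra.adjoin A {(x : S)} ≤ D := Algebra.adjoin_le (Set.singleton_subset_iff.mpr x.2)
    haveI : Module.Finite A (Algebra.adjoin A {(x : S)}) :=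
      Module.Finite.iff_fg.mpr (Algebra.IsIntegral.isIntegral (x : S)).fg_adjoin_singleton
    haveI := (isLocalHom_of_finite (Algebra.adjoin A {(x : S)})).2
    exact (isUnit_of_map_unit (algebraMap (Algebra.adjoin A {(x : S)}) S)
      ⟨_, Algebra.self_mem_adjoin_singleton A (x : S)⟩ hx).map (Subalgebra.inclusion hle)⟩
  exact ⟨(algebraMap D S).domain_isLocalRing, hloc⟩

/-- Every intermediate ring is henselian. -/
theorem henselianLocalRing_subalgebra (D : Subalgebra A S) [IsLocalRing D] : HenselianLocalRing D := by
  haveI := isIntegral_subalgebra D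
  haveI : IsLocalHom (algebraMap D S) := (isLocalHom_subalgebra D).2
  have : HenselianRing D ((maximalIdeal A).map (algebraMap A D)) := Hensel.henselianRing_of_isIntegral' _ D
  refine Hensel.henselianLocalRing_of_radical_eq D ((maximalIdeal A).map (algebraMap A D))
    (le_antisymm ?_ ?_)
  · refine (Ideal.IsPrime.radical_le_iff inferInstance).mpr (Ideal.map_le_iff_le_comap.mpr fun a ha => ?_)
    rw [Ideal.mem_comap, mem_maximalIdeal, mem_nonunits_iff]
    exact fun hu => ha (isUnit_of_map_unit (algebraMap A S) a (hu.map D.val))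
  · rw [Ideal.radical_eq_sInf, le_sInf_iff]
    rintro P ⟨hP, hPp⟩
    have : P.IsPrime := hPp
    have hc : (P.comap (algebraMap A D)).IsMaximal := by
      have : maximalIdeal A ≤ P.comap (algebraMap A D) := Ideal.map_le_iff_le_comap.mp hP
      rw [← (maximalIdeal.isMaximal A).eq_of_le (Ideal.IsPrime.ne_top inferInstance) this]
      infer_instance
    exact (eq_maximalIdeal (Ideal.isMaximal_of_isIntegral_of_isMaximal_comap P hc)).ge

/-- The residue field of an intermediate ring inside the residue field of `S`. -/
noncomputable def resField (D : Subalgebra A S) : Subfield (ResidueField S) := Subfield.closure (residue S '' D)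

theorem algebraMap_mem_resField (D : Subalgebra A S) (a : A) :
    residue S (algebraMap A S a) ∈ resField D :=
  Subfield.subset_closure ⟨_, D.algebraMap_mem a, rfl⟩

theorem exists_residue_eq (D : Subalgebra A S) {ω : ResidueField S} (hω : ω ∈ resField D) :
    ∃ d ∈ D, residue S d = ω := by
  haveI := (isLocalHom_subalgebra D).1
  haveI := (isLocalHom_subalgebra D).2
  have hle : resField D ≤ (ResidueField.map (algebraMap D S)).fieldRange := Subfield.closure_le.mpr (by
    rintro _ ⟨d, hd, rfl⟩
    exact ⟨residue D ⟨d, hd⟩, ResidueField.map_residue _ _⟩)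
  obtain ⟨z, hz⟩ := hle hω
  obtain ⟨d, rfl⟩ := residue_surjective z
  exact ⟨d, d.2, (ResidueField.map_residue (algebraMap D S) d).symm.trans hz⟩

/-- A subalgebra contains the good subalgebras for any field inside its residue field. -/
theorem goodUnion_le (D : Subalgebra A S) (Ω : Subfield (ResidueField S))
    (hΩ : ∀ a : A, residue S (algebraMap A S a) ∈ Ω) (h : Ω ≤ resField D) : goodUnion A Ω hΩ ≤ D := by
  haveI := (isLocalHom_subalgebra D).1
  haveI := henselianLocalRing_subalgebra D
  haveI := (isLocalHom_subalgebra D).2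
  rintro x ⟨E, hxE, _, _, hE, hr⟩
  refine le_of_henselian D E hE (fun y hy => ?_) hxE
  obtain ⟨d, hd, hdy⟩ := exists_residue_eq D (h (hr y hy))
  exact ⟨d, hd, hdy.symm⟩

/-- A subalgebra over which `S` is flat is the union of the good subalgebras for its residue field. -/
theorem eq_goodUnion_of_flat (D : Subalgebra A S) [Module.Flat D S] :
    D = goodUnion A (resField D) (algebraMap_mem_resField D) := by
  haveI := (isLocalHom_subalgebra D).1
  haveI := henselianLocalRing_subalgebra D
  haveI := (isLocalHom_subalgebra D).2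
  refine le_antisymm (fun x hx => ?_) (goodUnion_le D _ _ le_rfl)
  obtain ⟨E, hxE, hED, _, hl, hE⟩ := exists_essEtale_of_henselian_flat D {x} (by simpa using hx)
  exact ⟨E, hxE (by simp), ‹_›, hl, hE, fun y hy => Subfield.subset_closure ⟨y, hED hy, rfl⟩⟩

section good

variable (Ω : Subfield (ResidueField S)) (hΩ : ∀ a : A, residue S (algebraMap A S a) ∈ Ω)

/-- Ideals of the union of good subalgebras are contracted from `S`. -/
theorem comap_map_goodUnion (I : Ideal (goodUnion A Ω hΩ)) :
    (I.map (algebraMap (goodUnion A Ω hΩ) S)).comap (algebraMap (goodUnion A Ω hΩ) S) = I := by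
  classical
  refine le_antisymm (fun x hx => ?_) Ideal.le_comap_map
  rw [Ideal.mem_comap, Ideal.map] at hx
  obtain ⟨s, hsI, hxs⟩ := Submodule.mem_span_finite_of_mem_span hx
  obtain ⟨E, hE, hgood⟩ := exists_isGood_finset Ω hΩ (insert (x : S) s) fun y hy => by
    rcases Finset.mem_insert.mp hy with rfl | hy
    · exact x.2
    · obtain ⟨z, -, rfl⟩ := hsI (Finset.mem_coe.mpr hy); exact z.2
  rw [Finset.coe_insert, Set.insert_subset_iff] at hE
  obtain ⟨_, hl, he, -⟩ := id hgood
  haveI := faithfullyFlat_subalgebra E he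
  have hle : E ≤ goodUnion A Ω hΩ := fun y hy => ⟨E, hy, hgood⟩
  let j := Subalgebra.inclusion hle
  have h1 : (⟨x, hE.1⟩ : E) ∈ ((I.comap j).map (algebraMap E S)).comap (algebraMap E S) := by
    rw [Ideal.mem_comap]
    refine (Submodule.span_le.mpr ?_) hxs
    intro y hy
    obtain ⟨z, hzI, rfl⟩ := hsI hy
    exact Ideal.mem_map_of_mem (algebraMap E S) (x := (⟨_, hE.2 hy⟩ : E)) (Ideal.mem_comap.mpr
      ((show j ⟨_, hE.2 hy⟩ = z from Subtype.ext rfl).symm ▸ hzI : j ⟨_, hE.2 hy⟩ ∈ I))
  rw [Ideal.comap_map_eq_self_of_faithfullyFlat, Ideal.mem_comap] at h1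
  exact h1

/-- The union of good subalgebras is Noetherian. -/
theorem isNoetherianRing_goodUnion [IsNoetherianRing A] : IsNoetherianRing (goodUnion A Ω hΩ) := by
  haveI : IsNoetherianRing S := H1Gal.isNoetherianRing A
  have hmono : StrictMono fun I : Ideal (goodUnion A Ω hΩ) => I.map (algebraMap (goodUnion A Ω hΩ) S) :=
    Monotone.strictMono_of_injective (fun I J h => Ideal.map_mono h) fun I J h => by
      rw [← comap_map_goodUnion Ω hΩ I, ← comap_map_goodUnion Ω hΩ J]
      exact congrArg _ h
  rw [isNoetherianRing_iff, isNoetherian_iff']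
  exact hmono.wellFoundedGT

/-- A larger union is generated over a smaller one by a finite étale subalgebra generating the residues. -/
theorem goodUnion_le_sup (E : Subalgebra A S) (Ω' : Subfield (ResidueField S))
    (hΩ' : ∀ a : A, residue S (algebraMap A S a) ∈ Ω')
    (hgen : Ω' ≤ Subfield.closure ((Ω : Set (ResidueField S)) ∪ residue S '' E)) :
    goodUnion A Ω' hΩ' ≤ goodUnion A Ω hΩ ⊔ E := by
  refine goodUnion_le _ Ω' hΩ' (hgen.trans (Subfield.closure_le.mpr ?_))
  rintro ω (hω | ⟨y, hy, rfl⟩)
  · obtain ⟨y, hy, rfl⟩ := exists_mem_goodUnion (A := A) Ω hΩ hω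
    exact Subfield.subset_closure ⟨y, (le_sup_left : _ ≤ goodUnion A Ω hΩ ⊔ E) hy, rfl⟩
  · exact Subfield.subset_closure ⟨y, (le_sup_right : _ ≤ goodUnion A Ω hΩ ⊔ E) hy, rfl⟩

set_option maxHeartbeats 1000000 in
/-- Subalgebras inside the sup of a Noetherian ring and a finite algebra are Noetherian over the former. -/
theorem sup_le_span {G E : Subalgebra A S} [Module.Finite A E] :
    ∃ gens : Finset S, (gens : Set S) ⊆ E ∧
      ((G ⊔ E : Subalgebra A S) : Set S) ⊆ (Submodule.span G (gens : Set S) : Set S) := by
  classical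
  obtain ⟨gens, hgens⟩ := Module.Finite.iff_fg.mp (show Module.Finite A E.toSubmodule from ‹Module.Finite A E›)
  have hsub : (gens : Set S) ⊆ E := fun x hx => by
    have h : x ∈ Submodule.span A (gens : Set S) := Submodule.subset_span hx
    rwa [hgens] at h
  refine ⟨gens, hsub, ?_⟩
  have hE : (E : Set S) ⊆ (Submodule.span G (gens : Set S) : Set S) := fun x hx => by
    have h : x ∈ Submodule.span A (gens : Set S) := hgens ▸ hx
    exact Submodule.span_le_restrictScalars A G _ h
  let T : Subalgebra G S := Algebra.adjoin G (E : Set S)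
  have hle : G ⊔ E ≤ T.restrictScalars A :=
    sup_le (fun x hx => T.algebraMap_mem ⟨x, hx⟩) fun x hx => Algebra.subset_adjoin hx
  refine Set.Subset.trans hle ?_
  show (Subalgebra.toSubmodule T : Set S) ⊆ _
  rw [Algebra.adjoin_eq_span, show (Submonoid.closure (E : Set S) : Set S) = E from
    congrArg SetLike.coe (Submonoid.closure_eq E.toSubsemiring.toSubmonoid)]
  exact Submodule.span_le.mpr hE

/-- An intermediate ring inside a finite extension of a union of good subalgebras contained in it is
Noetherian. -/
theorem isNoetherianRing_of_le_sup [IsNoetherianRing A] (D E : Subalgebra A S) [Module.Finite A E]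
    (hG : goodUnion A Ω hΩ ≤ D) (hD : D ≤ goodUnion A Ω hΩ ⊔ E) : IsNoetherianRing D := by
  haveI := isNoetherianRing_goodUnion (A := A) Ω hΩ
  letI : Algebra (goodUnion A Ω hΩ) D := (Subalgebra.inclusion hG).toRingHom.toAlgebra
  haveI : IsScalarTower (goodUnion A Ω hΩ) D S := IsScalarTower.of_algebraMap_eq fun _ => rfl
  obtain ⟨gens, -, hgens⟩ := sup_le_span (G := goodUnion A Ω hΩ) (E := E)
  let P : Submodule (goodUnion A Ω hΩ) S := Submodule.span (goodUnion A Ω hΩ) (gens : Set S)
  haveI : Module.Finite (goodUnion A Ω hΩ) P := Module.Finite.span_of_finite _ gens.finite_toSet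
  haveI : IsNoetherian (goodUnion A Ω hΩ) P := isNoetherian_of_isNoetherianRing_of_finite _ _
  haveI : IsNoetherian (goodUnion A Ω hΩ) D :=
    isNoetherian_of_injective (LinearMap.codRestrict P
      (IsScalarTower.toAlgHom (goodUnion A Ω hΩ) D S).toLinearMap fun d => hgens (hD d.2))
      fun x y h => Subtype.ext congr(Subtype.val $h)
  exact isNoetherianRing_iff.mpr (isNoetherian_of_tower (goodUnion A Ω hΩ) inferInstance)

end good

end Groth.Agent.H1EssEt
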