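import Groth.Agent.H1EssEt.Basic
import Groth.Agent.S12237
import Groth.Agent.Hensel.EtaleResidueExt
import Groth.Agent.Hensel.Local
import Groth.Agent.EssEtLib.Trans
import Groth.Agent.EtAlg7.EssEtale
import Mathlib

/-!
# Henselian intermediate rings of a strict henselization

A henselian intermediate ring over which the strict henselization is flat is the union of the
essentially étale subalgebras with residues in its residue field.
-/

set_option autoImplicit false
universe u
open IsLocalRing Polynomial

namespace Groth.Agent.H1EssEt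

variable {A S : Type u} [CommRing A] [IsLocalRing A] [CommRing S] [IsLocalRing S] [Algebra A S]
  [IsLocalHom (algebraMap A S)] [Hensel.IsStrictHenselization A S]

omit [Hensel.IsStrictHenselization A S] in
/-- An étale map with residues in those of a henselian intermediate ring factors through it. -/
theorem range_le_of_henselian (R : Subalgebra A S) [HenselianLocalRing R] [IsLocalHom (algebraMap R S)]
    {C : Type u} [CommRing C] [Algebra A C] [Algebra.Etale A C] (β : C →ₐ[A] S)
    (h : ∀ c, ∃ y ∈ R, residue S (β c) = residue S y) : β.range ≤ R := by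
  haveI : IsLocalHom (algebraMap A R) :=
    ⟨fun a ha => isUnit_of_map_unit (algebraMap A S) a (ha.map R.val)⟩
  choose f hf hfc using h
  let α : C →+* ResidueField R :=
    { toFun := fun c => residue R ⟨f c, hf c⟩
      map_one' := (ResidueField.map (algebraMap R S)).injective (by
        rw [map_one, ResidueField.map_residue]; exact (hfc 1).symm.trans (by rw [map_one, map_one]))
      map_mul' := fun x y => (ResidueField.map (algebraMap R S)).injective (by
        rw [map_mul, ResidueField.map_residue, ResidueField.map_residue, ResidueField.map_residue]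
        show residue S (f (x * y)) = residue S (f x) * residue S (f y)
        rw [← hfc, ← hfc, ← hfc, map_mul, map_mul])
      map_zero' := (ResidueField.map (algebraMap R S)).injective (by
        rw [map_zero, ResidueField.map_residue]; exact (hfc 0).symm.trans (by rw [map_zero, map_zero]))
      map_add' := fun x y => (ResidueField.map (algebraMap R S)).injective (by
        rw [map_add, ResidueField.map_residue, ResidueField.map_residue, ResidueField.map_residue]
        show residue S (f (x + y)) = residue S (f x) + residue S (f y)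
        rw [← hfc, ← hfc, ← hfc, map_add, map_add]) }
  have hα : ∀ c, ResidueField.map (algebraMap R S) (α c) = residue S (β c) := fun c =>
    (ResidueField.map_residue _ _).trans (hfc c).symm
  let σ : C →ₐ[A] R ⧸ maximalIdeal R :=
    AlgHom.mk α (fun a => (ResidueField.map (algebraMap R S)).injective (by
      show _ = ResidueField.map (algebraMap R S) (residue R (algebraMap A R a))
      refine (hα _).trans ?_
      rw [ResidueField.map_residue, ← IsScalarTower.algebraMap_apply]
      exact congrArg (residue S) (β.commutes a)))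
  obtain ⟨τ, hτ, -⟩ := Hensel.existsUnique_etale_lift_of_algebra (maximalIdeal R) σ
  have heq : R.val.comp τ = β := by
    refine Hensel.algHom_ext_of_le_jacobson (J := maximalIdeal S)
      (IsLocalRing.jacobson_eq_maximalIdeal ⊥ bot_ne_top).ge _ _ fun c => ?_
    refine Ideal.Quotient.eq.mp ?_
    show residue S (algebraMap R S (τ c)) = residue S (β c)
    rw [← ResidueField.map_residue, show residue R (τ c) = α c from congr($hτ c)]
    exact hα c
  rintro _ ⟨c, rfl⟩
  exact heq ▸ (τ c).2

omit [Hensel.IsStrictHenselization A S] in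
/-- An essentially étale subalgebra with residues in those of a henselian intermediate ring lies in it. -/
theorem le_of_henselian (R : Subalgebra A S) [HenselianLocalRing R] [IsLocalHom (algebraMap R S)]
    (E : Subalgebra A S) (hE : EGA4loc.IsEssentiallyEtale A E)
    (h : ∀ x ∈ E, ∃ y ∈ R, residue S x = residue S y) : E ≤ R := by
  obtain ⟨C, _, _, q, _, _, _, _, -, hl⟩ := EtAlg7.exists_presentation hE
  let β : C →ₐ[A] S := E.val.comp (IsScalarTower.toAlgHom A C E)
  have hβ := range_le_of_henselian R β fun c => h _ (algebraMap C E c).2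
  intro x hx
  obtain ⟨⟨c, t⟩, hct⟩ := IsLocalization.surj q.primeCompl (⟨x, hx⟩ : E)
  have hu : IsUnit (β t) := (IsLocalization.map_units E t).map E.val
  have hc : x * β t = β c := congrArg Subtype.val hct
  have hu' : IsUnit (⟨β t, hβ ⟨_, rfl⟩⟩ : R) := isUnit_of_map_unit (algebraMap R S) _ hu
  obtain ⟨v, hv⟩ := hu'.exists_right_inv
  have hv' : β t * (v : S) = 1 := congrArg Subtype.val hv
  rw [show x = β c * (v : S) by rw [← hc, mul_assoc, hv', mul_one]]
  exact mul_mem (hβ ⟨_, rfl⟩) v.2

/-- An essentially étale local subalgebra with residues in `Ω`. -/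
def IsGood (Ω : Subfield (ResidueField S)) (E : Subalgebra A S) : Prop :=
  ∃ _ : IsLocalRing E, IsLocalHom (algebraMap E S) ∧ EGA4loc.IsEssentiallyEtale A E ∧ ∀ x ∈ E, residue S x ∈ Ω

/-- An étale algebra mapping to `S` with residues in `Ω` gives a good subalgebra. -/
theorem exists_isGood_of_etale (Ω : Subfield (ResidueField S)) {C : Type u} [CommRing C]
    [Algebra A C] [Algebra.Etale A C] (β : C →ₐ[A] S) (h : ∀ c, residue S (β c) ∈ Ω) :
    ∃ E : Subalgebra A S, β.range ≤ E ∧ IsGood Ω E := by
  haveI := weaklyEtale (A := A) (S := S)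
  let q : Ideal C := (maximalIdeal S).comap β
  have hu : ∀ y : q.primeCompl, IsUnit (β y) := fun y => IsLocalRing.notMem_maximalIdeal.mp y.2
  let χ : Localization.AtPrime q →ₐ[A] S := IsLocalization.liftAlgHom (f := β) hu
  have hχ : ∀ c, χ (algebraMap C (Localization.AtPrime q) c) = β c := fun c => IsLocalization.lift_eq _ c
  haveI hχl : IsLocalHom χ.toRingHom := by
    refine ⟨fun z hz => ?_⟩
    obtain ⟨c, s, rfl⟩ := IsLocalization.exists_mk'_eq q.primeCompl z
    rw [IsLocalization.AtPrime.isUnit_mk'_iff]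
    intro hc
    refine (IsLocalRing.mem_maximalIdeal _).mp (Ideal.mem_comap.mp hc) ?_
    rw [← hχ, ← IsLocalization.mk'_spec (Localization.AtPrime q) c s, map_mul]
    exact IsUnit.mul hz (by rw [hχ]; exact hu s)
  have hinj : Function.Injective χ := injective_of_isLocalHom q χ
  let e : Localization.AtPrime q ≃ₐ[A] χ.range := AlgEquiv.ofInjective χ hinj
  haveI : IsLocalRing χ.range := e.toRingEquiv.isLocalRing
  have hloc : IsLocalHom (algebraMap χ.range S) := by
    refine ⟨fun x hx => ?_⟩
    obtain ⟨z, rfl⟩ := e.surjective x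
    exact (hχl.map_nonunit z hx).map e
  have hcomap : q.comap (algebraMap A C) = maximalIdeal A := by
    ext a
    show β (algebraMap A C a) ∈ maximalIdeal S ↔ _
    rw [β.commutes, mem_maximalIdeal, mem_maximalIdeal, mem_nonunits_iff, mem_nonunits_iff]
    exact not_congr ⟨isUnit_of_map_unit _ a, fun h => h.map _⟩
  refine ⟨χ.range, ?_, inferInstance, hloc,
    ⟨C, inferInstance, inferInstance, q, inferInstance, inferInstance, hcomap, ⟨e.symm⟩⟩, ?_⟩
  · rintro _ ⟨c, rfl⟩
    exact ⟨_, hχ c⟩
  · rintro _ ⟨z, rfl⟩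
    obtain ⟨c, s, rfl⟩ := IsLocalization.exists_mk'_eq q.primeCompl z
    have h1 : χ (IsLocalization.mk' (Localization.AtPrime q) c s) * β s = β c := by
      rw [← hχ s, ← map_mul, IsLocalization.mk'_spec, hχ]
    have h2 := congrArg (residue S) h1
    rw [map_mul] at h2
    have h3 : residue S (β s) ≠ 0 := (residue_ne_zero_iff_isUnit _).mpr (hu s)
    show residue S (χ _) ∈ Ω
    rw [eq_div_of_mul_eq h3 h2]
    exact div_mem (h c) (h s)

/-- Good subalgebras are directed. -/
theorem exists_isGood_sup (Ω : Subfield (ResidueField S)) {E₁ E₂ : Subalgebra A S} (h₁ : IsGood Ω E₁)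
    (h₂ : IsGood Ω E₂) : ∃ E : Subalgebra A S, E₁ ≤ E ∧ E₂ ≤ E ∧ IsGood Ω E := by
  obtain ⟨_, hl₁, he₁, hr₁⟩ := h₁
  obtain ⟨_, hl₂, he₂, hr₂⟩ := h₂
  obtain ⟨C₁, _, _, q₁, _, _, _, _, -, hC₁⟩ := EtAlg7.exists_presentation he₁
  obtain ⟨C₂, _, _, q₂, _, _, _, _, -, hC₂⟩ := EtAlg7.exists_presentation he₂
  haveI : Algebra.Etale A (TensorProduct A C₁ C₂) := Algebra.Etale.comp A C₁ (TensorProduct A C₁ C₂)
  let β₁ : C₁ →ₐ[A] S := E₁.val.comp (IsScalarTower.toAlgHom A C₁ E₁)
  let β₂ : C₂ →ₐ[A] S := E₂.val.comp (IsScalarTower.toAlgHom A C₂ E₂)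
  let β := Algebra.TensorProduct.productMap β₁ β₂
  obtain ⟨E, hE, hgood⟩ := exists_isGood_of_etale Ω β fun c => by
    induction c using TensorProduct.induction_on with
    | zero => rw [map_zero, map_zero]; exact zero_mem Ω
    | add x y hx hy => rw [map_add, map_add]; exact add_mem hx hy
    | tmul x y =>
      rw [Algebra.TensorProduct.productMap_apply_tmul, map_mul]
      exact mul_mem (hr₁ _ (algebraMap C₁ E₁ x).2) (hr₂ _ (algebraMap C₂ E₂ y).2)
  obtain ⟨_, hl, -, -⟩ := id hgood
  have key : ∀ (E' : Subalgebra A S) (C : Type u) [CommRing C] [Algebra C E'] (q : Ideal C) [q.IsPrime]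
      [IsLocalization.AtPrime E' q], (∀ c, ((algebraMap C E' c : E') : S) ∈ E) → E' ≤ E := by
    intro E' C _ _ q _ _ hC x hx
    obtain ⟨⟨c, t⟩, hct⟩ := IsLocalization.surj q.primeCompl (⟨x, hx⟩ : E')
    have hu' : IsUnit (⟨_, hC t⟩ : E) :=
      isUnit_of_map_unit (algebraMap E S) _ ((IsLocalization.map_units E' t).map E'.val)
    obtain ⟨v, hv⟩ := hu'.exists_right_inv
    have hv' : ((algebraMap C E' t : E') : S) * (v : S) = 1 := congrArg Subtype.val hv
    have hc : x * ((algebraMap C E' t : E') : S) = ((algebraMap C E' c : E') : S) := congrArg Subtype.val hct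
    rw [show x = ((algebraMap C E' c : E') : S) * (v : S) by rw [← hc, mul_assoc, hv', mul_one]]
    exact mul_mem (hC c) v.2
  refine ⟨E, key E₁ C₁ q₁ fun c => hE ⟨c ⊗ₜ 1, ?_⟩, key E₂ C₂ q₂ fun c => hE ⟨1 ⊗ₜ c, ?_⟩, hgood⟩
  · show β (c ⊗ₜ 1) = _
    rw [Algebra.TensorProduct.productMap_apply_tmul, map_one, mul_one]
    rfl
  · show β (1 ⊗ₜ c) = _
    rw [Algebra.TensorProduct.productMap_apply_tmul, map_one, one_mul]
    rfl

/-- A simple root with residue in `Ω` of a polynomial over an étale algebra with residues in `Ω` lies in a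
good subalgebra. -/
theorem exists_isGood_root (Ω : Subfield (ResidueField S)) {C : Type u} [CommRing C] [Algebra A C]
    [Algebra.Etale A C] (β : C →ₐ[A] S) (h : ∀ c, residue S (β c) ∈ Ω) (f : C[X]) (hf : f.Monic) (r : S)
    (hr : eval₂ β.toRingHom r f = 0) (hr' : IsUnit (eval₂ β.toRingHom r (derivative f)))
    (hrΩ : residue S r ∈ Ω) : ∃ E : Subalgebra A S, r ∈ E ∧ IsGood Ω E := by
  letI : Algebra C S := β.toRingHom.toAlgebra
  haveI : IsScalarTower A C S := IsScalarTower.of_algebraMap_eq fun a => (β.commutes a).symm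
  let P : StandardEtalePair C := { f := f, monic_f := hf, g := derivative f, cond := ⟨1, 0, 1, by simp⟩ }
  letI : Algebra A P.Ring := ((algebraMap C P.Ring).comp (algebraMap A C)).toAlgebra
  haveI : IsScalarTower A C P.Ring := IsScalarTower.of_algebraMap_eq fun _ => rfl
  haveI : Algebra.Etale A P.Ring := Algebra.Etale.comp A C P.Ring
  have hmap : P.HasMap r := ⟨hr, hr'⟩
  let φ : P.Ring →ₐ[C] S := P.lift r hmap
  let γ : C →+* Ω := ((residue S).comp β.toRingHom).codRestrict Ω h
  letI : Algebra C Ω := γ.toAlgebra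
  let r₀ : Ω := ⟨residue S r, hrΩ⟩
  have hev : ∀ p : C[X], ((eval₂ γ r₀ p : Ω) : ResidueField S) = residue S (eval₂ β.toRingHom r p) := fun p => by
    rw [hom_eval₂, show ((eval₂ γ r₀ p : Ω) : ResidueField S) = Ω.subtype (eval₂ γ r₀ p) from rfl, hom_eval₂]
    rfl
  have hmap₀ : P.HasMap r₀ := by
    refine ⟨Subtype.ext ?_, isUnit_iff_ne_zero.mpr fun h0 => ?_⟩
    · show ((eval₂ γ r₀ f : Ω) : ResidueField S) = 0
      rw [hev, hr, map_zero]
    · have := congrArg Subtype.val h0
      change ((eval₂ γ r₀ (derivative f) : Ω) : ResidueField S) = 0 at this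
      rw [hev] at this
      exact (residue_ne_zero_iff_isUnit _).mpr hr' this
  letI : Algebra C (ResidueField S) := ((residue S).comp β.toRingHom).toAlgebra
  let res : S →ₐ[C] ResidueField S := ⟨residue S, fun _ => rfl⟩
  let incl : Ω →ₐ[C] ResidueField S := ⟨Ω.subtype, fun _ => rfl⟩
  have heq : res.comp φ = incl.comp (P.lift r₀ hmap₀) := P.hom_ext (by
    show residue S (φ P.X) = ((P.lift r₀ hmap₀ P.X : Ω) : ResidueField S)
    rw [StandardEtalePair.lift_X, StandardEtalePair.lift_X])
  obtain ⟨E, hE, hgood⟩ := exists_isGood_of_etale Ω (φ.restrictScalars A) fun c => by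
    show residue S (φ c) ∈ Ω
    rw [show residue S (φ c) = ((P.lift r₀ hmap₀ c : Ω) : ResidueField S) from congr($heq c)]
    exact SetLike.coe_mem _
  exact ⟨E, hE ⟨P.X, StandardEtalePair.lift_X _ r hmap⟩, hgood⟩

variable (A) in
/-- The union of the good subalgebras. -/
def goodUnion (Ω : Subfield (ResidueField S))
    (hΩ : ∀ a : A, residue S (algebraMap A S a) ∈ Ω) : Subalgebra A S where
  carrier := {x | ∃ E : Subalgebra A S, x ∈ E ∧ IsGood Ω E}
  mul_mem' := fun ⟨E, hx, hE⟩ ⟨F, hy, hF⟩ => by
    obtain ⟨G, h1, h2, hG⟩ := exists_isGood_sup Ω hE hF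
    exact ⟨G, mul_mem (h1 hx) (h2 hy), hG⟩
  add_mem' := fun ⟨E, hx, hE⟩ ⟨F, hy, hF⟩ => by
    obtain ⟨G, h1, h2, hG⟩ := exists_isGood_sup Ω hE hF
    exact ⟨G, add_mem (h1 hx) (h2 hy), hG⟩
  algebraMap_mem' := fun a => by
    obtain ⟨E, -, hE⟩ := exists_isGood_of_etale Ω (Algebra.ofId A S) hΩ
    exact ⟨E, E.algebraMap_mem a, hE⟩

variable (Ω : Subfield (ResidueField S)) (hΩ : ∀ a : A, residue S (algebraMap A S a) ∈ Ω)

theorem exists_isGood_finset (s : Finset S) (hs : ∀ x ∈ s, x ∈ goodUnion A Ω hΩ) :
    ∃ E : Subalgebra A S, (s : Set S) ⊆ E ∧ IsGood Ω E := by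
  classical
  induction s using Finset.induction_on with
  | empty =>
    obtain ⟨E, -, hE⟩ := exists_isGood_of_etale Ω (Algebra.ofId A S) hΩ
    exact ⟨E, by simp, hE⟩
  | insert x s _ ih =>
    obtain ⟨E, hE, hgE⟩ := ih fun y hy => hs y (Finset.mem_insert_of_mem hy)
    obtain ⟨F, hxF, hgF⟩ := hs x (Finset.mem_insert_self x s)
    obtain ⟨G, h1, h2, hG⟩ := exists_isGood_sup Ω hgE hgF
    exact ⟨G, by rw [Finset.coe_insert]; exact Set.insert_subset (h2 hxF) (hE.trans h1), hG⟩

theorem residue_mem_of_mem_goodUnion {x : S} (hx : x ∈ goodUnion A Ω hΩ) : residue S x ∈ Ω := by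
  obtain ⟨E, hxE, _, -, -, hr⟩ := hx
  exact hr x hxE

theorem isUnit_of_mem_goodUnion (x : goodUnion A Ω hΩ) (hu : IsUnit (x : S)) : IsUnit x := by
  obtain ⟨E, hxE, hgood⟩ := x.2
  obtain ⟨_, hloc, -, -⟩ := id hgood
  obtain ⟨y, hy⟩ := (hloc.map_nonunit ⟨x, hxE⟩ hu).exists_right_inv
  exact isUnit_iff_exists_inv.mpr ⟨⟨y, E, y.2, hgood⟩, Subtype.ext (congrArg Subtype.val hy :)⟩

theorem isLocalHom_goodUnion : IsLocalHom (algebraMap (goodUnion A Ω hΩ) S) :=
  ⟨isUnit_of_mem_goodUnion Ω hΩ⟩

theorem isLocalRing_goodUnion : IsLocalRing (goodUnion A Ω hΩ) :=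
  haveI := isLocalHom_goodUnion (A := A) Ω hΩ
  (algebraMap (goodUnion A Ω hΩ) S).domain_isLocalRing

/-- The union of the good subalgebras is henselian. -/
theorem henselianLocalRing_goodUnion : HenselianLocalRing (goodUnion A Ω hΩ) := by
  classical
  haveI := isLocalHom_goodUnion (A := A) Ω hΩ
  haveI := isLocalRing_goodUnion (A := A) Ω hΩ
  haveI := Hensel.IsStrictHenselization.henselian (R := A) (S := S)
  let G := goodUnion A Ω hΩ
  refine { is_henselian := fun f hf a₀ h₁ h₂ => ?_ }
  obtain ⟨r, hr, hra⟩ := HenselianLocalRing.is_henselian (f.map G.val.toRingHom) (hf.map _) (a₀ : S)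
    (by
      rw [eval_map, show eval₂ G.val.toRingHom (a₀ : S) f = algebraMap G S (f.eval a₀) from
        (hom_eval₂ f (RingHom.id G) G.val.toRingHom a₀).symm]
      exact fun hu => h₁ (isUnit_of_map_unit (algebraMap G S) _ hu))
    (by
      rw [derivative_map, eval_map, show eval₂ G.val.toRingHom (a₀ : S) (derivative f) =
        algebraMap G S ((derivative f).eval a₀) from (hom_eval₂ _ (RingHom.id G) G.val.toRingHom a₀).symm]
      exact h₂.map _)
  suffices hrG : r ∈ G by
    refine ⟨⟨r, hrG⟩, ?_, fun hu => hra ((hu.map G.val))⟩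
    refine Subtype.ext ?_
    rw [IsRoot, eval_map] at hr
    exact (hom_eval₂ f (RingHom.id G) G.val.toRingHom (⟨r, hrG⟩ : G)).trans hr
  obtain ⟨E, hE, hgood⟩ := exists_isGood_finset Ω hΩ (f.support.image fun i => ((f.coeff i : G) : S))
    fun x hx => by
      obtain ⟨i, -, rfl⟩ := Finset.mem_image.mp hx
      exact SetLike.coe_mem _
  obtain ⟨_, hlocE, hess, hres⟩ := hgood
  obtain ⟨C, _, _, q, _, _, _, _, -, hl⟩ := EtAlg7.exists_presentation hess
  have hco : ∀ i, ((f.coeff i : G) : S) ∈ E := fun i => by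
    by_cases hi : i ∈ f.support
    · exact hE (Finset.mem_coe.mpr (Finset.mem_image_of_mem _ hi))
    · rw [Polynomial.notMem_support_iff.mp hi]; exact zero_mem E
  obtain ⟨s, -, φ, hφ⟩ := EssEtLib.exists_away_range q.primeCompl
    (f.support.image fun i => (⟨_, hco i⟩ : E))
  let β : Localization.Away s →ₐ[A] S := E.val.comp (φ.restrictScalars A)
  have hl : f.map G.val.toRingHom ∈ Polynomial.lifts β.toRingHom :=
    (Polynomial.lifts_iff_coeff_lifts _).mpr fun i => by
      rw [Polynomial.coeff_map]
      by_cases hi : i ∈ f.support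
      · obtain ⟨c, hc⟩ := hφ _ (Finset.mem_image_of_mem _ hi)
        exact ⟨c, congrArg Subtype.val hc⟩
      · rw [Polynomial.notMem_support_iff.mp hi, map_zero]; exact ⟨0, map_zero _⟩
  obtain ⟨g, hg, -, hgm⟩ := Polynomial.lifts_and_degree_eq_and_monic hl (hf.map _)
  haveI : Algebra.Etale A (Localization.Away s) := Algebra.Etale.comp A C (Localization.Away s)
  have hrres : residue S r = residue S (a₀ : S) := Ideal.Quotient.eq.mpr hra
  obtain ⟨E', hrE', hE'⟩ := exists_isGood_root Ω β (fun c => hres _ (φ c).2) g hgm r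
    (by rw [← eval_map, hg]; exact hr)
    (by
      rw [← eval_map, ← derivative_map, hg]
      rw [← residue_ne_zero_iff_isUnit, ← eval₂_at_apply, hrres, eval₂_at_apply, residue_ne_zero_iff_isUnit,
        derivative_map, eval_map, show eval₂ G.val.toRingHom (a₀ : S) (derivative f) =
          algebraMap G S ((derivative f).eval a₀) from (hom_eval₂ _ (RingHom.id G) G.val.toRingHom a₀).symm]
      exact h₂.map _)
    (hrres ▸ residue_mem_of_mem_goodUnion Ω hΩ a₀.2)
  exact ⟨E', hrE', hE'⟩

/-- Every separable residue in `Ω` lifts to the union of the good subalgebras. -/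
theorem exists_mem_goodUnion {ω : ResidueField S} (hω : ω ∈ Ω) :
    ∃ y ∈ goodUnion A Ω hΩ, residue S y = ω := by
  haveI := Hensel.IsStrictHenselization.henselian (R := A) (S := S)
  haveI : Algebra.IsSeparable (ResidueField A) (ResidueField S) :=
    (Hensel.IsStrictHenselization.isSepClosure (R := A) (S := S)).separable
  have hsep : IsSeparable (ResidueField A) ω := Algebra.IsSeparable.isSeparable _ ω
  obtain ⟨h, hh, -, hhm⟩ := Polynomial.lifts_and_degree_eq_and_monic
    ((Polynomial.lifts_iff_coeff_lifts (minpoly (ResidueField A) ω)).mpr fun n => residue_surjective _)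
    (minpoly.monic hsep.isIntegral)
  obtain ⟨s₀, rfl⟩ := residue_surjective ω
  have hres : ∀ (p : A[X]) (z : S), residue S (eval₂ (algebraMap A S) z p) =
      aeval (residue S z) (p.map (residue A)) := fun p z => by
    rw [hom_eval₂, aeval_def, eval₂_map]
    congr 1
  obtain ⟨r, hr, hrs⟩ := HenselianLocalRing.is_henselian (h.map (algebraMap A S)) (hhm.map _) s₀
    (by
      rw [eval_map, ← residue_eq_zero_iff, hres, hh]
      exact minpoly.aeval _ _)
    (by
      rw [derivative_map, eval_map, ← residue_ne_zero_iff_isUnit, hres, ← derivative_map, hh]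
      exact hsep.aeval_derivative_ne_zero (minpoly.aeval _ _))
  have hrres : residue S r = residue S s₀ := Ideal.Quotient.eq.mpr hrs
  obtain ⟨E, hrE, hE⟩ := exists_isGood_root Ω (Algebra.ofId A S) hΩ h hhm r
    (by rw [IsRoot, eval_map] at hr; exact hr)
    (by
      show IsUnit (eval₂ (algebraMap A S) r (derivative h))
      rw [← residue_ne_zero_iff_isUnit, hres, hrres, ← derivative_map, hh]
      exact hsep.aeval_derivative_ne_zero (minpoly.aeval _ _))
    (hrres ▸ hω)
  exact ⟨r, ⟨E, hrE, hE⟩, hrres⟩

set_option maxHeartbeats 1000000 in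
set_option synthInstance.maxHeartbeats 100000 in
/-- A henselian intermediate ring over which `S` is flat is the union of the essentially étale local
subalgebras contained in it. -/
theorem exists_essEtale_of_henselian_flat (F : Subalgebra A S) [HenselianLocalRing F]
    [IsLocalHom (algebraMap F S)] [Module.Flat F S] (s : Finset S) (hs : (s : Set S) ⊆ F) :
    ∃ E : Subalgebra A S, (s : Set S) ⊆ E ∧ E ≤ F ∧
      ∃ _ : IsLocalRing E, IsLocalHom (algebraMap E S) ∧ EGA4loc.IsEssentiallyEtale A E := by
  classical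
  haveI := Hensel.IsStrictHenselization.henselian (R := A) (S := S)
  haveI : IsLocalHom (algebraMap A F) :=
    ⟨fun a ha => isUnit_of_map_unit (algebraMap A S) a (ha.map F.val)⟩
  let Ω : Subfield (ResidueField S) := (ResidueField.map (algebraMap F S)).fieldRange
  have hΩ : ∀ a : A, residue S (algebraMap A S a) ∈ Ω := fun a =>
    ⟨residue F (algebraMap A F a), ResidueField.map_residue _ _⟩
  have hΩ' : ∀ ω ∈ Ω, ∃ y ∈ F, residue S y = ω := by
    rintro _ ⟨z, rfl⟩
    obtain ⟨y, rfl⟩ := residue_surjective z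
    exact ⟨y, y.2, (ResidueField.map_residue (algebraMap F S) y).symm⟩
  let G := goodUnion A Ω hΩ
  have hGF : G ≤ F := by
    rintro x ⟨E, hxE, _, _, hE, hr⟩
    exact le_of_henselian F E hE (fun y hy => by
      obtain ⟨y', hy', hyy'⟩ := hΩ' _ (hr y hy)
      exact ⟨y', hy', hyy'.symm⟩) hxE
  haveI := isLocalHom_goodUnion (A := A) Ω hΩ
  haveI := isLocalRing_goodUnion (A := A) Ω hΩ
  haveI := henselianLocalRing_goodUnion (A := A) Ω hΩ
  suffices key : ∀ x ∈ F, x ∈ G by
    obtain ⟨E, hsE, hgood⟩ := exists_isGood_finset Ω hΩ s fun x hx => key x (hs hx)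
    obtain ⟨_, hl, he, -⟩ := id hgood
    exact ⟨E, hsE, fun y hy => hGF ⟨E, hy, hgood⟩, ‹_›, hl, he⟩
  intro x hx
  -- a primitive residue for an étale algebra containing `x`
  let k := ResidueField A
  haveI : Algebra.IsSeparable k (ResidueField S) :=
    (Hensel.IsStrictHenselization.isSepClosure (R := A) (S := S)).separable
  obtain ⟨T, hT, ⟨e⟩⟩ := IndEtLib.exists_sys (S12237.result A S)
  obtain ⟨j, y, hy⟩ := T.exists_lift_finset ({x} : Finset S) e.symm
  haveI := hT j
  let β : T.A j →ₐ[A] S := e.toAlgHom.comp (T.ι j)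
  have hβx : β (y x) = x := by simp [β, hy x (Finset.mem_singleton_self x)]
  obtain ⟨gens, hgens⟩ := (inferInstance : Algebra.FiniteType A (T.A j)).out
  let ρ : T.A j →ₐ[A] ResidueField S := (IsScalarTower.toAlgHom A S (ResidueField S)).comp β
  let l := IntermediateField.adjoin k ((gens.image ρ : Finset (ResidueField S)) : Set (ResidueField S))
  haveI : FiniteDimensional k l := IntermediateField.finiteDimensional_adjoin
    fun z _ => (Algebra.IsSeparable.isSeparable k z).isIntegral
  obtain ⟨θ₀, hθ₀⟩ := Field.exists_primitive_element k l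
  let θ : ResidueField S := (θ₀ : ResidueField S)
  have hρl : ∀ c, ρ c ∈ l := fun c => by
    have hc : c ∈ Algebra.adjoin A (gens : Set (T.A j)) := hgens ▸ Algebra.mem_top
    induction hc using Algebra.adjoin_induction with
    | mem g hg => exact IntermediateField.subset_adjoin k _ (Finset.mem_coe.mpr (Finset.mem_image_of_mem _ hg))
    | algebraMap r =>
      rw [AlgHom.commutes, IsScalarTower.algebraMap_apply A k (ResidueField S)]
      exact l.algebraMap_mem _
    | add a b _ _ ha hb => rw [map_add]; exact add_mem ha hb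
    | mul a b _ _ ha hb => rw [map_mul]; exact mul_mem ha hb
  have hθgen : ∀ z ∈ l, ∃ p : k[X], aeval θ p = z := fun z hz => by
    have h0 : (⟨z, hz⟩ : l) ∈ Algebra.adjoin k {θ₀} := by
      rw [← IntermediateField.adjoin_simple_toSubalgebra_of_isAlgebraic
        (Algebra.IsAlgebraic.isAlgebraic θ₀), hθ₀]
      trivial
    rw [Algebra.adjoin_singleton_eq_range_aeval] at h0
    obtain ⟨p, hp⟩ := h0
    exact ⟨p, by rw [show θ = l.val θ₀ from rfl, aeval_algHom_apply]; exact congrArg Subtype.val hp⟩
  -- its minimal polynomial over the residue field of `F`, lifted to `G`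
  let kF := ResidueField F
  haveI : IsScalarTower k kF (ResidueField S) := IsScalarTower.of_algebraMap_eq fun a => by
    obtain ⟨a, rfl⟩ := residue_surjective a
    rfl
  haveI : Algebra.IsSeparable kF (ResidueField S) := Algebra.isSeparable_tower_top_of_isSeparable k kF _
  let m : kF[X] := minpoly kF θ
  have hsep : IsSeparable kF θ := Algebra.IsSeparable.isSeparable kF θ
  let ρG : G →+* ResidueField S := (residue S).comp G.val.toRingHom
  have hρG : ∀ z : kF, algebraMap kF (ResidueField S) z ∈ Set.range ρG := fun z => by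
    obtain ⟨y, hy, hyz⟩ := exists_mem_goodUnion Ω hΩ (ω := algebraMap kF (ResidueField S) z) ⟨z, rfl⟩
    exact ⟨⟨y, hy⟩, hyz⟩
  obtain ⟨g, hg, -, hgm⟩ := Polynomial.lifts_and_degree_eq_and_monic
    (f := ρG) (p := m.map (algebraMap kF (ResidueField S)))
    ((Polynomial.lifts_iff_coeff_lifts _).mpr fun i => by rw [coeff_map]; exact hρG _)
    ((minpoly.monic hsep.isIntegral).map _)
  obtain ⟨s₀, hs₀⟩ := residue_surjective θ
  have hres : ∀ (p : G[X]) (z : S), residue S (eval₂ G.val.toRingHom z p) = (p.map ρG).eval (residue S z) :=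
    fun p z => by rw [hom_eval₂, eval_map]
  have hev0 : (m.map (algebraMap kF (ResidueField S))).eval θ = 0 := by
    rw [eval_map, ← aeval_def]; exact minpoly.aeval _ _
  obtain ⟨t, ht, hts⟩ := HenselianLocalRing.is_henselian (g.map G.val.toRingHom) (hgm.map _) s₀
    (by rw [eval_map, ← residue_eq_zero_iff, hres, hg, hs₀]; exact hev0)
    (by
      rw [derivative_map, eval_map, ← residue_ne_zero_iff_isUnit, hres, ← derivative_map, hg, derivative_map,
        hs₀, eval_map, ← aeval_def]
      exact hsep.aeval_derivative_ne_zero (minpoly.aeval _ _))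
  rw [IsRoot, eval_map] at ht
  have htθ : residue S t = θ := (Ideal.Quotient.eq.mpr hts).trans hs₀
  -- the finite extension `R = G[t]`
  let R : Subalgebra G S := Algebra.adjoin G {t}
  have hint : IsIntegral G t := ⟨g, hgm, ht⟩
  haveI : Module.Finite G R := Module.Finite.iff_fg.mpr hint.fg_adjoin_singleton
  have hRloc : ∀ z : R, IsUnit (z : S) → IsUnit z := by
    intro z hz
    by_contra hnu
    obtain ⟨N, hN, hzN⟩ := exists_max_ideal_of_mem_nonunits hnu
    haveI := hN
    have hNG : N.comap (algebraMap G R) = maximalIdeal G :=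
      IsLocalRing.eq_maximalIdeal (Ideal.isMaximal_comap_of_isIntegral_of_isMaximal (R := G) (S := R) N)
    let P : Ideal R := (maximalIdeal S).comap (algebraMap R S)
    haveI : P.IsPrime := Ideal.IsPrime.comap _
    haveI hPm : P.IsMaximal := by
      refine Ideal.isMaximal_of_isIntegral_of_isMaximal_comap (R := G) (S := R) P ?_
      rw [show P.comap (algebraMap G R) = maximalIdeal G by
        ext y
        show ((y : G) : S) ∈ maximalIdeal S ↔ _
        rw [mem_maximalIdeal, mem_maximalIdeal, mem_nonunits_iff, mem_nonunits_iff]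
        exact not_congr ⟨isUnit_of_mem_goodUnion Ω hΩ y, fun h => h.map G.val⟩]
      exact maximalIdeal.isMaximal G
    have hPN : P ≤ N := by
      intro w hw
      obtain ⟨p, hp⟩ : ∃ p : G[X], aeval t p = (w : S) := by
        have hw' := w.2
        change (w : S) ∈ Algebra.adjoin G {t} at hw'
        rw [Algebra.adjoin_singleton_eq_range_aeval] at hw'
        exact hw'
      let γ : G →+* kF := (residue F).comp (Subalgebra.inclusion hGF).toRingHom
      have hγ : ∀ z : G, algebraMap kF (ResidueField S) (γ z) = ρG z := fun z => ResidueField.map_residue _ _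
      have hγs : Function.Surjective γ := fun z => by
        obtain ⟨y, hy⟩ := hρG z
        exact ⟨y, (algebraMap kF (ResidueField S)).injective ((hγ y).trans hy)⟩
      have hmg : g.map γ = m := Polynomial.map_injective _ (algebraMap kF (ResidueField S)).injective (by
        rw [Polynomial.map_map, ← hg]
        congr 1
        all_goals exact RingHom.ext hγ)
      have hdvd : m ∣ p.map γ := minpoly.dvd kF θ (by
        rw [aeval_def, eval₂_map, show (algebraMap kF (ResidueField S)).comp γ = ρG from RingHom.ext hγ,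
          ← htθ, ← eval_map, ← hres]
        rw [show eval₂ G.val.toRingHom t p = (w : S) from hp]
        exact (residue_eq_zero_iff _).mpr hw)
      obtain ⟨u, hu⟩ := hdvd
      obtain ⟨u', hu'⟩ := Polynomial.map_surjective γ hγs u
      have hcoef : ∀ i, (p - g * u').coeff i ∈ maximalIdeal G := fun i => by
        have h0 : γ ((p - g * u').coeff i) = 0 := by
          rw [← coeff_map, Polynomial.map_sub, Polynomial.map_mul, hmg, hu', hu, sub_self, coeff_zero]
        exact fun h => (h.map γ).ne_zero h0
      have hw2 : (w : S) = aeval t (p - g * u') := by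
        rw [map_sub, map_mul, show aeval t g = 0 from ht, zero_mul, sub_zero, hp]
      let tR : R := ⟨t, Algebra.subset_adjoin (Set.mem_singleton t)⟩
      have hwR : w = aeval tR (p - g * u') := Subtype.ext (hw2.trans (aeval_algHom_apply R.val tR _))
      rw [hwR, aeval_eq_sum_range]
      refine Ideal.sum_mem _ fun i _ => ?_
      rw [Algebra.smul_def]
      refine Ideal.mul_mem_right _ _ ?_
      rw [← Ideal.mem_comap, hNG]
      exact hcoef i
    have hNP : N = P := (hPm.eq_of_le hN.ne_top hPN).symm
    have hzP : z ∈ P := hNP ▸ hzN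
    exact hzP hz
  let R' : Subalgebra A S := R.restrictScalars A
  haveI : IsLocalHom (algebraMap R S) := ⟨hRloc⟩
  haveI : IsLocalRing R := (algebraMap R S).domain_isLocalRing
  haveI : HenselianLocalRing R := Hensel.henselianLocalRing_of_finite G R
  haveI : HenselianLocalRing R' := ‹HenselianLocalRing R›
  haveI : IsLocalHom (algebraMap R' S) := ⟨hRloc⟩
  have hxR : x ∈ R' := by
    refine range_le_of_henselian R' β (fun c => ?_) ⟨y x, hβx⟩
    obtain ⟨p, hp⟩ := hθgen _ (hρl c)
    obtain ⟨p', hp'⟩ := Polynomial.map_surjective (residue A) residue_surjective p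
    refine ⟨aeval t p', ?_, ?_⟩
    · have : Algebra.adjoin A {t} ≤ R' :=
        Algebra.adjoin_le (Set.singleton_subset_iff.mpr (Algebra.subset_adjoin (Set.mem_singleton t)))
      exact this (aeval_mem_adjoin_singleton A t)
    · rw [show residue S (β c) = ρ c from rfl, ← hp, ← hp', aeval_def, eval₂_map, aeval_def, hom_eval₂, htθ]
      rfl
  have hxR' : x ∈ R := hxR
  rw [show R = Algebra.adjoin G {t} from rfl, Algebra.adjoin_singleton_eq_range_aeval] at hxR'
  obtain ⟨p, hp⟩ := hxR'
  let q := p %ₘ g
  have hq : aeval t q = x := (Polynomial.aeval_modByMonic_eq_self_of_root (show aeval t g = 0 from ht)).trans hp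
  let n := m.natDegree
  have hn : 0 < n := minpoly.natDegree_pos hsep.isIntegral
  have hgn : g.natDegree = n := by
    rw [show n = (m.map (algebraMap kF (ResidueField S))).natDegree from (natDegree_map _).symm, ← hg,
      hgm.natDegree_map ρG]
  have hqn : q.natDegree < n := hgn ▸ Polynomial.natDegree_modByMonic_lt p hgm (fun h => by
    rw [h, natDegree_one] at hgn; omega)
  let v : ULift.{u} (Fin n) → S := fun i => t ^ (i.down : ℕ)
  have hv : LinearIndependent F v := by
    refine Module.IsLocalRing.linearIndependent_of_flat v ?_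
    haveI : IsScalarTower F kF (ResidueField S) := IsScalarTower.of_algebraMap_eq fun a =>
      (ResidueField.map_residue (algebraMap F S) a).symm
    let L : TensorProduct F kF S →ₗ[kF] ResidueField S :=
      (Algebra.TensorProduct.lift (Algebra.ofId kF (ResidueField S)) (IsScalarTower.toAlgHom F S (ResidueField S))
        fun _ _ => Commute.all _ _).toLinearMap
    refine LinearIndependent.of_comp L ?_
    have := (linearIndependent_pow (K := kF) θ).comp (fun i : ULift.{u} (Fin n) => i.down) ULift.down_injective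
    convert this using 1
    swap
    · rfl
    funext i
    show algebraMap kF (ResidueField S) 1 * residue S (t ^ (i.down : ℕ)) = θ ^ (i.down : ℕ)
    rw [map_one, one_mul, map_pow, htθ]
  let c : ULift.{u} (Fin n) → F := fun i =>
    (if (i.down : ℕ) = 0 then -(⟨x, hx⟩ : F) else 0) + Subalgebra.inclusion hGF (q.coeff i.down)
  have hsum : ∑ i, c i • v i = 0 := by
    rw [Finset.sum_congr rfl fun i _ => add_smul _ _ (v i), Finset.sum_add_distrib,
      Finset.sum_eq_single (⟨⟨0, hn⟩⟩ : ULift.{u} (Fin n)) (fun i _ hi => by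
        rw [if_neg fun h => hi (ULift.ext _ _ (Fin.ext h)), zero_smul]) (fun h => absurd (Finset.mem_univ _) h),
      if_pos rfl]
    have h1 : ∑ i : ULift.{u} (Fin n), Subalgebra.inclusion hGF (q.coeff i.down) • v i = x := by
      rw [← hq, aeval_eq_sum_range' hqn, ← Fin.sum_univ_eq_sum_range]
      exact Fintype.sum_equiv Equiv.ulift _ _ fun i => rfl
    rw [h1]
    show (-x) * t ^ (0 : ℕ) + x = 0
    rw [pow_zero, mul_one, neg_add_cancel]
  have h0 := Fintype.linearIndependent_iff.mp hv c hsum ⟨⟨0, hn⟩⟩
  simp only [c, if_pos] at h0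
  have h0' : -x + ((q.coeff 0 : G) : S) = 0 := congrArg Subtype.val h0
  rw [neg_add_eq_zero] at h0'
  exact h0' ▸ (q.coeff 0).2

end Groth.Agent.H1EssEt
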