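import Groth.Agent.H1EssEt.FlatPI
import Groth.Agent.H1EssEt.Rigid
import Groth.Agent.WEtLib.Vnr
import Mathlib

/-!
# Finite étale intermediate rings and residue fields of the normalisation
-/

set_option autoImplicit false
universe u
open IsLocalRing TensorProduct nonZeroDivisors

namespace Groth.Agent.H1EssEt

theorem separableClosure_residue_iff_pi {D N : Type u} [CommRing D] [IsLocalRing D] [CommRing N] [Algebra D N]
    [Algebra.IsIntegral D N] (M : Ideal N) [M.IsMaximal] :
    separableClosure (Subfield.closure (Set.range ((algebraMap N M.ResidueField).comp (algebraMap D N))))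
        M.ResidueField = ⊥ ↔
      PI (ringExpChar (ResidueField D)) ((Ideal.Quotient.mk M).comp (algebraMap D N)) := by
  let e : (N ⧸ M) ≃+* M.ResidueField :=
    RingEquiv.ofBijective (algebraMap (N ⧸ M) M.ResidueField) M.bijective_algebraMap_quotient_residueField
  have hf : (algebraMap N M.ResidueField).comp (algebraMap D N) =
      e.toRingHom.comp ((Ideal.Quotient.mk M).comp (algebraMap D N)) := RingHom.ext fun d => rfl
  have hint : ((algebraMap N M.ResidueField).comp (algebraMap D N)).IsIntegral := by
    rw [hf]
    refine RingHom.IsIntegral.trans _ _ ?_ (e.toRingHom.isIntegral_of_surjective e.surjective)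
    exact RingHom.IsIntegral.trans _ _ (algebraMap_isIntegral_iff.mpr inferInstance)
      ((Ideal.Quotient.mk M).isIntegral_of_surjective Ideal.Quotient.mk_surjective)
  rw [separableClosure_eq_bot_iff_pi _ hint fun d hd => ?_, hf, pi_congr]
  haveI : (M.comap (algebraMap D N)).IsMaximal := Ideal.isMaximal_comap_of_isIntegral_of_isMaximal (R := D) M
  rw [RingHom.comp_apply]
  exact Ideal.algebraMap_residueField_eq_zero.mpr
    ((IsLocalRing.eq_maximalIdeal (I := M.comap (algebraMap D N)) inferInstance).ge hd)

theorem forall_pi_iff_forall_subsingleton_emb (D : Type u) [CommRing D] [IsLocalRing D] [IsReduced D] :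
    (∀ (M : Ideal (integralClosure D (FractionRing D))) [M.IsMaximal],
      PI (ringExpChar (ResidueField D))
        ((Ideal.Quotient.mk M).comp (algebraMap D (integralClosure D (FractionRing D))))) ↔
      ∀ m : MaximalSpectrum (CAlg2.normRed D), Subsingleton (Brnch.Emb D m) := by
  let e : D ≃+* CAlg2.red D := RingEquiv.ofBijective (Ideal.Quotient.mk (nilradical D))
    ⟨(RingHom.injective_iff_ker_eq_bot _).mpr (by rw [Ideal.mk_ker]; exact nilradical_eq_zero D),
      Ideal.Quotient.mk_surjective⟩
  obtain ⟨φ, hφ⟩ := exists_integralClosure_equiv e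
  have key : ∀ (m : Ideal (CAlg2.normRed D)) (hm : m.IsMaximal),
      PI (ringExpChar (ResidueField D)) (Brnch.toResidue D ⟨m, hm⟩) ↔
        PI (ringExpChar (ResidueField D))
          ((Ideal.Quotient.mk (m.comap φ)).comp (algebraMap D (integralClosure D (FractionRing D)))) := by
    intro m hm
    let ε : (integralClosure D (FractionRing D) ⧸ m.comap φ) ≃+* (CAlg2.normRed D ⧸ m) :=
      Ideal.quotientEquiv (m.comap φ) m φ (Ideal.map_comap_of_surjective _ φ.surjective m).symm
    have h : Brnch.toResidue D ⟨m, hm⟩ =
        ε.toRingHom.comp ((Ideal.Quotient.mk (m.comap φ)).comp (algebraMap D _)) := by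
      refine RingHom.ext fun d => ?_
      show Ideal.Quotient.mk m (algebraMap (CAlg2.red D) (CAlg2.normRed D) (e d)) =
        Ideal.Quotient.mk m (φ (algebraMap D _ d))
      rw [hφ]
    rw [h, pi_congr]
  constructor
  · intro h m
    haveI := m.isMaximal
    haveI : (m.asIdeal.comap φ).IsMaximal := Ideal.comap_isMaximal_of_surjective φ φ.surjective
    exact (subsingleton_emb_iff_pi m).mpr ((key m.asIdeal m.isMaximal).mpr (h _))
  · intro h M hM
    haveI hm : (M.comap φ.symm).IsMaximal := Ideal.comap_isMaximal_of_surjective φ.symm φ.symm.surjective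
    have h' := (key _ hm).mp ((subsingleton_emb_iff_pi ⟨_, hm⟩).mp (h _))
    have hMM : (M.comap φ.symm).comap φ = M := by
      ext x
      simp
    rwa [hMM] at h'

theorem eq_map_comap_of_injOn (D S : Type u) [CommRing D] [HenselianLocalRing D] [IsNoetherianRing D] [IsReduced D] [CommRing S]
    [IsLocalRing S] [Algebra D S] [IsLocalHom (algebraMap D S)] [_root_.Hensel.IsStrictHenselization D S]
    (hinj : Set.InjOn (Ideal.comap (algebraMap D S)) (minimalPrimes S)) (Q : Ideal S) (hQ : Q ∈ minimalPrimes S) :
    Q = (Q.comap (algebraMap D S)).map (algebraMap D S) := by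
  haveI := weaklyEtale (A := D) (S := S)
  have hH := Hensel.isHenzLike_of_isStrictHenselization D S
  haveI := hQ.1.1
  set q := Q.comap (algebraMap D S) with hq
  have hqmin : q ∈ minimalPrimes D := (BrnchLib.mem_minimalPrimes_iff_comap hH).mp hQ
  haveI : IsReduced (S ⧸ q.map (algebraMap D S)) := by
    haveI := WEtLib.isReduced_of_isReduced_base (D ⧸ q) ((D ⧸ q) ⊗[D] S)
    let e := (Algebra.TensorProduct.quotIdealMapEquivTensorQuot S q).toRingEquiv.trans
      (Algebra.TensorProduct.comm D S (D ⧸ q)).toRingEquiv
    exact isReduced_of_injective e e.injective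
  refine le_antisymm ?_ Ideal.map_comap_le
  rw [← ((Ideal.isRadical_iff_quotient_reduced (q.map (algebraMap D S))).mpr inferInstance).radical,
    ← Ideal.sInf_minimalPrimes]
  refine le_sInf fun P hP => ?_
  haveI := hP.1.1
  have hPq := H1Gal.comap_of_mem_minimalPrimes_map (A := D) (q := q) hP
  have hPmin : P ∈ minimalPrimes S := (BrnchLib.mem_minimalPrimes_iff_comap hH).mpr (hPq.symm ▸ hqmin)
  exact (hinj hQ hPmin (hq.symm.trans hPq.symm)).le

set_option maxHeartbeats 4000000 in
set_option synthInstance.maxHeartbeats 100000 in
/-- A finite intermediate ring is étale and separates the minimal primes iff the residue fields of its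
normalisation are purely inseparable over its own. -/
theorem etale_iff_forall_pi (A S : Type u) [CommRing A] [HenselianLocalRing A] [IsNoetherianRing A] [IsReduced A]
    [CommRing S] [IsLocalRing S] [Algebra A S] [IsLocalHom (algebraMap A S)]
    [_root_.Hensel.IsStrictHenselization A S] (D : Subalgebra A S) [Module.Finite A D] [IsLocalRing D] :
    (Algebra.Etale A D ∧
        ∀ Q ∈ minimalPrimes S, Q = Ideal.map (algebraMap D S) (Q.comap (algebraMap D S))) ↔
      ∀ (M : Ideal (integralClosure D (FractionRing D))) [M.IsMaximal],
        PI (ringExpChar (ResidueField D))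
          ((Ideal.Quotient.mk M).comp (algebraMap D (integralClosure D (FractionRing D)))) := by
  classical
  haveI : IsLocalHom (algebraMap D S) := (isLocalHom_of_finite D).2
  haveI : HenselianLocalRing D := Hensel.henselianLocalRing_of_finite A D
  haveI : IsNoetherianRing D := IsNoetherianRing.of_finite A D
  haveI : IsReduced S := (Hensel.isHenzLike_of_isStrictHenselization A S).isReduced_iff.mp inferInstance
  haveI : IsReduced D := isReduced_of_injective D.val Subtype.val_injective
  haveI : IsNoetherianRing S := H1Gal.isNoetherianRing A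
  constructor
  · rintro ⟨het, hgen⟩
    haveI : _root_.Hensel.IsStrictHenselization D S := isStrictHenselization_of_formallyUnramified A S D
    refine (forall_pi_iff_forall_subsingleton_emb D).mpr ((injOn_minimalPrimes_iff D S).mp ?_)
    intro Q hQ Q' hQ' hQQ'
    rw [hgen Q hQ, hgen Q' hQ', hQQ']
  · intro hPI
    haveI : IsLocalHom (algebraMap A D) :=
      ⟨fun a ha => isUnit_of_map_unit (algebraMap A S) a (ha.map D.val)⟩
    haveI hflat : Module.Flat D S := flat_of_pi A S D fun M _ => hPI M
    -- hence essentially étale
    obtain ⟨gens, hgens⟩ := Module.Finite.iff_fg.mp (show Module.Finite A D.toSubmodule from ‹Module.Finite A D›)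
    obtain ⟨E', hsE', hE'D, _, -, hE'et⟩ := exists_essEtale_of_henselian_flat D gens fun x hx => by
      have h : x ∈ Submodule.span A (gens : Set S) := Submodule.subset_span hx
      rwa [hgens] at h
    obtain rfl : D = E' := le_antisymm (H1Gal.le_of_gens hgens hsE') hE'D
    haveI : Algebra.FormallyEtale A D := by
      obtain ⟨C, _, _, q, _, hC, -, ⟨ε⟩⟩ := hE'et
      haveI : Algebra.FormallyEtale C (Localization.AtPrime q) :=
        Algebra.FormallyEtale.of_isLocalization q.primeCompl
      haveI : Algebra.FormallyEtale A (Localization.AtPrime q) := Algebra.FormallyEtale.comp A C _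
      exact Algebra.FormallyEtale.of_equiv ε.symm
    haveI : Algebra.FiniteType A D := inferInstance
    haveI : Algebra.FinitePresentation A D := Algebra.FinitePresentation.of_finiteType.mp inferInstance
    haveI het : Algebra.Etale A D := {}
    haveI : _root_.Hensel.IsStrictHenselization D S := isStrictHenselization_of_formallyUnramified A S D
    exact ⟨het, fun Q hQ => eq_map_comap_of_injOn D S
      ((injOn_minimalPrimes_iff D S).mpr ((forall_pi_iff_forall_subsingleton_emb D).mp hPI)) Q hQ⟩

end Groth.Agent.H1EssEt
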