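import Groth.Agent.H1EssEt.FlatResidue
import Groth.Agent.H1EssEt.FiniteInter
import Groth.Agent.H1Gal.Main
import Mathlib

/-!
# Flatness over an intermediate ring with purely inseparable normalised residues
-/

set_option autoImplicit false
universe u
open IsLocalRing TensorProduct nonZeroDivisors

namespace Groth.Agent.H1EssEt

set_option maxHeartbeats 4000000 in
set_option synthInstance.maxHeartbeats 100000 in
/-- The strict henselization is flat over an intermediate ring whose normalisation has purely inseparable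
residues. -/
theorem flat_of_pi (A S : Type u) [CommRing A] [HenselianLocalRing A] [IsNoetherianRing A] [IsReduced A]
    [CommRing S] [IsLocalRing S] [Algebra A S] [IsLocalHom (algebraMap A S)]
    [_root_.Hensel.IsStrictHenselization A S] (D : Subalgebra A S) [IsLocalRing D]
    [IsLocalHom (algebraMap D S)]
    (hPI : ∀ (M : Ideal (integralClosure D (FractionRing D))) [M.IsMaximal],
      PI (ringExpChar (ResidueField D))
        ((Ideal.Quotient.mk M).comp (algebraMap D (integralClosure D (FractionRing D))))) :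
    Module.Flat D S := by
  classical
  have hmin : (minimalPrimes A).Finite := minimalPrimes.finite_of_isNoetherianRing A
  haveI : IsArtinianRing (FractionRing A) := EssEtFrac5.isArtinianRing_fractionRing hmin
  haveI : Algebra.WeaklyEtale A S := weaklyEtale
  haveI : Module.Flat A S := Algebra.WeaklyEtale.flat
  haveI : Module.FaithfullyFlat A S := Module.FaithfullyFlat.of_flat_of_isLocalHom
  have hinjA : Function.Injective (algebraMap A S) := FaithfulSMul.algebraMap_injective A S
  haveI : IsReduced S := (Hensel.isHenzLike_of_isStrictHenselization A S).isReduced_iff.mp inferInstance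
  haveI : IsReduced (FractionRing S) :=
    isReduced_localizationPreserves (nonZeroDivisors S) (FractionRing S) inferInstance
  haveI : IsLocalHom (algebraMap A D) :=
    ⟨fun a ha => isUnit_of_map_unit (algebraMap A S) a (ha.map D.val)⟩
  -- fractions of `D`
  have hu : ∀ s : D⁰, IsUnit ((algebraMap D (FractionRing S)) s) := fun s => by
    obtain ⟨a, ha, e, he⟩ := exists_mul_eq_algebraMap hmin D s.2
    refine isUnit_of_mul_isUnit_left (y := algebraMap D (FractionRing S) e) ?_
    rw [← map_mul, he, ← IsScalarTower.algebraMap_apply]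
    exact isUnit_algebraMap_frac (S := S) ⟨a, ha⟩
  let φ : FractionRing D →ₐ[D] FractionRing S :=
    IsLocalization.liftAlgHom (M := D⁰) (f := Algebra.ofId D (FractionRing S)) hu
  have hφ : Function.Injective φ := by
    refine (injective_iff_map_eq_zero _).mpr fun x hx => ?_
    obtain ⟨⟨d, s⟩, h⟩ := IsLocalization.surj D⁰ x
    have h1 := congrArg φ h
    rw [map_mul, hx, zero_mul, AlgHom.commutes] at h1
    have hd : d = 0 := Subtype.ext ((map_eq_zero_iff _ (IsFractionRing.injective S (FractionRing S))).mp h1.symm)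
    rw [hd, map_zero] at h
    exact (IsLocalization.map_units _ s).mul_left_eq_zero.mp h
  let D'' := integralClosure D (FractionRing D)
  let D' : Subalgebra A (FractionRing S) := ((φ.comp D''.val).range).restrictScalars A
  have hD' : ∀ x : FractionRing S, x ∈ D' ↔ (IsIntegral D x ∧
      ∃ a ∈ A⁰, ∃ d ∈ D, algebraMap A (FractionRing S) a * x = algebraMap S (FractionRing S) d) := by
    intro x
    constructor
    · rintro ⟨y, rfl⟩
      refine ⟨(y.2 : IsIntegral D (y : FractionRing D)).map φ, ?_⟩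
      obtain ⟨⟨d, s⟩, h⟩ := IsLocalization.surj D⁰ (y : FractionRing D)
      obtain ⟨a, ha, e, he⟩ := exists_mul_eq_algebraMap hmin D s.2
      refine ⟨a, ha, (d * e : D), (d * e : D).2, ?_⟩
      have h1 := congrArg φ h
      rw [map_mul, AlgHom.commutes, AlgHom.commutes] at h1
      show algebraMap A (FractionRing S) a * φ y = algebraMap D (FractionRing S) (d * e)
      rw [IsScalarTower.algebraMap_apply A D (FractionRing S), ← he, map_mul, map_mul, ← h1]
      ring
    · rintro ⟨hx, a, ha, d, hd, hxd⟩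
      have haD : algebraMap A D a ∈ D⁰ := mem_nonZeroDivisors_iff_right.mpr fun z hz => by
        refine Subtype.ext ((map_eq_zero_iff _ (IsFractionRing.injective S (FractionRing S))).mp
          ((isUnit_algebraMap_frac (S := S) ⟨a, ha⟩).mul_left_eq_zero.mp ?_))
        rw [IsScalarTower.algebraMap_apply A S (FractionRing S), ← map_mul]
        show algebraMap S (FractionRing S) ((z * algebraMap A D a : D) : S) = 0
        rw [hz]; exact map_zero _
      let y : FractionRing D := IsLocalization.mk' _ (⟨d, hd⟩ : D) (⟨_, haD⟩ : D⁰)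
      have hy : φ y = x := by
        refine (isUnit_algebraMap_frac (S := S) ⟨a, ha⟩).mul_left_cancel ?_
        rw [hxd, IsScalarTower.algebraMap_apply A D (FractionRing S), ← φ.commutes, ← map_mul, mul_comm]
        show φ (y * algebraMap D (FractionRing D) (⟨_, haD⟩ : D⁰)) = _
        rw [IsLocalization.mk'_spec, AlgHom.commutes]
        rfl
      exact ⟨⟨y, (isIntegral_algHom_iff φ hφ).mp (hy ▸ hx)⟩, hy⟩
  let K := FractionRing A
  let A' : Subalgebra A (FractionRing S) := ((fracMap A S).comp (integralClosure A K).val).range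
  have hA' : ∀ x : FractionRing S, x ∈ A' ↔ (IsIntegral A x ∧
      ∃ a ∈ A⁰, ∃ b : A, algebraMap A (FractionRing S) a * x = algebraMap A (FractionRing S) b) := by
    intro x
    constructor
    · rintro ⟨y, rfl⟩
      refine ⟨y.2.map (fracMap A S), ?_⟩
      obtain ⟨⟨r, a⟩, h⟩ := IsLocalization.surj A⁰ (y : K)
      refine ⟨a, a.2, r, ?_⟩
      have h1 := congrArg (fracMap A S) h
      rw [map_mul, AlgHom.commutes, AlgHom.commutes, mul_comm] at h1
      exact h1
    · rintro ⟨hx, a, ha, b, hab⟩
      have hfi : Function.Injective (fracMap A S) := by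
        refine (injective_iff_map_eq_zero _).mpr fun k hk => ?_
        obtain ⟨⟨r, a⟩, h⟩ := IsLocalization.surj A⁰ k
        have h1 := congrArg (fracMap A S) h
        rw [map_mul, hk, zero_mul, AlgHom.commutes, IsScalarTower.algebraMap_apply A S (FractionRing S)] at h1
        have hr : r = 0 := (map_eq_zero_iff _ hinjA).mp
          ((map_eq_zero_iff _ (IsFractionRing.injective S (FractionRing S))).mp h1.symm)
        rw [hr, map_zero] at h
        exact (IsLocalization.map_units K a).mul_left_eq_zero.mp h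
      let y : K := IsLocalization.mk' K b (⟨a, ha⟩ : A⁰)
      have hy : fracMap A S y = x := by
        refine (isUnit_algebraMap_frac (S := S) ⟨a, ha⟩).mul_left_cancel ?_
        rw [hab, ← (fracMap A S).commutes, ← map_mul, mul_comm (algebraMap A _ _), IsLocalization.mk'_spec]
        exact (fracMap A S).commutes b
      exact ⟨⟨y, (isIntegral_algHom_iff (fracMap A S) hfi).mp (hy ▸ hx)⟩, hy⟩
  have hle : A' ≤ D' := fun x hx => by
    obtain ⟨hi, a, ha, b, hab⟩ := (hA' x).mp hx
    exact (hD' x).mpr ⟨hi.tower_top, a, ha, algebraMap A S b, D.algebraMap_mem b, hab.trans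
      (IsScalarTower.algebraMap_apply A S (FractionRing S) b)⟩
  let ι : D →ₐ[A] D' := AlgHom.codRestrict ((IsScalarTower.toAlgHom A S (FractionRing S)).comp D.val) D'
    fun d => (hD' _).mpr ⟨isIntegral_algebraMap, 1, one_mem _, d, d.2, by rw [map_one, one_mul]; rfl⟩
  refine flat_of_residuesDetermined hinjA D A' D' hA' hD' hle ι (fun _ => rfl) ?_
  intro Ω _ _ _ f g hfgA hfgD hm
  let η : D'' →+* D' := ((φ.comp D''.val).rangeRestrict).toRingHom
  have hη : Function.Surjective η := (φ.comp D''.val).rangeRestrict_surjective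
  have hηD : ∀ d : D, η (algebraMap D D'' d) = ι d := fun d => Subtype.ext (φ.commutes d)
  let q := ringExpChar (ResidueField D)
  have hΩ : ExpChar Ω q := (ringExpChar_eq (f.toRingHom.comp ι.toRingHom) hm).1
  letI : Algebra D D' := ι.toRingHom.toAlgebra
  haveI : IsScalarTower D D' (FractionRing S) := IsScalarTower.of_algebraMap_eq fun d => rfl
  haveI : Algebra.IsIntegral D D' := ⟨fun x =>
    (isIntegral_algHom_iff (IsScalarTower.toAlgHom D D' (FractionRing S)) Subtype.val_injective).mp ((hD' _).mp x.2).1⟩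
  have hker : ∀ h : D' →ₐ[A] Ω, (∀ d ∈ maximalIdeal D, h (ι d) = 0) → (RingHom.ker h.toRingHom).IsMaximal := by
    intro h hh
    haveI : (RingHom.ker h.toRingHom).IsPrime := RingHom.ker_isPrime _
    haveI : ((RingHom.ker h.toRingHom).comap (algebraMap D D')).IsPrime := Ideal.IsPrime.comap _
    refine Ideal.isMaximal_of_isIntegral_of_isMaximal_comap (R := D) (S := D') _ ?_
    rw [← (maximalIdeal.isMaximal D).eq_of_le (Ideal.IsPrime.ne_top inferInstance)
      (show maximalIdeal D ≤ (RingHom.ker h.toRingHom).comap (algebraMap D D') from fun d hd => hh d hd)]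
    exact maximalIdeal.isMaximal D
  -- residues of a maximal ideal
  have hpow : ∀ (N : Ideal D'), N.IsMaximal → ∀ x : D', ∃ n : ℕ, ∃ d : D, x ^ q ^ n - ι d ∈ N := by
    intro N hN x
    haveI : (N.comap η).IsMaximal := Ideal.comap_isMaximal_of_surjective η hη
    obtain ⟨y, rfl⟩ := hη x
    obtain ⟨n, d, hd⟩ := hPI (N.comap η) (Ideal.Quotient.mk _ y)
    refine ⟨n, d, ?_⟩
    rw [RingHom.comp_apply, ← map_pow, Ideal.Quotient.eq, Ideal.mem_comap, map_sub, hηD, map_pow] at hd
    rw [← neg_mem_iff, neg_sub]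
    exact hd
  -- uniqueness of the maximal ideal over one of `A'` and `D`
  let B : Subalgebra A S := ⊤
  haveI : IsLocalRing B := (Subalgebra.topEquiv (R := A) (A := S)).symm.toRingEquiv.isLocalRing
  haveI : IsLocalHom (algebraMap B S) := ⟨fun b hb => by
    obtain ⟨c, hc⟩ := hb.exists_right_inv
    exact IsUnit.of_mul_eq_one (⟨c, trivial⟩ : B) (Subtype.ext hc)⟩
  haveI : IsLocalHom (algebraMap A B) :=
    ⟨fun a ha => isUnit_of_map_unit (algebraMap A S) a (ha.map B.val)⟩
  haveI : Algebra.IsIntegral A B := ⟨fun b => by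
    obtain ⟨l, E, hE, -, hgE⟩ := H1Gal.exists_isFE_ge (A := A) (S := S) {(b : S)}
    haveI := hE.finite
    exact (Algebra.IsIntegral.isIntegral (⟨(b : S), hgE (by simp)⟩ : E)).map
      (Subalgebra.inclusion (show E ≤ B from fun x _ => trivial))⟩
  let jA : integralClosure A K →ₐ[A] A' := ((fracMap A S).comp (integralClosure A K).val).rangeRestrict
  let jD : integralClosure A K →ₐ[A] D' := (Subalgebra.inclusion hle).comp jA
  have huniq : ∀ M M' : Ideal D', M.IsMaximal → M'.IsMaximal →
      (∀ c d, jD c - ι d ∈ M ↔ jD c - ι d ∈ M') → M = M' := by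
    let C := integralClosure A K
    let νB : B ⊗[A] C →ₐ[A] FractionRing S :=
      ((toFrac B).comp (Algebra.TensorProduct.map (AlgHom.id B B) C.val)).restrictScalars A
    have hνC : ∀ c : C, νB ((1 : B) ⊗ₜ c) = (jD c : FractionRing S) := fun c => by
      show toFrac B ((1 : B) ⊗ₜ (c : K)) = fracMap A S c
      rw [toFrac_tmul, OneMemClass.coe_one, map_one, one_mul]
    have hνD : ∀ d : D, νB ((⟨(d : S), trivial⟩ : B) ⊗ₜ (1 : C)) = (ι d : FractionRing S) := fun d => by
      show toFrac B ((⟨(d : S), trivial⟩ : B) ⊗ₜ ((1 : C) : K)) = _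
      rw [toFrac_tmul, OneMemClass.coe_one, map_one, mul_one]
      rfl
    let Λ : Subalgebra A (FractionRing S) := νB.range
    have hD'Λ : D' ≤ Λ := fun x hx => by
      obtain ⟨⟨p, hp, hp0⟩, a, ha, d, hd, hxd⟩ := (hD' x).mp hx
      obtain ⟨E', hE's, _, _, hE'⟩ := exists_subalgebra_ge (A := A) (S := S)
        (insert d (p.support.image fun i => ((p.coeff i : D) : S)))
      rw [Finset.coe_insert, Set.insert_subset_iff] at hE's
      have hl : p.map D.val.toRingHom ∈ Polynomial.lifts E'.val.toRingHom :=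
        (Polynomial.lifts_iff_coeff_lifts _).mpr fun i => by
          rw [Polynomial.coeff_map]
          by_cases hi : i ∈ p.support
          · exact ⟨⟨_, hE's.2 (Finset.mem_coe.mpr (Finset.mem_image_of_mem _ hi))⟩, rfl⟩
          · rw [Polynomial.notMem_support_iff.mp hi, map_zero]; exact ⟨0, map_zero _⟩
      obtain ⟨p', hp', -, hp'm⟩ := Polynomial.lifts_and_degree_eq_and_monic hl (hp.map _)
      have hxi : IsIntegral E' x := by
        refine ⟨p', hp'm, ?_⟩
        rw [show algebraMap E' (FractionRing S) = (algebraMap S (FractionRing S)).comp E'.val.toRingHom from rfl,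
          ← Polynomial.eval₂_map, hp', Polynomial.eval₂_map]
        exact hp0
      obtain ⟨y', hy'⟩ := exists_toFrac_eq E' hE' _ hxi ⟨a, ha, d, hE's.1, hxd⟩
      refine ⟨Algebra.TensorProduct.map (Subalgebra.inclusion (show E' ≤ B from fun x _ => trivial))
        (AlgHom.id A C) y', ?_⟩
      rw [← hy']
      show (νB.comp (Algebra.TensorProduct.map (Subalgebra.inclusion (show E' ≤ B from fun x _ => trivial))
          (AlgHom.id A C))) y' =
        (((toFrac E').comp (Algebra.TensorProduct.map (AlgHom.id E' E') C.val)).restrictScalars A) y'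
      congr 1
      exact Algebra.TensorProduct.ext' fun e x => rfl
    let incl : D' →ₐ[A] Λ := Subalgebra.inclusion hD'Λ
    let ν : B ⊗[A] C →ₐ[A] Λ := νB.rangeRestrict
    have hν : Function.Surjective ν := νB.rangeRestrict_surjective
    letI : Algebra D' Λ := incl.toRingHom.toAlgebra
    haveI : IsScalarTower A D' Λ := IsScalarTower.of_algebraMap_eq fun a => (incl.commutes a).symm
    haveI : Algebra.IsIntegral A (B ⊗[A] C) := ⟨fun z => by
      induction z using TensorProduct.induction_on with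
      | zero => exact isIntegral_zero
      | add x y hx hy => exact hx.add hy
      | tmul b c =>
        rw [show b ⊗ₜ[A] c = (b ⊗ₜ[A] (1 : C)) * ((1 : B) ⊗ₜ[A] c) by
          rw [Algebra.TensorProduct.tmul_mul_tmul, one_mul, mul_one]]
        exact ((Algebra.IsIntegral.isIntegral b).map (Algebra.TensorProduct.includeLeft : B →ₐ[A] B ⊗[A] C)).mul
          ((Algebra.IsIntegral.isIntegral c).map (Algebra.TensorProduct.includeRight : C →ₐ[A] B ⊗[A] C))⟩
    haveI : Algebra.IsIntegral A Λ := ⟨fun z => by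
      obtain ⟨w, rfl⟩ := hν z
      exact (Algebra.IsIntegral.isIntegral w).map ν⟩
    haveI : Algebra.IsIntegral D' Λ := ⟨fun z => (Algebra.IsIntegral.isIntegral (R := A) z).tower_top⟩
    intro M M' hM hM' hMM'
    have hlift : ∀ M : Ideal D', M.IsMaximal → ∃ N : Ideal (B ⊗[A] C), N.IsMaximal ∧
        ∀ (x : D') (z : B ⊗[A] C), ν z = incl x → (x ∈ M ↔ z ∈ N) := by
      intro M hM
      obtain ⟨P, hP, hPM⟩ := Ideal.exists_ideal_over_maximal_of_isIntegral (S := Λ) M fun x hx => by
        have : x = 0 := Subalgebra.inclusion_injective hD'Λ (hx.trans (map_zero _).symm)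
        rw [this]; exact M.zero_mem
      haveI := hP
      refine ⟨P.comap ν, Ideal.comap_isMaximal_of_surjective ν hν, fun x z hz => ?_⟩
      rw [← hPM, Ideal.mem_comap, Ideal.mem_comap, hz]
      rfl
    obtain ⟨N, hN, hMN⟩ := hlift M hM
    obtain ⟨N', hN', hMN'⟩ := hlift M' hM'
    have hBmem : ∀ N : Ideal (B ⊗[A] C), N.IsMaximal → ∀ b : B, (b ⊗ₜ[A] (1 : C)) ∈ N ↔ b ∈ maximalIdeal B := by
      intro N hN b
      haveI := hN
      haveI : (N.comap (Algebra.TensorProduct.includeLeft : B →ₐ[A] B ⊗[A] C)).IsPrime := Ideal.IsPrime.comap _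
      have hA : N.comap (algebraMap A (B ⊗[A] C)) = maximalIdeal A :=
        IsLocalRing.eq_maximalIdeal (Ideal.isMaximal_comap_of_isIntegral_of_isMaximal N)
      have hmax : (N.comap (Algebra.TensorProduct.includeLeft : B →ₐ[A] B ⊗[A] C)).IsMaximal := by
        let P₀ : Ideal B := N.comap (Algebra.TensorProduct.includeLeft : B →ₐ[A] B ⊗[A] C)
        refine Ideal.isMaximal_of_isIntegral_of_isMaximal_comap (R := A) (S := B) P₀ ?_
        rw [show P₀.comap (algebraMap A B) = maximalIdeal A by rw [← hA]; rfl]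
        exact maximalIdeal.isMaximal A
      rw [← IsLocalRing.eq_maximalIdeal hmax]
      rfl
    have hCDmem : ∀ (c : C) (d : D), ((1 : B) ⊗ₜ[A] c - (⟨(d : S), trivial⟩ : B) ⊗ₜ[A] (1 : C)) ∈ N ↔
        ((1 : B) ⊗ₜ[A] c - (⟨(d : S), trivial⟩ : B) ⊗ₜ[A] (1 : C)) ∈ N' := fun c d => by
      have hz : ν ((1 : B) ⊗ₜ[A] c - (⟨(d : S), trivial⟩ : B) ⊗ₜ[A] (1 : C)) = incl (jD c - ι d) := by
        rw [map_sub, map_sub]
        exact congrArg₂ (· - ·) (Subtype.ext (hνC c)) (Subtype.ext (hνD d))
      rw [← hMN _ _ hz, ← hMN' _ _ hz]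
      exact hMM' c d
    let I : Ideal (B ⊗[A] C) := N ⊓ N'
    have hI : I ≠ ⊤ := fun h => hN.ne_top (top_le_iff.mp (h ▸ inf_le_left : ⊤ ≤ N))
    haveI : Nontrivial ((B ⊗[A] C) ⧸ I) := Ideal.Quotient.nontrivial_iff.mpr hI
    haveI hexpA : ExpChar ((B ⊗[A] C) ⧸ I) q := by
      have hk : ∀ a ∈ maximalIdeal A, algebraMap A ((B ⊗[A] C) ⧸ I) a = 0 := fun a ha => by
        rw [IsScalarTower.algebraMap_apply A (B ⊗[A] C) _, Ideal.Quotient.algebraMap_eq]
        refine Ideal.Quotient.eq_zero_iff_mem.mpr ⟨?_, ?_⟩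
        · exact (IsLocalRing.eq_maximalIdeal (Ideal.isMaximal_comap_of_isIntegral_of_isMaximal (R := A) N)).ge ha
        · exact (IsLocalRing.eq_maximalIdeal (Ideal.isMaximal_comap_of_isIntegral_of_isMaximal (R := A) N')).ge ha
      let θ : ResidueField A →+* (B ⊗[A] C) ⧸ I := Ideal.Quotient.lift _ (algebraMap A _) hk
      haveI : ExpChar (ResidueField D) q := ringExpChar.expChar _
      haveI : ExpChar (ResidueField A) q :=
        (RingHom.expChar_iff (ResidueField.map (algebraMap A D)) (ResidueField.map (algebraMap A D)).injective q).mpr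
          inferInstance
      exact expChar_of_injective_ringHom θ.injective q
    have hrep : ∀ z : B ⊗[A] C, ∃ n : ℕ, ∃ b : B,
        Ideal.Quotient.mk I (z ^ q ^ n) = Ideal.Quotient.mk I (b ⊗ₜ[A] (1 : C)) := by
      intro z
      induction z using TensorProduct.induction_on with
      | zero =>
        refine ⟨0, 0, ?_⟩
        rw [pow_zero, pow_one, zero_tmul]
      | tmul b c =>
        obtain ⟨n, d, hd⟩ := hpow M hM (jD c)
        let b' : B := ⟨(d : S), trivial⟩
        refine ⟨n, b ^ q ^ n * b', ?_⟩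
        rw [Algebra.TensorProduct.tmul_pow, Ideal.Quotient.eq,
          show ((b ^ q ^ n : B) ⊗ₜ[A] (c ^ q ^ n : C)) - ((b ^ q ^ n * b' : B) ⊗ₜ[A] (1 : C)) =
            ((b ^ q ^ n : B) ⊗ₜ[A] (1 : C)) * ((1 : B) ⊗ₜ[A] (c ^ q ^ n : C) - b' ⊗ₜ[A] (1 : C)) by
          rw [mul_sub, Algebra.TensorProduct.tmul_mul_tmul, Algebra.TensorProduct.tmul_mul_tmul, mul_one,
            one_mul, one_mul]]
        have hz : ν ((1 : B) ⊗ₜ[A] (c ^ q ^ n : C) - b' ⊗ₜ[A] (1 : C)) = incl (jD c ^ q ^ n - ι d) := by
          rw [map_sub, map_sub, ← map_pow jD]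
          exact congrArg₂ (· - ·) (Subtype.ext (hνC _)) (Subtype.ext (hνD d))
        have hN1 := (hMN _ _ hz).mp hd
        exact Ideal.mul_mem_left _ _ ⟨hN1, (hCDmem _ _).mp hN1⟩
      | add x y hx hy =>
        obtain ⟨n, b, hn⟩ := hx
        obtain ⟨m, b', hm'⟩ := hy
        refine ⟨n + m, b ^ q ^ m + b' ^ q ^ n, ?_⟩
        have hx' : Ideal.Quotient.mk I x ^ q ^ (n + m) = Ideal.Quotient.mk I ((b ^ q ^ m) ⊗ₜ[A] (1 : C)) := by
          rw [pow_add, pow_mul, ← map_pow, hn, ← map_pow, Algebra.TensorProduct.tmul_pow, one_pow]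
        have hy' : Ideal.Quotient.mk I y ^ q ^ (n + m) = Ideal.Quotient.mk I ((b' ^ q ^ n) ⊗ₜ[A] (1 : C)) := by
          rw [add_comm n m, pow_add, pow_mul, ← map_pow, hm', ← map_pow, Algebra.TensorProduct.tmul_pow, one_pow]
        rw [map_pow, map_add]
        refine (add_pow_expChar_pow (R := (B ⊗[A] C) ⧸ I) (p := q) (n := n + m) _ _).trans ?_
        rw [hx', hy', ← map_add, ← add_tmul]
    have hNN' : ∀ z, z ∈ N → z ∈ N' := fun z hz => by
      obtain ⟨n, b, hb⟩ := hrep z
      have hb' := Ideal.Quotient.eq.mp hb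
      have hpos : 0 < q ^ n := pow_pos (expChar_pos ((B ⊗[A] C) ⧸ I) q) n
      have h1 : b ⊗ₜ[A] (1 : C) ∈ N := by
        have := N.sub_mem (N.pow_mem_of_mem hz _ hpos) hb'.1
        rwa [sub_sub_cancel] at this
      have h2 : b ⊗ₜ[A] (1 : C) ∈ N' := (hBmem N' hN' b).mpr ((hBmem N hN b).mp h1)
      exact hN'.isPrime.mem_of_pow_mem _ (by simpa using N'.add_mem hb'.2 h2)
    have hNeq : N = N' := hN.eq_of_le hN'.ne_top hNN'
    refine Ideal.ext fun x => ?_
    obtain ⟨z, hz⟩ := hν (incl x)
    rw [hMN x z hz, hMN' x z hz, hNeq]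
  haveI := hΩ
  refine AlgHom.ext fun x => ?_
  have hmg : ∀ d ∈ maximalIdeal D, g (ι d) = 0 := fun d hd => (hfgD d).symm.trans (hm d hd)
  have hker_eq : RingHom.ker f.toRingHom = RingHom.ker g.toRingHom :=
    huniq _ _ (hker f hm) (hker g hmg) fun c d => by
      show f (jD c - ι d) = 0 ↔ g (jD c - ι d) = 0
      rw [map_sub, map_sub, show f (jD c) = g (jD c) from hfgA (jA c), hfgD d]
  obtain ⟨n, d, hd⟩ := hpow _ (hker f hm) x
  have h1 : f x ^ q ^ n = f (ι d) := sub_eq_zero.mp (by
    rw [← map_pow, ← map_sub]; exact hd)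
  have h2 : g x ^ q ^ n = g (ι d) := sub_eq_zero.mp (by
    rw [← map_pow, ← map_sub]
    exact (hker_eq ▸ hd : x ^ q ^ n - ι d ∈ RingHom.ker g.toRingHom))
  refine iterateFrobenius_inj Ω q n ?_
  rw [iterateFrobenius_def, iterateFrobenius_def, h1, h2, hfgD]

end Groth.Agent.H1EssEt
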