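import Groth.Agent.H1EssEt.NormDesc
import Groth.Agent.H1EssEt.Basic
import Mathlib

/-!
# Flatness over an intermediate ring from the residues of its normalisation
-/

set_option autoImplicit false
universe u
open TensorProduct nonZeroDivisors IsLocalRing

namespace Groth.Agent.H1EssEt

set_option maxHeartbeats 1000000 in
/-- A flat algebra map between weakly étale algebras is weakly étale. -/
theorem weaklyEtale_of_flat (A B : Type u) [CommRing A] [CommRing B] [Algebra A B] (C : Type u) [CommRing C] [Algebra A C] [Algebra B C] [IsScalarTower A B C]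
    [Algebra.WeaklyEtale A C] [Module.Flat B C] : Algebra.WeaklyEtale B C := by
  refine { flat := inferInstance, flat_lmul' := ?_ }
  let μA := Algebra.TensorProduct.lmul' A (S := C)
  let μB := Algebra.TensorProduct.lmul' B (S := C)
  let π : C ⊗[A] C →ₐ[A] C ⊗[B] C := Algebra.TensorProduct.lift
    ((Algebra.TensorProduct.includeLeft (R := B) (S := B) (A := C) (B := C)).restrictScalars A)
    ((Algebra.TensorProduct.includeRight (R := B) (A := C) (B := C)).restrictScalars A) (fun _ _ => .all _ _)
  have hπt : ∀ x y : C, π (x ⊗ₜ[A] y) = x ⊗ₜ[B] y := fun x y => by simp [π]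
  have hπ : Function.Surjective π := fun z => by
    induction z using TensorProduct.induction_on with
    | zero => exact ⟨0, map_zero _⟩
    | tmul x y => exact ⟨x ⊗ₜ y, hπt x y⟩
    | add x y hx hy => obtain ⟨a, rfl⟩ := hx; obtain ⟨b, rfl⟩ := hy; exact ⟨a + b, map_add _ _ _⟩
  letI a1 : Algebra (C ⊗[A] C) (C ⊗[B] C) := π.toRingHom.toAlgebra
  letI a2 : Algebra (C ⊗[B] C) C := μB.toRingHom.toAlgebra
  letI a3 : Algebra (C ⊗[A] C) C := μA.toRingHom.toAlgebra
  haveI : Module.Flat (C ⊗[A] C) C := Algebra.WeaklyEtale.flat_lmul' A C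
  have hμ : ∀ z, μA z = μB (π z) := fun z => by
    induction z using TensorProduct.induction_on with
    | zero => simp
    | tmul x y => simp [μA, μB, hπt]
    | add x y hx hy => simp only [map_add, hx, hy]
  have hsm : ∀ z (c : C), (π z) • c = z • c := fun z c => congrArg (· * c) (hμ z).symm
  show Module.Flat (C ⊗[B] C) C
  refine Module.Flat.of_forall_isTrivialRelation fun {l f x} hfx => ?_
  choose g hg using fun i => hπ (f i)
  have h1 : ∑ i, g i • x i = 0 := by
    rw [← hfx]
    refine Finset.sum_congr rfl fun i _ => ?_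
    rw [← hg i]
    exact (hsm (g i) (x i)).symm
  obtain ⟨q, a, y, h, ha⟩ := Module.Flat.isTrivialRelation_of_sum_smul_eq_zero (R := C ⊗[A] C) (M := C) (f := g) (x := x) h1
  refine ⟨q, fun i r => π (a i r), y, fun i => ?_, fun r => ?_⟩
  · exact (h i).trans (Finset.sum_congr rfl fun r _ => (hsm (a i r) (y r)).symm)
  · simp only [← hg, ← map_mul, ← map_sum, ha r, map_zero]

variable {A S : Type u} [CommRing A] [IsLocalRing A] [CommRing S] [IsLocalRing S] [Algebra A S]
  [IsLocalHom (algebraMap A S)] [Hensel.IsStrictHenselization A S]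
  [IsReduced (FractionRing S)] [IsArtinianRing (FractionRing A)]

/-- Algebra maps out of `D'` into domains which kill the maximal ideal of `D` are determined by their
restrictions to `A'` and `D`. -/
def ResiduesDetermined (D : Subalgebra A S) [IsLocalRing D] (A' D' : Subalgebra A (FractionRing S))
    (hA'D' : A' ≤ D') (ι : D →ₐ[A] D') : Prop :=
  ∀ (Ω : Type u) [CommRing Ω] [IsDomain Ω] [Algebra A Ω] (f g : D' →ₐ[A] Ω),
    (∀ a, f (Subalgebra.inclusion hA'D' a) = g (Subalgebra.inclusion hA'D' a)) →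
    (∀ d, f (ι d) = g (ι d)) → (∀ d ∈ maximalIdeal D, f (ι d) = 0) → f = g

set_option maxHeartbeats 4000000 in
set_option synthInstance.maxHeartbeats 100000 in
/-- If the residues of the normalisation of `D` are determined by `A'` and `D`,
every element of the kernel of `S ⊗ D → S` is killed by an element with unit image. -/
theorem exists_killer_univ [Module.Flat A S] (hinjA : Function.Injective (algebraMap A S))
    (D T : Subalgebra A S) (hT : ∀ x, x ∈ T) [IsLocalRing D] [IsLocalRing T]
    [IsLocalHom (algebraMap D S)] [Module.Flat A T]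
    (A' D' : Subalgebra A (FractionRing S))
    (hA' : ∀ x : (FractionRing S), x ∈ A' ↔ (IsIntegral A x ∧
      ∃ a ∈ nonZeroDivisors A, ∃ b : A, algebraMap A (FractionRing S) a * x = algebraMap A (FractionRing S) b))
    (hD' : ∀ x : (FractionRing S), x ∈ D' ↔ (IsIntegral D x ∧
      ∃ a ∈ nonZeroDivisors A, ∃ d ∈ D, algebraMap A (FractionRing S) a * x = algebraMap S (FractionRing S) d))
    (hA'D' : A' ≤ D') (ι : D →ₐ[A] D') (hι : ∀ d : D, (ι d : (FractionRing S)) = algebraMap S (FractionRing S) d)
    (hdet : ResiduesDetermined D A' D' hA'D' ι) :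
    ∀ z₀ : T ⊗[A] D, Algebra.TensorProduct.productMap (AlgHom.id A T) (Subalgebra.inclusion (fun x _ => hT x : D ≤ T)) z₀ = 0 →
      ∃ s : T ⊗[A] D, IsUnit (Algebra.TensorProduct.productMap (AlgHom.id A T) (Subalgebra.inclusion (fun x _ => hT x : D ≤ T)) s) ∧
        s * z₀ = 0 := by
  classical
  let hle : D ≤ T := fun x _ => hT x
  have hloc : ∀ d : D, IsUnit (Subalgebra.inclusion hle d) → IsUnit d :=
    fun d hu => isUnit_of_map_unit (algebraMap D S) d (hu.map T.val)
  let K := FractionRing A
  letI : Algebra K (FractionRing S) := (fracMap A S).toRingHom.toAlgebra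
  haveI : IsScalarTower A K (FractionRing S) :=
    IsScalarTower.of_algebraMap_eq fun a => ((fracMap A S).commutes a).symm
  have hfi : Function.Injective (fracMap A S) := by
    refine (injective_iff_map_eq_zero _).mpr fun k hk => ?_
    obtain ⟨⟨r, a⟩, h⟩ := IsLocalization.surj A⁰ k
    have h1 := congrArg (fracMap A S) h
    rw [map_mul, hk, zero_mul, AlgHom.commutes, IsScalarTower.algebraMap_apply A S (FractionRing S)] at h1
    have hr : r = 0 := (map_eq_zero_iff _ hinjA).mp
      ((map_eq_zero_iff _ (IsFractionRing.injective S (FractionRing S))).mp h1.symm)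
    rw [hr, map_zero] at h
    exact (IsLocalization.map_units K a).mul_left_eq_zero.mp h
  intro z₀ hz₀
  obtain ⟨Z, hZ⟩ := TensorProduct.exists_finset z₀
  obtain ⟨E, hEs, _, _, hE⟩ := exists_subalgebra_ge (A := A) (S := S)
    (Z.image (fun i => (i.1 : S)) ∪ Z.image (fun i => (i.2 : S)))
  haveI : Module.Flat A E := by
    obtain ⟨C, _, _, q, _, _, _, _, -, hl⟩ := EtAlg7.exists_presentation hE
    haveI : Module.Flat C E := IsLocalization.flat E q.primeCompl
    exact Module.Flat.trans A C E
  let D₀ : Subalgebra A S := Algebra.adjoin A ((Z.image (fun i => (i.2 : S)) : Finset S) : Set S)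
  have hD₀D : D₀ ≤ D := Algebra.adjoin_le fun x hx => by
    obtain ⟨i, -, rfl⟩ := Finset.mem_image.mp (Finset.mem_coe.mp hx)
    exact i.2.2
  have hD₀E : D₀ ≤ E := Algebra.adjoin_le fun x hx =>
    hEs (Finset.mem_coe.mpr (Finset.mem_union_right _ (Finset.mem_coe.mp hx)))
  let L : Subalgebra K (FractionRing S) :=
    { carrier := {x | ∃ a ∈ A⁰, ∃ d ∈ D₀, algebraMap A (FractionRing S) a * x = algebraMap S (FractionRing S) d}
      mul_mem' := fun {x y} ⟨a, ha, d, hd, hx⟩ ⟨b, hb, e, he, hy⟩ => ⟨a * b, mul_mem ha hb, d * e, mul_mem hd he, by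
        rw [map_mul, map_mul, ← hx, ← hy]; ring⟩
      add_mem' := fun {x y} ⟨a, ha, d, hd, hx⟩ ⟨b, hb, e, he, hy⟩ => ⟨a * b, mul_mem ha hb,
        algebraMap A S b * d + algebraMap A S a * e,
        add_mem (mul_mem (D₀.algebraMap_mem b) hd) (mul_mem (D₀.algebraMap_mem a) he), by
        rw [map_mul, map_add, map_mul, map_mul, ← hx, ← hy, ← IsScalarTower.algebraMap_apply,
          ← IsScalarTower.algebraMap_apply]; ring⟩
      algebraMap_mem' := fun k => by
        obtain ⟨⟨r, a⟩, h⟩ := IsLocalization.surj A⁰ k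
        refine ⟨a, a.2, algebraMap A S r, D₀.algebraMap_mem r, ?_⟩
        have h1 := congrArg (fracMap A S) h
        rw [map_mul, AlgHom.commutes, AlgHom.commutes] at h1
        rw [← IsScalarTower.algebraMap_apply, mul_comm]
        exact h1 }
  haveI : Module.Finite K (K ⊗[A] E) := finite_tensor hE K
  let g : K ⊗[A] E →ₐ[K] FractionRing S :=
    Algebra.TensorProduct.lift (Algebra.ofId K (FractionRing S))
      ((IsScalarTower.toAlgHom A S (FractionRing S)).comp E.val) fun _ _ => Commute.all _ _
  haveI : Module.Finite K L := by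
    haveI : Module.Finite K (LinearMap.range g.toLinearMap) := Module.Finite.range _
    haveI : IsNoetherian K (LinearMap.range g.toLinearMap) := isNoetherian_of_isNoetherianRing_of_finite K _
    have hle' : Subalgebra.toSubmodule L ≤ LinearMap.range g.toLinearMap := by
      rintro x ⟨a, ha, d, hd, hx⟩
      refine ⟨IsLocalization.mk' K 1 (⟨a, ha⟩ : A⁰) ⊗ₜ ⟨d, hD₀E hd⟩, ?_⟩
      refine (isUnit_algebraMap_frac (S := S) ⟨a, ha⟩).mul_left_cancel ?_
      show algebraMap A (FractionRing S) a * (fracMap A S _ * algebraMap S (FractionRing S) d) = _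
      rw [hx, ← mul_assoc, ← (fracMap A S).commutes, ← map_mul, mul_comm (algebraMap A _ _),
        IsLocalization.mk'_spec, map_one, map_one, one_mul]
    exact Module.Finite.of_injective (Submodule.inclusion hle') (Submodule.inclusion_injective _)
  haveI : IsArtinianRing L := IsArtinianRing.of_finite K L
  haveI : IsReduced L := isReduced_of_injective L.val.toRingHom Subtype.val_injective
  haveI : IsReduced (L ⊗[A] E) := isReduced_tensor hE L
  haveI : Module.Finite L (L ⊗[A] E) := finite_tensor hE L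
  haveI : IsArtinianRing (L ⊗[A] E) := IsArtinianRing.of_finite L (L ⊗[A] E)
  let cm := Algebra.TensorProduct.comm A L E
  haveI : IsArtinianRing (E ⊗[A] L) := RingEquiv.isArtinianRing cm.toRingEquiv
  haveI : IsReduced (E ⊗[A] L) := isReduced_of_injective cm.symm.toRingHom cm.symm.injective
  let νT : E ⊗[A] L →ₐ[E] FractionRing S :=
    Algebra.TensorProduct.lift (Algebra.ofId E (FractionRing S)) (L.val.restrictScalars A) fun _ _ => Commute.all _ _
  obtain ⟨ε, hε, hker⟩ := exists_idempotent (RingHom.ker νT.toRingHom)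
  have hεi : IsIntegral E (1 - ε) := by
    refine IsIntegral.sub isIntegral_one ⟨Polynomial.X ^ 2 - Polynomial.X, Polynomial.monic_X_pow_sub (by
      rw [Polynomial.degree_X]; norm_num), ?_⟩
    simp [pow_two, hε.eq]
  obtain ⟨y, hy⟩ := (bijective_toIntegralClosure hE L).2 ⟨1 - ε, hεi⟩
  have hy' : Algebra.TensorProduct.map (AlgHom.id E E) (integralClosure A L).val y = 1 - ε :=
    congrArg Subtype.val hy
  let jD : integralClosure A L →ₐ[A] D' :=
    AlgHom.codRestrict ((L.val.restrictScalars A).comp (integralClosure A L).val) D' fun x => by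
      obtain ⟨a, ha, d, hd, hx⟩ := (x : L).2
      exact (hD' _).mpr ⟨(x.2.map (L.val.restrictScalars A)).tower_top, a, ha, d, hD₀D hd, hx⟩
  let inclE : E →ₐ[A] T := Subalgebra.inclusion (fun x _ => hT x)
  let incl : T ⊗[A] D' →ₐ[A] T ⊗[A] FractionRing S := Algebra.TensorProduct.map (AlgHom.id A T) D'.val
  have hincl : Function.Injective incl :=
    Module.Flat.lTensor_preserves_injective_linearMap (M := T) D'.val.toLinearMap Subtype.val_injective
  let jL : E ⊗[A] L →ₐ[A] T ⊗[A] FractionRing S := Algebra.TensorProduct.map inclE (L.val.restrictScalars A)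
  let σ' : T ⊗[A] D' := Algebra.TensorProduct.map inclE jD y
  have hσ' : incl σ' = jL (1 - ε) := by
    rw [← hy']
    show (incl.comp (Algebra.TensorProduct.map inclE jD)) y =
      (jL.comp ((Algebra.TensorProduct.map (AlgHom.id E E) (integralClosure A L).val).restrictScalars A)) y
    congr 1
    exact Algebra.TensorProduct.ext' fun e x => rfl
  let ιT : T ⊗[A] D →ₐ[T] T ⊗[A] D' := Algebra.TensorProduct.map (AlgHom.id T T) ι
  have hιinj : Function.Injective ιT :=
    Module.Flat.lTensor_preserves_injective_linearMap (M := T) ι.toLinearMap fun a b h => Subtype.ext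
      (IsFractionRing.injective S (FractionRing S) ((hι a).symm.trans ((congrArg Subtype.val h).trans (hι b))))
  let μ : T ⊗[A] D →ₐ[T] T :=
    Algebra.TensorProduct.lift (AlgHom.id T T) (Subalgebra.inclusion hle) fun _ _ => Commute.all _ _
  have hμP : ∀ z, Algebra.TensorProduct.productMap (AlgHom.id A T) (Subalgebra.inclusion hle) z = μ z := fun z => by
    induction z using TensorProduct.induction_on with
    | zero => simp
    | add x y hx hy => simp only [map_add, hx, hy]
    | tmul e d => rfl
  let ν : T ⊗[A] D' →ₐ[T] FractionRing S :=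
    Algebra.TensorProduct.lift (Algebra.ofId T (FractionRing S)) D'.val fun _ _ => Commute.all _ _
  have hνσ : ν σ' = νT (1 - ε) := by
    rw [← hy']
    show ((ν.restrictScalars A).comp (Algebra.TensorProduct.map inclE jD)) y =
      ((νT.restrictScalars A).comp ((Algebra.TensorProduct.map (AlgHom.id E E) (integralClosure A L).val).restrictScalars A)) y
    congr 1
    exact Algebra.TensorProduct.ext' fun e x => rfl
  have hz0' : z₀ = ∑ i ∈ Z, i.1 ⊗ₜ[A] i.2 := hZ
  have hmemL : ∀ i ∈ Z, algebraMap S (FractionRing S) (i.2 : S) ∈ L := fun i hi =>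
    ⟨1, one_mem _, (i.2 : S), Algebra.subset_adjoin (Finset.mem_coe.mpr (Finset.mem_image.mpr ⟨i, hi, rfl⟩)),
      by rw [map_one, one_mul]⟩
  have hmemE : ∀ i ∈ Z, (i.1 : S) ∈ E := fun i hi =>
    hEs (Finset.mem_coe.mpr (Finset.mem_union_left _ (Finset.mem_image.mpr ⟨i, hi, rfl⟩)))
  let zL : E ⊗[A] L := ∑ i : Z, (⟨_, hmemE i i.2⟩ : E) ⊗ₜ[A] (⟨_, hmemL i i.2⟩ : L)
  have hjzL : jL zL = incl (ιT z₀) := by
    rw [map_sum, hz0', map_sum, map_sum, ← Finset.sum_coe_sort Z]
    refine Finset.sum_congr rfl fun i _ => ?_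
    show _ ⊗ₜ[A] _ = ((i : T × D).1) ⊗ₜ[A] (ι (i : T × D).2 : FractionRing S)
    rw [hι]
    rfl
  have hνzL : νT zL = algebraMap T (FractionRing S) (μ z₀) := by
    rw [map_sum, hz0', map_sum, map_sum, ← Finset.sum_coe_sort Z]
    refine Finset.sum_congr rfl fun i _ => ?_
    rw [Algebra.TensorProduct.lift_tmul, Algebra.TensorProduct.lift_tmul, map_mul]
    rfl
  let q : Ideal (T ⊗[A] D) := (maximalIdeal T).comap μ
  let 𝔟 : Ideal (T ⊗[A] D') :=
    { carrier := {s | s * ιT z₀ = 0}
      zero_mem' := zero_mul _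
      add_mem' := fun {s t} hs ht => by
        show (s + t) * ιT z₀ = 0
        rw [add_mul, hs, ht, add_zero]
      smul_mem' := fun c s hs => by
        show c • s * ιT z₀ = 0
        rw [smul_eq_mul, mul_assoc, hs, mul_zero] }
  have hσb : σ' ∈ 𝔟 := hincl (by
    rw [map_mul, map_zero, hσ', ← hjzL, ← map_mul]
    have hk : zL ∈ RingHom.ker νT.toRingHom := RingHom.mem_ker.mpr (by
      show νT zL = 0
      rw [hνzL, ← hμP, hz₀, map_zero])
    obtain ⟨c, hc⟩ := Ideal.mem_span_singleton'.mp (hker ▸ hk)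
    rw [show (1 - ε) * zL = 0 by rw [← hc]; linear_combination -c * hε.eq, map_zero])
  by_contra! hno
  letI : Algebra D D' := ι.toRingHom.toAlgebra
  haveI : IsScalarTower D D' (FractionRing S) := IsScalarTower.of_algebraMap_eq fun d => (hι d).symm
  haveI : Algebra.IsIntegral D D' := ⟨fun x =>
    (isIntegral_algHom_iff (IsScalarTower.toAlgHom D D' (FractionRing S)) Subtype.val_injective).mp ((hD' _).mp x.2).1⟩
  letI : Algebra (T ⊗[A] D) (T ⊗[A] D') := ιT.toRingHom.toAlgebra
  haveI : Algebra.IsIntegral (T ⊗[A] D) (T ⊗[A] D') := ⟨fun w => by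
    induction w using TensorProduct.induction_on with
    | zero => exact isIntegral_zero
    | add x y hx hy => exact hx.add hy
    | tmul e x =>
      rw [show e ⊗ₜ[A] x = algebraMap (T ⊗[A] D) (T ⊗[A] D') (e ⊗ₜ 1) * ((1 : T) ⊗ₜ[A] x) by
        show _ = (e ⊗ₜ[A] ι 1) * _
        rw [map_one, Algebra.TensorProduct.tmul_mul_tmul, mul_one, one_mul]]
      exact isIntegral_algebraMap.mul (IsIntegral.map_of_comp_eq
        (Algebra.TensorProduct.includeRight : D →ₐ[A] T ⊗[A] D).toRingHom
        (Algebra.TensorProduct.includeRight : D' →ₐ[A] T ⊗[A] D').toRingHom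
        (RingHom.ext fun d => rfl) (Algebra.IsIntegral.isIntegral x))⟩
  haveI : q.IsPrime := Ideal.IsPrime.comap _
  obtain ⟨Q, hQb, hQp, hQ⟩ := Ideal.exists_ideal_over_prime_of_isIntegral q 𝔟 fun s hs =>
    Ideal.mem_comap.mpr ((mem_maximalIdeal _).mpr fun hu => by
      exact hno s ((hμP s).symm ▸ hu) (hιinj (by rw [map_mul, map_zero]; exact hs)))
  haveI := hQp
  have hQ' : ∀ s, ιT s ∈ Q ↔ μ s ∈ maximalIdeal T := fun s => SetLike.ext_iff.mp hQ s
  -- retraction to the base change of the normalisation of `A`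
  let jA : integralClosure A K →ₐ[A] A' :=
    AlgHom.codRestrict ((fracMap A S).comp (integralClosure A K).val) A' fun x => (hA' _).mpr
      ⟨x.2.map (fracMap A S), by
        obtain ⟨⟨r, a⟩, h⟩ := IsLocalization.surj A⁰ (x : K)
        refine ⟨a, a.2, r, ?_⟩
        have h1 := congrArg (fracMap A S) h
        rw [map_mul, AlgHom.commutes, AlgHom.commutes, mul_comm] at h1
        exact h1⟩
  let νA : T ⊗[A] integralClosure A K →ₐ[T] FractionRing S :=
    (toFrac T).comp (Algebra.TensorProduct.map (AlgHom.id T T) (integralClosure A K).val)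
  have hνA : Function.Injective νA := (toFrac_injective T).comp
    (Module.Flat.lTensor_preserves_injective_linearMap (M := T) (integralClosure A K).val.toLinearMap Subtype.val_injective)
  letI : Algebra D T := (Subalgebra.inclusion hle).toRingHom.toAlgebra
  haveI : IsScalarTower D T (FractionRing S) := IsScalarTower.of_algebraMap_eq fun _ => rfl
  have hrange : ∀ w, ν w ∈ νA.range := by
    intro w
    induction w using TensorProduct.induction_on with
    | zero => rw [map_zero]; exact zero_mem _
    | add x y hx hy => rw [map_add]; exact add_mem hx hy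
    | tmul e x =>
      show algebraMap T (FractionRing S) e * (x : FractionRing S) ∈ νA.range
      refine mul_mem (νA.range.algebraMap_mem e) ?_
      obtain ⟨⟨p, hp, hp0⟩, a, ha, d, hd, hxa⟩ := (hD' _).mp x.2
      obtain ⟨E', hE's, _, _, hE'⟩ := exists_subalgebra_ge (A := A) (S := S)
        (insert d (p.support.image fun i => ((p.coeff i : D) : S)))
      rw [Finset.coe_insert, Set.insert_subset_iff] at hE's
      have hl : p.map D.val.toRingHom ∈ Polynomial.lifts E'.val.toRingHom :=
        (Polynomial.lifts_iff_coeff_lifts _).mpr fun i => by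
          rw [Polynomial.coeff_map]
          by_cases hi : i ∈ p.support
          · exact ⟨⟨_, hE's.2 (Finset.mem_coe.mpr (Finset.mem_image_of_mem _ hi))⟩, rfl⟩
          · rw [Polynomial.notMem_support_iff.mp hi, map_zero]; exact ⟨0, map_zero _⟩
      obtain ⟨p', hp', -, hp'm⟩ := Polynomial.lifts_and_degree_eq_and_monic hl (hp.map _)
      have hxi : IsIntegral E' (x : FractionRing S) := by
        refine ⟨p', hp'm, ?_⟩
        rw [show algebraMap E' (FractionRing S) = (algebraMap S (FractionRing S)).comp E'.val.toRingHom from rfl,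
          ← Polynomial.eval₂_map, hp', Polynomial.eval₂_map]
        exact hp0
      obtain ⟨y', hy'⟩ := exists_toFrac_eq E' hE' _ hxi ⟨a, ha, d, hE's.1, hxa⟩
      refine ⟨Algebra.TensorProduct.map (Subalgebra.inclusion (fun x _ => hT x : E' ≤ T))
        (AlgHom.id A (integralClosure A K)) y', ?_⟩
      rw [← hy']
      show ((νA.restrictScalars A).comp (Algebra.TensorProduct.map (Subalgebra.inclusion (fun x _ => hT x : E' ≤ T))
          (AlgHom.id A (integralClosure A K)))) y' =
        (((toFrac E').comp (Algebra.TensorProduct.map (AlgHom.id E' E') (integralClosure A K).val)).restrictScalars A) y'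
      congr 1
      exact Algebra.TensorProduct.ext' fun e x => rfl
  let r : T ⊗[A] D' →ₐ[T] T ⊗[A] integralClosure A K :=
    (AlgEquiv.ofInjective νA hνA).symm.toAlgHom.comp (ν.codRestrict νA.range hrange)
  have hr : ∀ w, νA (r w) = ν w := fun w =>
    congrArg Subtype.val ((AlgEquiv.ofInjective νA hνA).apply_symm_apply _)
  let Φ : T ⊗[A] integralClosure A K →ₐ[T] T ⊗[A] D' :=
    Algebra.TensorProduct.map (AlgHom.id T T) ((Subalgebra.inclusion hA'D').comp jA)
  let f1 : D' →ₐ[A] (T ⊗[A] D') ⧸ Q :=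
    (Ideal.Quotient.mkₐ A Q).comp Algebra.TensorProduct.includeRight
  let g1 : D' →ₐ[A] (T ⊗[A] D') ⧸ Q :=
    (Ideal.Quotient.mkₐ A Q).comp (((Φ.comp r).restrictScalars A).comp Algebra.TensorProduct.includeRight)
  have hg1 : ∀ d : D, g1 (ι d) = Ideal.Quotient.mk Q ((Subalgebra.inclusion hle d) ⊗ₜ 1) := fun d => by
    show Ideal.Quotient.mk Q (Φ (r ((1 : T) ⊗ₜ ι d))) = _
    rw [show r ((1 : T) ⊗ₜ ι d) = (Subalgebra.inclusion hle d) ⊗ₜ 1 from hνA (by
      rw [hr]
      show algebraMap T (FractionRing S) 1 * (ι d : FractionRing S) = toFrac T (_ ⊗ₜ (1 : K))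
      rw [toFrac_tmul, map_one, map_one, one_mul, mul_one, hι]
      rfl)]
    show Ideal.Quotient.mk Q (_ ⊗ₜ[A] ((Subalgebra.inclusion hA'D').comp jA) 1) = _
    rw [map_one]
    rfl
  have hf1 : ∀ d : D, f1 (ι d) = Ideal.Quotient.mk Q ((Subalgebra.inclusion hle d) ⊗ₜ 1) := fun d => by
    refine Ideal.Quotient.eq.mpr ?_
    show (1 : T) ⊗ₜ[A] ι d - (Subalgebra.inclusion hle d) ⊗ₜ[A] (1 : D') ∈ Q
    rw [show (1 : T) ⊗ₜ[A] ι d - (Subalgebra.inclusion hle d) ⊗ₜ[A] (1 : D') =
      ιT ((1 : T) ⊗ₜ d - (Subalgebra.inclusion hle d) ⊗ₜ 1) by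
        rw [map_sub]
        show _ = _ - _ ⊗ₜ[A] ι 1
        rw [map_one]; rfl, hQ']
    have h0 : μ ((1 : T) ⊗ₜ d - (Subalgebra.inclusion hle d) ⊗ₜ 1) = 0 := by
      rw [map_sub]
      show 1 * Subalgebra.inclusion hle d - Subalgebra.inclusion hle d * Subalgebra.inclusion hle 1 = 0
      rw [map_one, one_mul, mul_one, sub_self]
    rw [h0]
    exact zero_mem _
  have hfgA : ∀ a : A', f1 (Subalgebra.inclusion hA'D' a) = g1 (Subalgebra.inclusion hA'D' a) := by
    intro a
    obtain ⟨hai, c, hc, b, hab⟩ := (hA' _).mp a.2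
    let k : K := IsLocalization.mk' K b (⟨c, hc⟩ : A⁰)
    have hk : fracMap A S k = (a : FractionRing S) := by
      refine (isUnit_algebraMap_frac (S := S) ⟨c, hc⟩).mul_left_cancel ?_
      rw [hab, ← (fracMap A S).commutes, ← map_mul, mul_comm (algebraMap A _ _), IsLocalization.mk'_spec]
      exact (fracMap A S).commutes b
    have hki : IsIntegral A k := (isIntegral_algHom_iff (fracMap A S) hfi).mp (hk ▸ hai)
    have hj : jA ⟨k, hki⟩ = a := Subtype.ext hk
    show Ideal.Quotient.mk Q ((1 : T) ⊗ₜ[A] Subalgebra.inclusion hA'D' a) =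
      Ideal.Quotient.mk Q (Φ (r ((1 : T) ⊗ₜ[A] Subalgebra.inclusion hA'D' a)))
    rw [show r ((1 : T) ⊗ₜ Subalgebra.inclusion hA'D' a) = (1 : T) ⊗ₜ ⟨k, hki⟩ from hνA (by
      rw [hr]
      show algebraMap T (FractionRing S) 1 * (a : FractionRing S) = toFrac T (_ ⊗ₜ k)
      rw [toFrac_tmul, hk]
      rfl)]
    show _ = Ideal.Quotient.mk Q ((1 : T) ⊗ₜ[A] Subalgebra.inclusion hA'D' (jA ⟨k, hki⟩))
    rw [hj]
  have hfg : ∀ x, f1 x = g1 x := by
    refine fun x => congr($(hdet _ f1 g1 hfgA (fun d => (hf1 d).trans (hg1 d).symm) fun d hd => ?_) x)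
    rw [hf1, Ideal.Quotient.eq_zero_iff_mem,
      show (Subalgebra.inclusion hle d) ⊗ₜ[A] (1 : D') = ιT ((Subalgebra.inclusion hle d) ⊗ₜ 1) by
        show _ = _ ⊗ₜ[A] ι 1
        rw [map_one]; rfl, hQ']
    show Subalgebra.inclusion hle d * Subalgebra.inclusion hle 1 ∈ maximalIdeal T
    rw [map_one, mul_one, mem_maximalIdeal, mem_nonunits_iff]
    exact fun hu => hd (hloc d hu)
  have heq : (Ideal.Quotient.mkₐ A Q) = (Ideal.Quotient.mkₐ A Q).comp ((Φ.comp r).restrictScalars A) := by
    refine Algebra.TensorProduct.ext' fun e x => ?_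
    show Ideal.Quotient.mk Q (e ⊗ₜ x) = Ideal.Quotient.mk Q (Φ (r (e ⊗ₜ x)))
    rw [show e ⊗ₜ[A] x = e • ((1 : T) ⊗ₜ[A] x) by rw [smul_tmul', smul_eq_mul, mul_one],
      map_smul r, map_smul Φ, ← smul_one_mul e ((1 : T) ⊗ₜ[A] x),
      ← smul_one_mul e (Φ (r ((1 : T) ⊗ₜ[A] x))), map_mul, map_mul]
    exact congrArg _ (hfg x)
  have hkerQ : ∀ w, ν w = 0 → w ∈ Q := fun w hw => by
    rw [← Ideal.Quotient.eq_zero_iff_mem]
    refine (congr($heq w)).trans ?_
    show Ideal.Quotient.mk Q (Φ (r w)) = 0
    rw [show r w = 0 from hνA (by rw [hr, hw, map_zero]), map_zero, map_zero]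
  have h1 : (1 : T ⊗[A] D') - σ' ∈ Q := hkerQ _ (by
    rw [map_sub, map_one, hνσ, map_sub, map_one, sub_sub_cancel]
    exact RingHom.mem_ker.mp (hker ▸ Ideal.mem_span_singleton_self ε))
  exact hQp.ne_top ((Ideal.eq_top_iff_one Q).mpr (by
    have := add_mem h1 (hQb hσb)
    rwa [sub_add_cancel] at this))


set_option maxHeartbeats 1000000 in
/-- An algebra is flat if kernel elements of the multiplication are killed by elements with unit image. -/
theorem flat_of_forall_kill (A D T : Type u) [CommRing A] [CommRing D] [CommRing T] [Algebra A D] [Algebra A T]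
    [Algebra D T] [IsScalarTower A D T] [Module.Flat A T]
    (h : ∀ z : T ⊗[A] D, Algebra.TensorProduct.productMap (AlgHom.id A T) (IsScalarTower.toAlgHom A D T) z = 0 →
      ∃ s, IsUnit (Algebra.TensorProduct.productMap (AlgHom.id A T) (IsScalarTower.toAlgHom A D T) s) ∧ s * z = 0) :
    Module.Flat D T := by
  let μ := Algebra.TensorProduct.productMap (AlgHom.id A T) (IsScalarTower.toAlgHom A D T)
  refine Module.Flat.of_forall_isTrivialRelation fun {l f x} hfx => ?_
  let c := Algebra.TensorProduct.comm A D T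
  let ν := Algebra.TensorProduct.productMap (IsScalarTower.toAlgHom A D T) (AlgHom.id A T)
  have hc : ∀ z, μ (c z) = ν z := fun z => by
    induction z using TensorProduct.induction_on with
    | zero => simp
    | add x y hx hy => simp only [map_add, hx, hy]
    | tmul d t => exact mul_comm _ _
  obtain ⟨s₀, hs, hsz⟩ := h (c (∑ i, f i ⊗ₜ[A] x i)) (by
    refine (hc _).trans ?_
    rw [map_sum, ← hfx]
    exact Finset.sum_congr rfl fun i _ => by
      rw [Algebra.TensorProduct.productMap_apply_tmul, Algebra.smul_def]; rfl)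
  obtain ⟨s, rfl⟩ := c.surjective s₀
  rw [← map_mul, map_eq_zero_iff c c.injective] at hsz
  change IsUnit (μ (c s)) at hs
  rw [hc] at hs
  have hrel : ∑ i, f i • (s * ((1 : D) ⊗ₜ[A] x i)) = 0 := by
    rw [← hsz, Finset.mul_sum]
    refine Finset.sum_congr rfl fun i _ => ?_
    rw [← mul_smul_comm, smul_tmul', smul_eq_mul, mul_one]
  obtain ⟨k, a, y, hy, ha⟩ := Module.Flat.isTrivialRelation_of_sum_smul_eq_zero (R := D) (M := D ⊗[A] T)
    (f := f) (x := fun i => s * ((1 : D) ⊗ₜ[A] x i)) hrel
  obtain ⟨u, hu⟩ := hs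
  refine ⟨k, a, fun j => ((u⁻¹ : Tˣ) : T) * ν (y j), fun i => ?_, ha⟩
  have h1 : ν (s * ((1 : D) ⊗ₜ[A] x i)) = ∑ j, a i j • ν (y j) := by
    have hlin : ∀ (d : D) (z : D ⊗[A] T), ν (d • z) = d • ν z := fun d z => by
      induction z using TensorProduct.induction_on with
      | zero => simp
      | add x y hx hy => simp only [smul_add, map_add, hx, hy]
      | tmul d' t =>
        rw [smul_tmul', smul_eq_mul, Algebra.TensorProduct.productMap_apply_tmul,
          Algebra.TensorProduct.productMap_apply_tmul, map_mul, Algebra.smul_def, mul_assoc]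
        rfl
    rw [show s * ((1 : D) ⊗ₜ[A] x i) = ∑ j, a i j • y j from hy i, map_sum]
    exact Finset.sum_congr rfl fun j _ => hlin _ _
  rw [map_mul, show ν s = u from hu.symm, Algebra.TensorProduct.productMap_apply_tmul, map_one, one_mul] at h1
  change (u : T) * x i = _ at h1
  calc x i = ((u⁻¹ : Tˣ) : T) * ((u : T) * x i) := by rw [← mul_assoc, Units.inv_mul, one_mul]
    _ = ((u⁻¹ : Tˣ) : T) * ∑ j, a i j • ν (y j) := by rw [← h1]
    _ = _ := by rw [Finset.mul_sum]; exact Finset.sum_congr rfl fun j _ => mul_smul_comm _ _ _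

set_option maxHeartbeats 1000000 in
set_option synthInstance.maxHeartbeats 100000 in
/-- `S` is flat over `D` if the residues of the normalisation of `D` are determined by those of the
normalisation of `A`. -/
theorem flat_of_residuesDetermined [Module.Flat A S] (hinjA : Function.Injective (algebraMap A S))
    (D : Subalgebra A S) [IsLocalRing D] [IsLocalHom (algebraMap D S)]
    (A' D' : Subalgebra A (FractionRing S))
    (hA' : ∀ x : (FractionRing S), x ∈ A' ↔ (IsIntegral A x ∧
      ∃ a ∈ nonZeroDivisors A, ∃ b : A, algebraMap A (FractionRing S) a * x = algebraMap A (FractionRing S) b))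
    (hD' : ∀ x : (FractionRing S), x ∈ D' ↔ (IsIntegral D x ∧
      ∃ a ∈ nonZeroDivisors A, ∃ d ∈ D, algebraMap A (FractionRing S) a * x = algebraMap S (FractionRing S) d))
    (hA'D' : A' ≤ D') (ι : D →ₐ[A] D') (hι : ∀ d : D, (ι d : (FractionRing S)) = algebraMap S (FractionRing S) d)
    (hdet : ResiduesDetermined D A' D' hA'D' ι) :
    Module.Flat D S := by
  classical
  let T : Subalgebra A S := ⊤
  haveI : IsLocalRing T := (Subalgebra.topEquiv (R := A) (A := S)).symm.toRingEquiv.isLocalRing
  haveI : Module.Flat A T := Module.Flat.of_linearEquiv (Subalgebra.topEquiv (R := A) (A := S)).toLinearEquiv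
  have hk := exists_killer_univ hinjA D T (fun _ => trivial) A' D' hA' hD' hA'D' ι hι hdet
  letI : Algebra D T := (Subalgebra.inclusion (fun x _ => trivial : D ≤ T)).toRingHom.toAlgebra
  haveI : IsScalarTower A D T := IsScalarTower.of_algebraMap_eq fun _ => rfl
  haveI : Module.Flat D T := flat_of_forall_kill A D T hk
  let e : T ≃ₗ[D] S :=
    { toFun := fun x => (x : S)
      invFun := fun x => ⟨x, trivial⟩
      left_inv := fun _ => rfl
      right_inv := fun _ => rfl
      map_add' := fun _ _ => rfl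
      map_smul' := fun _ _ => rfl }
  exact Module.Flat.of_linearEquiv e.symm

set_option maxHeartbeats 1000000 in
set_option synthInstance.maxHeartbeats 100000 in
/-- `S` is flat over `D` if the residues of the normalisation of `D` are generated by those of the
normalisation of `A`. -/
theorem flat_of_surjective [Module.Flat A S] (hinjA : Function.Injective (algebraMap A S))
    (D : Subalgebra A S) [IsLocalRing D] [IsLocalHom (algebraMap D S)]
    (A' D' : Subalgebra A (FractionRing S))
    (hA' : ∀ x : (FractionRing S), x ∈ A' ↔ (IsIntegral A x ∧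
      ∃ a ∈ nonZeroDivisors A, ∃ b : A, algebraMap A (FractionRing S) a * x = algebraMap A (FractionRing S) b))
    (hD' : ∀ x : (FractionRing S), x ∈ D' ↔ (IsIntegral D x ∧
      ∃ a ∈ nonZeroDivisors A, ∃ d ∈ D, algebraMap A (FractionRing S) a * x = algebraMap S (FractionRing S) d))
    (hA'D' : A' ≤ D') (ι : D →ₐ[A] D') (hι : ∀ d : D, (ι d : (FractionRing S)) = algebraMap S (FractionRing S) d)
    (hsurj : Function.Surjective ((Ideal.Quotient.mkₐ A (Ideal.jacobson (⊥ : Ideal D'))).comp
      (Algebra.TensorProduct.productMap (Subalgebra.inclusion hA'D') ι))) :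
    Module.Flat D S := by
  refine flat_of_residuesDetermined hinjA D A' D' hA' hD' hA'D' ι hι ?_
  intro Ω _ _ _ f g hfgA hfgD hm
  letI : Algebra D D' := ι.toRingHom.toAlgebra
  haveI : IsScalarTower D D' (FractionRing S) := IsScalarTower.of_algebraMap_eq fun d => (hι d).symm
  haveI : Algebra.IsIntegral D D' := ⟨fun x =>
    (isIntegral_algHom_iff (IsScalarTower.toAlgHom D D' (FractionRing S)) Subtype.val_injective).mp ((hD' _).mp x.2).1⟩
  have hprime : ∀ h : D' →ₐ[A] Ω, (∀ d ∈ maximalIdeal D, h (ι d) = 0) →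
      Ideal.jacobson (⊥ : Ideal D') ≤ RingHom.ker h.toRingHom := by
    intro h hh
    haveI : (RingHom.ker h.toRingHom).IsPrime := RingHom.ker_isPrime _
    haveI : ((RingHom.ker h.toRingHom).comap (algebraMap D D')).IsPrime := Ideal.IsPrime.comap _
    have hcomap : maximalIdeal D = (RingHom.ker h.toRingHom).comap (algebraMap D D') :=
      (maximalIdeal.isMaximal D).eq_of_le (Ideal.IsPrime.ne_top inferInstance) fun d hd => hh d hd
    exact sInf_le ⟨bot_le, Ideal.isMaximal_of_isIntegral_of_isMaximal_comap _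
      (hcomap ▸ maximalIdeal.isMaximal D)⟩
  refine AlgHom.ext fun x => ?_
  obtain ⟨w, hw⟩ := hsurj (Ideal.Quotient.mk _ x)
  have hw' : x - Algebra.TensorProduct.productMap (Subalgebra.inclusion hA'D') ι w ∈
      Ideal.jacobson (⊥ : Ideal D') := Ideal.Quotient.eq.mp hw.symm
  have h1 : f (x - Algebra.TensorProduct.productMap (Subalgebra.inclusion hA'D') ι w) = 0 :=
    RingHom.mem_ker.mp (hprime f hm hw')
  have h2 : g (x - Algebra.TensorProduct.productMap (Subalgebra.inclusion hA'D') ι w) = 0 :=
    RingHom.mem_ker.mp (hprime g (fun d hd => (hfgD d).symm.trans (hm d hd)) hw')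
  have h3 : f.comp (Algebra.TensorProduct.productMap (Subalgebra.inclusion hA'D') ι) =
      g.comp (Algebra.TensorProduct.productMap (Subalgebra.inclusion hA'D') ι) :=
    Algebra.TensorProduct.ext' fun a d => by
      show f (Subalgebra.inclusion hA'D' a * ι d) = g (Subalgebra.inclusion hA'D' a * ι d)
      rw [map_mul f, map_mul g, hfgA, hfgD]
  rw [map_sub] at h1 h2
  rw [sub_eq_zero.mp h1, sub_eq_zero.mp h2]
  exact congr($h3 w)

end Groth.Agent.H1EssEt
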