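import Groth.Agent.H1EssEt.Fraction
import Mathlib

/-!
# Essentially finite type from flatness over large subalgebras
-/

set_option autoImplicit false
universe u
open IsLocalRing

namespace Groth.Agent.H1EssEt

variable {A S : Type u} [CommRing A] [IsLocalRing A] [IsReduced A] [CommRing S] [IsLocalRing S] [Algebra A S]
  [IsLocalHom (algebraMap A S)] [Hensel.IsStrictHenselization A S]

set_option maxHeartbeats 1600000 in
/-- A subalgebra with finitely generated total ring of fractions over which a local algebra is flat at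
all large finite stages is essentially of finite type. -/
theorem essFiniteType_of_flat_adjoin (hmin : (minimalPrimes A).Finite) (D : Subalgebra A S) (E : Type u)
    [CommRing E] [IsLocalRing E] [Algebra A E] [Algebra D E] [IsScalarTower A D E] [IsLocalHom (algebraMap D E)]
    (hfg : ∃ t : Finset (FractionRing D), ∀ x : FractionRing D, ∃ a ∈ nonZeroDivisors A,
      algebraMap A (FractionRing D) a * x ∈ Algebra.adjoin A (t : Set (FractionRing D)))
    (hG : ∃ G₀ : Set D, G₀.Finite ∧ ∀ G : Set D, G₀ ⊆ G → Module.Flat (Algebra.adjoin A G) E) :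
    Algebra.EssFiniteType A D := by
  classical
  obtain ⟨G₀, hG₀, hflat⟩ := hG
  obtain ⟨t, ht⟩ := hfg
  have hD : ∀ x : FractionRing D, ∃ a ∈ nonZeroDivisors A, ∃ d : D,
      algebraMap A (FractionRing D) a * x = algebraMap D (FractionRing D) d := by
    intro x
    obtain ⟨⟨d, ⟨s, hs⟩⟩, hx⟩ := IsLocalization.surj (nonZeroDivisors D) x
    obtain ⟨a, ha, e, he⟩ := H1EssEt.exists_mul_eq_algebraMap hmin D hs
    refine ⟨a, ha, d * e, ?_⟩
    rw [IsScalarTower.algebraMap_apply A D (FractionRing D), ← he, map_mul, map_mul, ← hx]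
    ring
  choose a ha d hd using hD
  let G : Finset D := hG₀.toFinset ∪ t.image d
  haveI : Module.Flat (Algebra.adjoin A (G : Set D)) E :=
    hflat _ fun x hx => Finset.mem_coe.mpr (Finset.mem_union_left _ (hG₀.mem_toFinset.mpr hx))
  refine (Algebra.essFiniteType_iff A D).mpr ⟨G, fun x => ?_⟩
  obtain ⟨b, hb, hbx⟩ := ht (algebraMap D (FractionRing D) x)
  have key : ∀ z ∈ Algebra.adjoin A (t : Set (FractionRing D)), ∃ c ∈ nonZeroDivisors A,
      ∃ e ∈ Algebra.adjoin A (G : Set D),
        algebraMap A (FractionRing D) c * z = algebraMap D (FractionRing D) e := by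
    intro z hz
    induction hz using Algebra.adjoin_induction with
    | mem z hz => exact ⟨a z, ha z, d z, Algebra.subset_adjoin (Finset.mem_coe.mpr
        (Finset.mem_union_right _ (Finset.mem_image_of_mem _ hz))), hd z⟩
    | algebraMap r => exact ⟨1, one_mem _, algebraMap A D r, Subalgebra.algebraMap_mem _ r, by
        rw [map_one, one_mul, ← IsScalarTower.algebraMap_apply]⟩
    | add y z _ _ hy hz =>
      obtain ⟨c, hc, e, he, hce⟩ := hy
      obtain ⟨c', hc', e', he', hce'⟩ := hz
      refine ⟨c * c', mul_mem hc hc', algebraMap A D c' * e + algebraMap A D c * e',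
        add_mem (mul_mem (Subalgebra.algebraMap_mem _ c') he) (mul_mem (Subalgebra.algebraMap_mem _ c) he'), ?_⟩
      rw [map_add, map_mul, map_mul, map_mul, ← IsScalarTower.algebraMap_apply,
        ← IsScalarTower.algebraMap_apply, ← hce, ← hce']
      ring
    | mul y z _ _ hy hz =>
      obtain ⟨c, hc, e, he, hce⟩ := hy
      obtain ⟨c', hc', e', he', hce'⟩ := hz
      refine ⟨c * c', mul_mem hc hc', e * e', mul_mem he he', ?_⟩
      rw [map_mul, map_mul, ← hce, ← hce']
      ring
  obtain ⟨c, hc, e, he, hce⟩ := key _ hbx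
  have h1 : algebraMap A D (c * b) * x = e := by
    apply IsFractionRing.injective D (FractionRing D)
    rw [map_mul, ← IsScalarTower.algebraMap_apply, map_mul, mul_assoc]
    exact hce
  let a' : Algebra.adjoin A (G : Set D) := algebraMap A _ (c * b)
  let e' : Algebra.adjoin A (G : Set D) := ⟨e, he⟩
  have hrel : ∑ i : Fin 2, (![a', e'] i) • (![algebraMap D E x, -1] i) = 0 := by
    rw [Fin.sum_univ_two]
    simp only [Matrix.cons_val_zero, Matrix.cons_val_one, Algebra.smul_def]
    rw [mul_neg, mul_one, ← sub_eq_add_neg, sub_eq_zero]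
    show algebraMap D E (algebraMap A D (c * b)) * algebraMap D E x = algebraMap D E e
    rw [← map_mul, h1]
  obtain ⟨k, r, y, hy, hr⟩ := Module.Flat.isTrivialRelation_of_sum_smul_eq_zero
    (R := Algebra.adjoin A (G : Set D)) (M := E) (f := ![a', e']) (x := ![algebraMap D E x, -1]) hrel
  obtain ⟨j, hj⟩ : ∃ j, IsUnit (r 1 j : D) := by
    by_contra! hall
    have h2 : (-1 : E) ∈ maximalIdeal E := by
      rw [show (-1 : E) = ∑ j, r 1 j • y j from hy 1]
      refine Ideal.sum_mem _ fun j _ => ?_
      rw [Algebra.smul_def]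
      refine Ideal.mul_mem_right _ _ ((mem_maximalIdeal _).mpr fun h => hall j ?_)
      exact isUnit_of_map_unit (algebraMap D E) _ h
    exact (mem_maximalIdeal _).mp h2 isUnit_one.neg
  have hr' : algebraMap A D (c * b) * (r 0 j : D) + e * (r 1 j : D) = 0 := by
    have := hr j
    rw [Fin.sum_univ_two] at this
    exact congrArg Subtype.val this
  refine ⟨-(r 1 j : D), neg_mem (r 1 j).2, hj.neg, ?_⟩
  have hxu : x * -(r 1 j : D) = (r 0 j : D) := by
    refine Subtype.ext (H1EssEt.isSMulRegular_algebraMap (S := S) (mul_mem hc hb) ?_)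
    show algebraMap A S (c * b) * (x * -(r 1 j : D) : D) = algebraMap A S (c * b) * ((r 0 j : D) : S)
    have h2 : algebraMap A D (c * b) * (x * -(r 1 j : D)) = algebraMap A D (c * b) * (r 0 j : D) := by
      linear_combination -hr' - (r 1 j : D) * h1
    exact congrArg Subtype.val h2
  rw [hxu]
  exact (r 0 j).2

end Groth.Agent.H1EssEt
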