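import Groth.Agent.H1EssEt.NormBase
import Groth.Agent.S16448
import Groth.Agent.EssEtLib.LocalHom

/-!
# Intermediate subrings of the normalisation of an essentially étale algebra
-/

set_option autoImplicit false
universe u
open TensorProduct nonZeroDivisors IsLocalRing

namespace Groth.Agent.H1EssEt

variable {A E : Type u} [CommRing A] [IsLocalRing A] [IsReduced A] [CommRing E] [IsLocalRing E]
  [Algebra A E] [IsLocalHom (algebraMap A E)]

theorem flat_of_isEssentiallyEtale (hE : EGA4loc.IsEssentiallyEtale A E) : Module.Flat A E := by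
  obtain ⟨C, _, _, q, _, _, _, _, -, hl⟩ := EtAlg7.exists_presentation hE
  haveI : Module.Flat C E := IsLocalization.flat E q.primeCompl
  exact Module.Flat.trans A C E

theorem isReduced_of_isEssentiallyEtale (hE : EGA4loc.IsEssentiallyEtale A E) : IsReduced E := by
  haveI : IsReduced (A ⊗[A] E) := isReduced_tensor hE A
  exact isReduced_of_injective (Algebra.TensorProduct.lid A E).symm
    (Algebra.TensorProduct.lid A E).symm.injective

theorem isReduced_frac (hE : EGA4loc.IsEssentiallyEtale A E) : IsReduced (FractionRing E) :=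
  haveI := isReduced_of_isEssentiallyEtale hE
  isReduced_localizationPreserves (nonZeroDivisors E) (FractionRing E) inferInstance

theorem isUnit_frac (hE : EGA4loc.IsEssentiallyEtale A E) {a : A} (ha : a ∈ A⁰) :
    IsUnit (algebraMap A (FractionRing E) a) := by
  haveI := flat_of_isEssentiallyEtale hE
  exact isUnit_algebraMap_frac (S := E) ⟨a, ha⟩

theorem exists_mul_eq_frac (hmin : (minimalPrimes A).Finite) (hE : EGA4loc.IsEssentiallyEtale A E)
    (y : FractionRing E) : ∃ a ∈ A⁰, ∃ e : E,
      algebraMap A (FractionRing E) a * y = algebraMap E (FractionRing E) e := by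
  haveI := (S16448.result A E hmin hE).1
  obtain ⟨⟨e, ⟨_, a, ha, rfl⟩⟩, h⟩ := IsLocalization.surj ((nonZeroDivisors A).map (algebraMap A E)) y
  exact ⟨a, ha, e, by rw [mul_comm, IsScalarTower.algebraMap_apply A E (FractionRing E)]; exact h⟩

/-- An intermediate ring containing the inverses of the non-zero-divisors of `A` is finite over the total
ring of fractions of `A`. -/
theorem exists_isIntermediate (hmin : (minimalPrimes A).Finite) (hE : EGA4loc.IsEssentiallyEtale A E)
    (L : Subalgebra A (FractionRing E))
    (hL : ∀ s ∈ A⁰, ∃ y ∈ L, algebraMap A (FractionRing E) s * y = 1) :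
    IsArtinianRing L ∧ ∀ l ∈ L, ∃ a ∈ A⁰, IsIntegral A (algebraMap A (FractionRing E) a * l) := by
  haveI := flat_of_isEssentiallyEtale hE
  letI : Algebra (FractionRing A) (FractionRing E) := (fracMap A E).toRingHom.toAlgebra
  haveI : IsScalarTower A (FractionRing A) (FractionRing E) :=
    IsScalarTower.of_algebraMap_eq fun a => ((fracMap A E).commutes a).symm
  haveI : IsArtinianRing (FractionRing A) := EssEtFrac5.isArtinianRing_fractionRing hmin
  have hfin : Module.Finite (FractionRing A) (FractionRing E) := by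
    obtain ⟨t, ht⟩ := (S16448.result A E hmin hE).2
    refine ⟨⟨t, eq_top_iff.mpr fun x _ => ?_⟩⟩
    obtain ⟨a, ha, hx⟩ := ht x
    have h1 : algebraMap A (FractionRing E) a * x ∈ Submodule.span (FractionRing A) (t : Set (FractionRing E)) :=
      Submodule.span_le_restrictScalars A (FractionRing A) _ hx
    have h2 := Submodule.smul_mem _ (IsLocalization.mk' (FractionRing A) 1 (⟨a, ha⟩ : A⁰)) h1
    rwa [Algebra.smul_def, ← mul_assoc, IsScalarTower.algebraMap_apply A (FractionRing A) (FractionRing E),
      ← map_mul, IsLocalization.mk'_spec, map_one, map_one, one_mul] at h2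
  let LK : Subalgebra (FractionRing A) (FractionRing E) :=
    { L.toSubsemiring with
      algebraMap_mem' := fun k => by
        obtain ⟨⟨r, ⟨a, ha⟩⟩, h⟩ := IsLocalization.surj A⁰ k
        obtain ⟨y, hy, hay⟩ := hL a ha
        have h1 := congrArg (algebraMap (FractionRing A) (FractionRing E)) h
        rw [map_mul, ← IsScalarTower.algebraMap_apply, ← IsScalarTower.algebraMap_apply] at h1
        show algebraMap (FractionRing A) (FractionRing E) k ∈ L
        rw [show algebraMap (FractionRing A) (FractionRing E) k = algebraMap A (FractionRing E) r * y by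
          rw [← h1, mul_assoc, hay, mul_one]]
        exact mul_mem (L.algebraMap_mem r) hy }
  haveI : IsNoetherian (FractionRing A) (FractionRing E) := isNoetherian_of_isNoetherianRing_of_finite _ _
  haveI : Module.Finite (FractionRing A) LK := Module.Finite.of_injective LK.val.toLinearMap Subtype.val_injective
  haveI : IsArtinianRing LK := IsArtinianRing.of_finite (FractionRing A) LK
  let e : LK ≃+* L :=
    { toFun := fun x => ⟨x, x.2⟩
      invFun := fun x => ⟨x, x.2⟩
      left_inv := fun _ => rfl
      right_inv := fun _ => rfl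
      map_mul' := fun _ _ => rfl
      map_add' := fun _ _ => rfl }
  refine ⟨e.surjective.isArtinianRing (f := e.toRingHom), fun l _ => ?_⟩
  obtain ⟨⟨a, ha⟩, h⟩ := IsIntegral.exists_multiple_integral_of_isLocalization A⁰ l
    (Algebra.IsIntegral.isIntegral (R := FractionRing A) l)
  refine ⟨a, ha, ?_⟩
  rwa [Submonoid.smul_def, Algebra.smul_def] at h

set_option maxHeartbeats 1000000 in
/-- A surjection from a reduced Artinian algebra is flat on integral closures. -/
theorem flat_integralClosure_map {E T K T₀ : Type u} [CommRing E] [CommRing T] [CommRing K] [CommRing T₀]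
    [Nontrivial E] [Algebra E T] [Algebra E K] [Algebra E T₀] [IsArtinianRing T] [IsReduced T] (g : T →ₐ[E] K)
    (hgs : Function.Surjective g) (ν : T₀ →ₐ[E] integralClosure E T) (hν : Function.Bijective ν) :
    ∃ ψ : T₀ →ₐ[E] integralClosure E K, ψ.toRingHom.Flat ∧ ∀ t, (ψ t : K) = g (ν t : T) := by
  classical
  obtain ⟨e, he, hker⟩ := exists_idempotent (RingHom.ker g.toRingHom)
  have hge : g e = 0 := RingHom.mem_ker.mp (hker ▸ Ideal.mem_span_singleton_self e : e ∈ RingHom.ker g.toRingHom)
  have hkill : ∀ z, g z = 0 → (1 - e) * z = 0 := fun z hz => by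
    have hz' : z ∈ Ideal.span {e} := hker ▸ (RingHom.mem_ker.mpr hz : z ∈ RingHom.ker g.toRingHom)
    obtain ⟨c, rfl⟩ := Ideal.mem_span_singleton'.mp hz'
    rw [sub_mul, one_mul, mul_left_comm, he.eq, sub_self]
  let ψ : T₀ →ₐ[E] integralClosure E K :=
    AlgHom.codRestrict (g.comp ((integralClosure E T).val.comp ν)) (integralClosure E K)
      fun t => (ν t).2.map g
  have hψ : ∀ t, (ψ t : K) = g (ν t : T) := fun _ => rfl
  have hei : IsIntegral E e := ⟨Polynomial.X ^ 2 - Polynomial.X,
    Polynomial.monic_X_pow_sub (by rw [Polynomial.degree_X]; norm_num), by simp [sq, he.eq]⟩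
  obtain ⟨e₀, he₀⟩ := hν.2 ⟨e, hei⟩
  have he₀' : IsIdempotentElem e₀ := hν.1 (by
    rw [map_mul, he₀]; exact Subtype.ext he.eq)
  have hψs : Function.Surjective ψ := fun y => by
    obtain ⟨z, hz⟩ := hgs y
    obtain ⟨p, hp, hp0⟩ := (y.2 : IsIntegral E (y : K))
    have h1 : (1 - e) * Polynomial.aeval z p = 0 := hkill _ (by
      rw [← Polynomial.aeval_algHom_apply, hz]; exact hp0)
    have hint : IsIntegral E ((1 - e) * z) := by
      refine ⟨p * Polynomial.X, hp.mul Polynomial.monic_X, ?_⟩
      rw [← Polynomial.aeval_def, map_mul, Polynomial.aeval_X]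
      have key : ∀ q : Polynomial E, (1 - e) * Polynomial.aeval ((1 - e) * z) q = (1 - e) * Polynomial.aeval z q := by
        intro q
        induction q using Polynomial.induction_on with
        | C a => simp
        | add q r hq hr => rw [map_add, map_add, mul_add, mul_add, hq, hr]
        | monomial n a ih =>
          rw [show Polynomial.C a * Polynomial.X ^ (n + 1) = Polynomial.C a * Polynomial.X ^ n * Polynomial.X by
              rw [pow_succ, mul_assoc],
            map_mul (Polynomial.aeval ((1 - e) * z)), map_mul (Polynomial.aeval z) (Polynomial.C a * Polynomial.X ^ n),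
            Polynomial.aeval_X, Polynomial.aeval_X]
          linear_combination z * (1 - e) * ih + (Polynomial.aeval z (Polynomial.C a * Polynomial.X ^ n) * z) * he.one_sub.eq
      rw [← mul_assoc, mul_comm _ (1 - e), key, h1, zero_mul]
    obtain ⟨t, ht⟩ := hν.2 ⟨_, hint⟩
    refine ⟨t, Subtype.ext ?_⟩
    rw [hψ, ht, map_mul, map_sub, map_one, hge, sub_zero, one_mul, hz]
  have hψk : RingHom.ker ψ.toRingHom = Ideal.span {1 - (1 - e₀)} := by
    rw [sub_sub_cancel]
    refine le_antisymm (fun t ht => ?_) ((Ideal.span_singleton_le_iff_mem _).mpr ?_)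
    · have h1 : g (ν t : T) = 0 := congrArg Subtype.val (RingHom.mem_ker.mp ht : ψ t = 0)
      have h2 : t = t * e₀ := hν.1 (Subtype.ext (by
        rw [map_mul, he₀]
        show (ν t : T) = (ν t : T) * e
        have := hkill _ h1
        rw [sub_mul, one_mul, sub_eq_zero] at this
        rw [mul_comm]
        exact this))
      exact Ideal.mem_span_singleton'.mpr ⟨t, h2.symm⟩
    · refine RingHom.mem_ker.mpr (Subtype.ext ?_)
      show g (ν e₀ : T) = 0
      rw [he₀, hge]
  letI := ψ.toRingHom.toAlgebra
  haveI : IsLocalization.Away (1 - e₀) (integralClosure E K) :=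
    IsLocalization.away_of_isIdempotentElem he₀'.one_sub hψk hψs
  refine ⟨ψ, RingHom.flat_algebraMap_iff.mpr ?_, hψ⟩
  exact (IsLocalization.flat (integralClosure E K) (Submonoid.powers (1 - e₀)))

set_option maxHeartbeats 1000000 in
/-- Restricting a flat map along base change by a flat algebra. -/
theorem flat_comp_includeRight {A E C K : Type u} [CommRing A] [CommRing E] [CommRing C] [CommRing K]
    [Algebra A E] [Algebra A C] [Algebra A K] [Algebra E K] [IsScalarTower A E K] [Module.Flat A E]
    (ψ : E ⊗[A] C →ₐ[E] K) (hψ : ψ.toRingHom.Flat) :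
    ∃ χ : C →ₐ[A] K, χ.toRingHom.Flat ∧ ∀ c, χ c = ψ ((1 : E) ⊗ₜ c) := by
  have hm : (Algebra.TensorProduct.map (Algebra.ofId A E) (AlgHom.id A C)).toRingHom.Flat :=
    RingHom.Flat.tensorProductMap (f := Algebra.ofId A E) (g := AlgHom.id A C)
      (show (algebraMap A E).Flat from RingHom.flat_algebraMap_iff.mpr ‹Module.Flat A E›) (RingHom.Flat.id _)
  let lid := (Algebra.TensorProduct.lid A C).symm
  refine ⟨(ψ.restrictScalars A).comp ((Algebra.TensorProduct.map (Algebra.ofId A E) (AlgHom.id A C)).comp
    lid.toAlgHom), ((RingHom.Flat.of_bijective (f := lid.toAlgHom.toRingHom) lid.bijective).comp hm).comp hψ, fun c => ?_⟩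
  show ψ ((Algebra.ofId A E 1) ⊗ₜ c) = _
  rw [map_one]

/-- The same with values in an integral closure. -/
theorem flat_integralClosure_right {A E L K : Type u} [CommRing A] [CommRing E] [Nontrivial E] [CommRing L] [CommRing K]
    [Algebra A E] [Algebra A L] [Algebra A K] [Algebra E K] [IsScalarTower A E K] [Module.Flat A E]
    [IsArtinianRing (E ⊗[A] L)] [IsReduced (E ⊗[A] L)] (g : E ⊗[A] L →ₐ[E] K) (hg : Function.Surjective g)
    (hν : Function.Bijective (TensorProduct.toIntegralClosure A E L)) :
    ∃ χ : integralClosure A L →ₐ[A] integralClosure E K, χ.toRingHom.Flat ∧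
      ∀ c, (χ c : K) = g ((1 : E) ⊗ₜ (c : L)) := by
  obtain ⟨ψ, hψf, hψ⟩ := flat_integralClosure_map g hg (TensorProduct.toIntegralClosure A E L) hν
  obtain ⟨χ, hχf, hχ⟩ := flat_comp_includeRight ψ hψf
  refine ⟨χ, hχf, fun c => ?_⟩
  rw [hχ, hψ]
  rfl

set_option maxHeartbeats 4000000 in
set_option synthInstance.maxHeartbeats 100000 in
/-- The normalisation of an essentially étale algebra is flat over the integral closure of the base in an
intermediate total ring of fractions. -/
theorem flat_inclusion (hmin : (minimalPrimes A).Finite) (hE : EGA4loc.IsEssentiallyEtale A E)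
    (L : Subalgebra A (FractionRing E))
    (hL : ∀ s ∈ A⁰, ∃ y ∈ L, algebraMap A (FractionRing E) s * y = 1) :
    ∃ χ : integralClosure A L →ₐ[A] integralClosure E (FractionRing E), χ.toRingHom.Flat ∧
      ∀ c, (χ c : FractionRing E) = ((c : L) : FractionRing E) := by
  classical
  haveI := flat_of_isEssentiallyEtale hE
  haveI : IsReduced E := isReduced_of_isEssentiallyEtale hE
  haveI : IsReduced (FractionRing E) := isReduced_frac hE
  haveI : IsReduced L := isReduced_of_injective L.val Subtype.val_injective
  haveI : IsArtinianRing L := (exists_isIntermediate hmin hE L hL).1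
  haveI : IsReduced (L ⊗[A] E) := isReduced_tensor hE L
  haveI : Module.Finite L (L ⊗[A] E) := finite_tensor hE L
  haveI : IsArtinianRing (L ⊗[A] E) := IsArtinianRing.of_finite L (L ⊗[A] E)
  let cm : L ⊗[A] E ≃ₐ[A] E ⊗[A] L := Algebra.TensorProduct.comm A L E
  haveI : IsArtinianRing (E ⊗[A] L) := cm.surjective.isArtinianRing (f := cm.toAlgHom.toRingHom)
  haveI : IsReduced (E ⊗[A] L) := isReduced_of_injective cm.symm cm.symm.injective
  let g : E ⊗[A] L →ₐ[E] FractionRing E :=
    Algebra.TensorProduct.lift (Algebra.ofId E (FractionRing E)) L.val fun _ _ => Commute.all _ _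
  have hg : ∀ (x : E) (l : L), g (x ⊗ₜ l) = algebraMap E (FractionRing E) x * (l : FractionRing E) :=
    fun _ _ => rfl
  have hgs : Function.Surjective g := fun y => by
    obtain ⟨a, ha, x, hx⟩ := exists_mul_eq_frac hmin hE y
    obtain ⟨z, hz, haz⟩ := hL a ha
    refine ⟨x ⊗ₜ ⟨z, hz⟩, ?_⟩
    rw [hg, ← hx, mul_right_comm, haz, one_mul]
  obtain ⟨χ, hχf, hχ⟩ := flat_integralClosure_right g hgs (bijective_toIntegralClosure hE L)
  refine ⟨χ, hχf, fun c => ?_⟩
  rw [hχ, hg, map_one, one_mul]

set_option maxHeartbeats 2000000 in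
set_option synthInstance.maxHeartbeats 100000 in
/-- Elements of the normalisation in an intermediate ring become integral over the base after
multiplication by an element avoiding a given prime. -/
theorem exists_mul_isIntegral (hmin : (minimalPrimes A).Finite) (hE : EGA4loc.IsEssentiallyEtale A E)
    (L : Subalgebra A (FractionRing E))
    (hL : ∀ s ∈ A⁰, ∃ y ∈ L, algebraMap A (FractionRing E) s * y = 1)
    (x : integralClosure E (FractionRing E)) (hx : (x : FractionRing E) ∈ L)
    (M : Ideal (integralClosure E (FractionRing E))) (hM : M ≠ ⊤) :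
    ∃ s : integralClosure E (FractionRing E), (s : FractionRing E) ∈ L ∧ IsIntegral A (s : FractionRing E) ∧
      IsIntegral A ((s : FractionRing E) * x) ∧ s ∉ M := by
  obtain ⟨χ, hχf, hχ⟩ := flat_inclusion hmin hE L hL
  letI := χ.toRingHom.toAlgebra
  haveI : Module.Flat (integralClosure A L) (integralClosure E (FractionRing E)) := RingHom.flat_algebraMap_iff.mp hχf
  have hint : ∀ c : integralClosure A L, IsIntegral A ((c : L) : FractionRing E) :=
    fun c => (c.2 : IsIntegral A (c : L)).map L.val
  obtain ⟨a, ha, hax⟩ := (exists_isIntermediate hmin hE L hL).2 x hx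
  have hax' : IsIntegral A (⟨_, mul_mem (L.algebraMap_mem a) hx⟩ : L) :=
    (isIntegral_algHom_iff L.val Subtype.val_injective).mp hax
  let c₀ : integralClosure A L := ⟨_, hax'⟩
  have hrel : ∑ i : Fin 2, (![algebraMap A (integralClosure A L) a, c₀] i) • (![x, -1] i) = 0 := by
    rw [Fin.sum_univ_two]
    simp only [Matrix.cons_val_zero, Matrix.cons_val_one, Algebra.smul_def]
    refine Subtype.ext ?_
    show (χ (algebraMap A _ a) : FractionRing E) * x + (χ c₀ : FractionRing E) * (-1) = 0
    rw [hχ, hχ]
    show algebraMap A (FractionRing E) a * x + algebraMap A (FractionRing E) a * x * (-1) = 0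
    ring
  obtain ⟨k, r, y, hy, hr⟩ := Module.Flat.isTrivialRelation_of_sum_smul_eq_zero
    (R := integralClosure A L) (M := integralClosure E (FractionRing E))
    (f := ![algebraMap A (integralClosure A L) a, c₀]) (x := ![x, -1]) hrel
  obtain ⟨j, hj⟩ : ∃ j, χ (r 1 j) ∉ M := by
    by_contra! hall
    refine hM ((Ideal.eq_top_iff_one M).mpr (neg_mem_iff.mp ?_))
    rw [show (-1 : integralClosure E (FractionRing E)) = ∑ j, r 1 j • y j from hy 1]
    exact Ideal.sum_mem _ fun j _ => by
      rw [Algebra.smul_def]
      exact Ideal.mul_mem_right _ _ (hall j)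
  refine ⟨χ (r 1 j), hχ (r 1 j) ▸ (r 1 j : L).2, hχ (r 1 j) ▸ hint _, ?_, hj⟩
  have h1 := hr j
  rw [Fin.sum_univ_two] at h1
  have h2 : algebraMap A (FractionRing E) a * ((r 0 j : L) : FractionRing E) +
      (algebraMap A (FractionRing E) a * x) * ((r 1 j : L) : FractionRing E) = 0 :=
    congrArg (fun c : integralClosure A L => ((c : L) : FractionRing E)) h1
  have h3 : ((r 1 j : L) : FractionRing E) * x = -((r 0 j : L) : FractionRing E) := by
    refine (isUnit_frac hE ha).mul_left_cancel ?_
    linear_combination h2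
  rw [hχ, h3]
  exact (hint _).neg

end Groth.Agent.H1EssEt
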