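import Groth.Agent.LocalCrit.Flatness
import Mathlib

/-!
# Noetherian rings between a ring and an unramified flat algebra
-/

set_option autoImplicit false
universe u
open TensorProduct IsLocalRing

namespace Groth.Agent.H1EssEt

variable (A D E : Type u) [CommRing A] [CommRing D] [CommRing E] [Algebra A D] [Algebra A E]
  [Algebra D E] [IsScalarTower A D E]

/-- A flat algebra is flat over an intermediate local ring with the same maximal ideal. -/
theorem flat_of_map_maximalIdeal [IsLocalRing A] [IsLocalRing D] [IsNoetherianRing D] [IsLocalRing E]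
    [IsNoetherianRing E] [IsLocalHom (algebraMap D E)] [Module.Flat A E]
    (hm : (maximalIdeal A).map (algebraMap A D) = maximalIdeal D) : Module.Flat D E := by
  have hj : (maximalIdeal D).map (algebraMap D E) ≤ Ideal.jacobson ⊥ := by
    rw [IsLocalRing.jacobson_eq_maximalIdeal ⊥ bot_ne_top]
    exact ((local_hom_TFAE (algebraMap D E)).out 0 2).mp ‹_›
  refine LocalCrit.flat_of_le_jacobson (B := E) (M := E) (maximalIdeal D) hj ?_
    (LocalCrit.keepsInjective_of_isMaximal _ _)
  let J := maximalIdeal A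
  have hJ : ∀ a : J, algebraMap A D a ∈ maximalIdeal D := fun a => hm ▸ Ideal.mem_map_of_mem _ a.2
  let j : J →ₗ[A] maximalIdeal D :=
    { toFun := fun a => ⟨algebraMap A D a, hJ a⟩
      map_add' := fun a b => Subtype.ext (map_add _ _ _)
      map_smul' := fun r a => Subtype.ext (by
        show algebraMap A D (r • (a : A)) = r • algebraMap A D a
        rw [smul_eq_mul, map_mul, Algebra.smul_def]) }
  let φ : J ⊗[A] E →ₗ[A] maximalIdeal D ⊗[D] E := TensorProduct.lift
    (LinearMap.mk₂ A (fun a e => j a ⊗ₜ[D] e) (fun _ _ _ => by rw [map_add, add_tmul])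
      (fun r a e => by rw [map_smul, smul_tmul'])
      (fun _ _ _ => tmul_add _ _ _) (fun r a e => by rw [tmul_smul]))
  have hφ : Function.Surjective φ := fun x => by
    induction x using TensorProduct.induction_on with
    | zero => exact ⟨0, map_zero _⟩
    | add x y hx hy =>
      obtain ⟨a, rfl⟩ := hx
      obtain ⟨b, rfl⟩ := hy
      exact ⟨a + b, map_add _ _ _⟩
    | tmul d e =>
      obtain ⟨d, hd⟩ := d
      suffices h : ∀ d ∈ (maximalIdeal A).map (algebraMap A D), ∀ hd e, ∃ a, φ a =
          (⟨d, hd⟩ : maximalIdeal D) ⊗ₜ[D] e from h d (hm ▸ hd) hd e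
      intro d hd'
      induction hd' using Submodule.span_induction with
      | mem d h =>
        obtain ⟨a, ha, rfl⟩ := h
        exact fun _ e => ⟨⟨a, ha⟩ ⊗ₜ e, rfl⟩
      | zero => exact fun _ e => ⟨0, by rw [map_zero]; exact (zero_tmul _ e).symm⟩
      | add d d' h h' ih ih' =>
        intro hdd e
        obtain ⟨a, ha⟩ := ih (hm ▸ h) e
        obtain ⟨b, hb⟩ := ih' (hm ▸ h') e
        exact ⟨a + b, by rw [map_add, ha, hb, ← add_tmul]; rfl⟩
      | smul r d h ih =>
        intro hdd e
        obtain ⟨a, ha⟩ := ih (hm ▸ h) (r • e)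
        exact ⟨a, by rw [ha, ← smul_tmul]; rfl⟩
  intro x y hxy
  obtain ⟨a, rfl⟩ := hφ x
  obtain ⟨b, rfl⟩ := hφ y
  have hc : ∀ z, ((maximalIdeal D).subtype.rTensor E (φ z)) =
      (1 : D) ⊗ₜ[D] (TensorProduct.lid A E (J.subtype.rTensor E z)) := by
    intro z
    induction z using TensorProduct.induction_on with
    | zero => simp
    | add x y hx hy => simp only [map_add, hx, hy, tmul_add]
    | tmul a e =>
      show algebraMap A D a ⊗ₜ[D] e = _
      rw [LinearMap.rTensor_tmul, TensorProduct.lid_tmul, Submodule.subtype_apply,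
        ← IsScalarTower.algebraMap_smul D (a : A) e, ← smul_tmul, smul_eq_mul, mul_one]
  rw [hc, hc] at hxy
  have h1 := congrArg (TensorProduct.lid D E) hxy
  rw [TensorProduct.lid_tmul, TensorProduct.lid_tmul, one_smul, one_smul] at h1
  exact congrArg φ (Module.Flat.rTensor_preserves_injective_linearMap J.subtype J.injective_subtype
    ((TensorProduct.lid A E).injective h1))

variable [IsLocalRing E] [Module.Flat A E] [Module.Flat D E] [Algebra.EssFiniteType A E]
  [Algebra.FormallyUnramified A E] [IsNoetherianRing E]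

set_option maxHeartbeats 1000000 in
/-- An unramified algebra is flat over all sufficiently large finitely generated subalgebras of an
intermediate ring over which it is flat. -/
theorem exists_flat_adjoin (hinj : Function.Injective (algebraMap D E)) :
    ∃ G₀ : Set D, G₀.Finite ∧ ∀ G : Set D, G₀ ⊆ G → Module.Flat (Algebra.adjoin A G) E := by
  classical
  haveI : Algebra.EssFiniteType E (E ⊗[A] E) := inferInstance
  haveI : IsNoetherianRing (E ⊗[A] E) := Algebra.EssFiniteType.isNoetherianRing E _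
  let φ : D ⊗[A] E →ₐ[A] E ⊗[A] E :=
    Algebra.TensorProduct.map (IsScalarTower.toAlgHom A D E) (AlgHom.id A E)
  have hφflat : φ.Flat :=
    RingHom.Flat.tensorProductMap (f := IsScalarTower.toAlgHom A D E) (g := AlgHom.id A E)
      (show (algebraMap D E).Flat from RingHom.flat_algebraMap_iff.mpr ‹Module.Flat D E›) (RingHom.Flat.id E)
  have hφinj : Function.Injective φ :=
    Module.Flat.rTensor_preserves_injective_linearMap (M := E)
      (IsScalarTower.toAlgHom A D E).toLinearMap hinj
  let μ : E ⊗[A] E →ₐ[A] E := Algebra.TensorProduct.lmul' A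
  obtain ⟨i, hi, hspan⟩ := (Ideal.isIdempotentElem_iff_of_fg _ (KaehlerDifferential.ideal_fg A E)).mp <|
      (Ideal.cotangent_subsingleton_iff _).mp <| inferInstanceAs <| Subsingleton Ω[E⁄A]
  have hμi : μ i = 0 := RingHom.mem_ker.mp (hspan.ge (Ideal.mem_span_singleton_self i))
  have hkill : ∀ z, μ (φ z) = 0 → ∃ s, IsUnit (μ (φ s)) ∧ s * z = 0 := by
    intro z hz
    have hzi : φ z ∈ Ideal.span {i} := hspan.le (RingHom.mem_ker.mpr hz)
    obtain ⟨c, hc⟩ := Ideal.mem_span_singleton'.mp hzi
    letI := φ.toRingHom.toAlgebra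
    haveI : Module.Flat (D ⊗[A] E) (E ⊗[A] E) := hφflat
    have h0 : ∑ _k : Fin 1, z • (1 - i) = 0 := by
      rw [Fin.sum_univ_one]
      show φ z * (1 - i) = 0
      rw [← hc, mul_assoc, mul_sub, mul_one, hi.eq, sub_self, mul_zero]
    obtain ⟨k, a, y, hy, ha⟩ := Module.Flat.isTrivialRelation_of_sum_smul_eq_zero (R := D ⊗[A] E) (M := E ⊗[A] E)
      (f := fun _ : Fin 1 => z) (x := fun _ : Fin 1 => 1 - i) h0
    have h1 : IsUnit (∑ j, μ (φ (a 0 j)) * μ (y j)) := by
      have : μ (1 - i) = ∑ j, μ (φ (a 0 j)) * μ (y j) := by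
        rw [show (1 - i) = ∑ j, a 0 j • y j from hy 0, map_sum]
        exact Finset.sum_congr rfl fun j _ => map_mul μ _ _
      rw [← this, map_sub, map_one, hμi, sub_zero]
      exact isUnit_one
    obtain ⟨j, hj⟩ : ∃ j, IsUnit (μ (φ (a 0 j))) := by
      by_contra! hall
      refine (mem_maximalIdeal _).mp (Ideal.sum_mem _ fun j _ => Ideal.mul_mem_right _ _ ?_) h1
      exact hall j
    refine ⟨a 0 j, hj, ?_⟩
    have := ha j
    rw [Fin.sum_univ_one, mul_comm] at this
    exact this
  obtain ⟨F, hF, hFspan⟩ := Submodule.fg_span_iff_fg_span_finset_subset _ |>.mp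
    (IsNoetherian.noetherian (Submodule.span (E ⊗[A] E) (φ '' {z | μ (φ z) = 0})))
  choose g hg hgφ using fun x : F => hF x.2
  choose s hs hs0 using fun x : F => hkill (g x) (hg x)
  let σ : D ⊗[A] E := ∏ x, s x
  have hσu : IsUnit (μ (φ σ)) := by
    rw [map_prod, map_prod]
    exact IsUnit.prod_iff.mpr fun x _ => hs x
  have hσ : ∀ z, μ (φ z) = 0 → φ σ * φ z = 0 := by
    intro z hz
    have hle : Submodule.span (E ⊗[A] E) (F : Set (E ⊗[A] E)) ≤
        LinearMap.ker (LinearMap.mulLeft (E ⊗[A] E) (φ σ)) := Submodule.span_le.mpr fun x hx => by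
      show φ σ * x = 0
      rw [show σ = (∏ y ∈ Finset.univ.erase ⟨x, hx⟩, s y) * s ⟨x, hx⟩ from
        (Finset.prod_erase_mul _ _ (Finset.mem_univ _)).symm, map_mul, mul_assoc]
      have := congrArg φ (hs0 ⟨x, hx⟩)
      rw [map_mul, map_zero, hgφ] at this
      rw [this, mul_zero]
    exact hle (hFspan.le (Submodule.subset_span ⟨z, hz, rfl⟩))
  obtain ⟨S, hS⟩ := TensorProduct.exists_finset σ
  refine ⟨↑(S.image Prod.fst), Finset.finite_toSet _, fun G hG => ?_⟩
  let R := Algebra.adjoin A G
  let ψ : R ⊗[A] E →ₐ[A] D ⊗[A] E := Algebra.TensorProduct.map R.val (AlgHom.id A E)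
  have hψinj : Function.Injective (φ.comp ψ) := by
    rw [show φ.comp ψ = Algebra.TensorProduct.map ((IsScalarTower.toAlgHom A D E).comp R.val) (AlgHom.id A E) by
      exact Algebra.TensorProduct.ext' fun a b => rfl]
    exact Module.Flat.rTensor_preserves_injective_linearMap (M := E)
      ((IsScalarTower.toAlgHom A D E).comp R.val).toLinearMap (hinj.comp Subtype.val_injective)
  have hmem : ∀ x : S, (x : D × E).1 ∈ R := fun x =>
    Algebra.subset_adjoin (hG (Finset.mem_coe.mpr (Finset.mem_image_of_mem _ x.2)))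
  let σ₀ : R ⊗[A] E := ∑ x : S, (⟨(x : D × E).1, hmem x⟩ : R) ⊗ₜ (x : D × E).2
  have hσ₀ : ψ σ₀ = σ := by
    rw [map_sum, hS, ← Finset.sum_coe_sort S]
    rfl
  let π : R ⊗[A] E →ₐ[R] E :=
    Algebra.TensorProduct.lift (Algebra.ofId R E) (AlgHom.id A E) fun _ _ => Commute.all _ _
  have hπ : ∀ z, π z = μ (φ (ψ z)) := by
    intro z
    induction z using TensorProduct.induction_on with
    | zero => simp
    | add x y hx hy => simp only [map_add, hx, hy]
    | tmul r e => rfl
  letI : Algebra (R ⊗[A] E) E := π.toRingHom.toAlgebra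
  haveI : IsScalarTower R (R ⊗[A] E) E := IsScalarTower.of_algebraMap_eq fun r => (π.commutes r).symm
  haveI : IsLocalization.Away σ₀ E := by
    refine IsLocalization.Away.mk σ₀ ?_ (fun e => ⟨0, (1 : R) ⊗ₜ e, ?_⟩) fun a b hab => ⟨1, hψinj ?_⟩
    · show IsUnit (π σ₀)
      rw [hπ, hσ₀]
      exact hσu
    · rw [pow_zero, mul_one]
      show e = π ((1 : R) ⊗ₜ e)
      rw [Algebra.TensorProduct.lift_tmul, map_one, one_mul]
      rfl
    · have hz : μ (φ (ψ (a - b))) = 0 := by
        rw [← hπ, map_sub]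
        exact sub_eq_zero.mpr hab
      have := hσ _ hz
      rw [← hσ₀, ← map_mul, ← map_mul] at this
      refine sub_eq_zero.mp ?_
      rw [pow_one, ← map_sub, ← mul_sub]
      exact this
  haveI : Module.Flat (R ⊗[A] E) E := IsLocalization.flat E (Submonoid.powers σ₀)
  exact Module.Flat.trans R (R ⊗[A] E) E

end Groth.Agent.H1EssEt
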