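import Mathlib

/-!
# Descent of finite generation along a killer of the diagonal
-/

set_option autoImplicit false
universe u
open TensorProduct IsLocalRing

namespace Groth.Agent.H1EssEt

variable (A D E : Type u) [CommRing A] [CommRing D] [CommRing E] [Algebra A D] [Algebra A E]
  [Algebra D E] [IsScalarTower A D E] [Module.Flat A E]

set_option maxHeartbeats 1000000 in
/-- `E` is flat over all subalgebras containing the coefficients of a killer of the diagonal. -/
theorem exists_flat_adjoin_of_killer (hinj : Function.Injective (algebraMap D E))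
    (hσ : ∃ σ : D ⊗[A] E, IsUnit (Algebra.TensorProduct.productMap (IsScalarTower.toAlgHom A D E) (AlgHom.id A E) σ) ∧
      ∀ z, Algebra.TensorProduct.productMap (IsScalarTower.toAlgHom A D E) (AlgHom.id A E) z = 0 → σ * z = 0) :
    ∃ G₀ : Set D, G₀.Finite ∧ ∀ G : Set D, G₀ ⊆ G → Module.Flat (Algebra.adjoin A G) E := by
  classical
  let μ := Algebra.TensorProduct.productMap (IsScalarTower.toAlgHom A D E) (AlgHom.id A E)
  obtain ⟨σ, hσu, hσ⟩ := hσ
  obtain ⟨S, hS⟩ := TensorProduct.exists_finset σ
  refine ⟨↑(S.image Prod.fst), Finset.finite_toSet _, fun G hG => ?_⟩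
  let R := Algebra.adjoin A G
  let ψ : R ⊗[A] E →ₐ[A] D ⊗[A] E := Algebra.TensorProduct.map R.val (AlgHom.id A E)
  have hψinj : Function.Injective ψ :=
    Module.Flat.rTensor_preserves_injective_linearMap (M := E) R.val.toLinearMap Subtype.val_injective
  have hmem : ∀ x : S, (x : D × E).1 ∈ R := fun x =>
    Algebra.subset_adjoin (hG (Finset.mem_coe.mpr (Finset.mem_image_of_mem _ x.2)))
  let σ₀ : R ⊗[A] E := ∑ x : S, (⟨(x : D × E).1, hmem x⟩ : R) ⊗ₜ (x : D × E).2
  have hσ₀ : ψ σ₀ = σ := by
    rw [map_sum, hS, ← Finset.sum_coe_sort S]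
    rfl
  let π : R ⊗[A] E →ₐ[R] E :=
    Algebra.TensorProduct.lift (Algebra.ofId R E) (AlgHom.id A E) fun _ _ => Commute.all _ _
  have hπ : ∀ z, π z = μ (ψ z) := by
    intro z
    induction z using TensorProduct.induction_on with
    | zero => simp
    | add x y hx hy => simp only [map_add, hx, hy]
    | tmul r e => rfl
  letI : Algebra (R ⊗[A] E) E := π.toRingHom.toAlgebra
  haveI : IsScalarTower R (R ⊗[A] E) E := IsScalarTower.of_algebraMap_eq fun r => (π.commutes r).symm
  haveI : IsLocalization.Away σ₀ E := by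
    refine IsLocalization.Away.mk σ₀ ?_ (fun e => ⟨0, (1 : R) ⊗ₜ e, ?_⟩) fun a b hab => ⟨1, hψinj ?_⟩
    · show IsUnit (π σ₀)
      rw [hπ, hσ₀]
      exact hσu
    · rw [pow_zero, mul_one]
      show e = π ((1 : R) ⊗ₜ e)
      rw [Algebra.TensorProduct.lift_tmul, map_one, one_mul]
      rfl
    · have := hσ (ψ (a - b)) (by
        show μ (ψ (a - b)) = 0
        rw [← hπ, map_sub]
        exact sub_eq_zero.mpr hab)
      rw [← hσ₀, ← map_mul, mul_sub, map_sub] at this
      rw [pow_one]
      exact sub_eq_zero.mp this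
  haveI : Module.Flat (R ⊗[A] E) E := IsLocalization.flat E (Submonoid.powers σ₀)
  exact Module.Flat.trans R (R ⊗[A] E) E

/-- `E` is flat over `D`. -/
theorem flat_of_killer (hinj : Function.Injective (algebraMap D E))
    (hσ : ∃ σ : D ⊗[A] E, IsUnit (Algebra.TensorProduct.productMap (IsScalarTower.toAlgHom A D E) (AlgHom.id A E) σ) ∧
      ∀ z, Algebra.TensorProduct.productMap (IsScalarTower.toAlgHom A D E) (AlgHom.id A E) z = 0 → σ * z = 0) :
    Module.Flat D E := by
  obtain ⟨G₀, -, h⟩ := exists_flat_adjoin_of_killer A D E hinj hσ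
  haveI := h Set.univ (Set.subset_univ _)
  let R := Algebra.adjoin A (Set.univ : Set D)
  let g : D →+* R :=
    { toFun := fun d => ⟨d, Algebra.subset_adjoin (Set.mem_univ d)⟩
      map_one' := rfl
      map_mul' := fun _ _ => rfl
      map_zero' := rfl
      map_add' := fun _ _ => rfl }
  have hg : Function.Bijective g := ⟨fun a b h => congrArg Subtype.val h, fun r => ⟨r, Subtype.ext rfl⟩⟩
  have h1 : g.Flat := RingHom.Flat.of_bijective hg
  exact RingHom.flat_algebraMap_iff.mp (h1.comp (RingHom.flat_algebraMap_iff.mpr ‹Module.Flat R E›))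

end Groth.Agent.H1EssEt
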