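import Groth.Agent.H1EssEt.NormInter
import Mathlib

/-!
# Noetherian intermediate rings of a strict henselization have finite normalisation
-/

set_option autoImplicit false
universe u
open IsLocalRing TensorProduct nonZeroDivisors Pointwise

namespace Groth.Agent.H1EssEt

variable {A S : Type u} [CommRing A] [HenselianLocalRing A] [IsNoetherianRing A] [IsReduced A] [CommRing S]
  [IsLocalRing S] [Algebra A S] [IsLocalHom (algebraMap A S)] [_root_.Hensel.IsStrictHenselization A S]

theorem goodUnion_mono (Ω Ω' : Subfield (ResidueField S)) (hΩ : ∀ a : A, residue S (algebraMap A S a) ∈ Ω)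
    (hΩ' : ∀ a : A, residue S (algebraMap A S a) ∈ Ω') (h : Ω ≤ Ω') :
    goodUnion A Ω hΩ ≤ goodUnion A Ω' hΩ' :=
  fun _ ⟨E, hx, _, hl, he, hr⟩ => ⟨E, hx, ‹_›, hl, he, fun y hy => h (hr y hy)⟩

theorem exists_finset_span_sup (G D : Type u) [CommRing G] [IsLocalRing G] [CommRing D] [IsLocalRing D]
    [IsNoetherianRing D] [Algebra G D] (N : ℕ)
    (hN : maximalIdeal D ^ N ≤ (maximalIdeal G).map (algebraMap G D))
    (hrep : ∀ d : D, ∃ g : G, d - algebraMap G D g ∈ maximalIdeal D) :
    ∃ s : Finset D, ∀ n : ℕ, (⊤ : Submodule G D) ≤ Submodule.span G (s : Set D) ⊔ maximalIdeal G ^ n • ⊤ := by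
  classical
  let m := maximalIdeal G
  let mD := maximalIdeal D
  have hfin : ∀ n : ℕ, ∃ s : Finset D,
      (⊤ : Submodule G D) ≤ Submodule.span G (s : Set D) ⊔ (mD ^ n).restrictScalars G := by
    intro n
    induction n with
    | zero => exact ⟨∅, fun x _ => Submodule.mem_sup_right (by rw [pow_zero, Ideal.one_eq_top]; exact trivial)⟩
    | succ n ih =>
      obtain ⟨s, hs⟩ := ih
      obtain ⟨μ, hμ⟩ := IsNoetherian.noetherian (mD ^ n)
      refine ⟨s ∪ μ, hs.trans (sup_le ?_ ?_)⟩
      · exact (Submodule.span_mono (Finset.coe_subset.mpr Finset.subset_union_left)).trans le_sup_left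
      · intro y hy
        have hy' : y ∈ Submodule.span D (μ : Set D) := hμ.symm ▸ hy
        have key : y ∈ Submodule.span G ((s ∪ μ : Finset D) : Set D) ⊔ (mD ^ (n + 1)).restrictScalars G ∧
            y ∈ mD ^ n := by
          clear hy
          induction hy' using Submodule.closure_induction with
          | zero => exact ⟨zero_mem _, zero_mem _⟩
          | add a b _ _ ha hb => exact ⟨add_mem ha.1 hb.1, add_mem ha.2 hb.2⟩
          | smul_mem c z hz =>
            have hzn : z ∈ mD ^ n := hμ ▸ Submodule.subset_span hz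
            refine ⟨?_, Ideal.mul_mem_left _ c hzn⟩
            obtain ⟨g, hg⟩ := hrep c
            rw [smul_eq_mul, show c * z = g • z + (c - algebraMap G D g) * z by
              rw [Algebra.smul_def]; ring]
            refine Submodule.add_mem_sup (Submodule.smul_mem _ _ (Submodule.subset_span ?_)) ?_
            · exact Finset.mem_coe.mpr (Finset.mem_union_right _ (Finset.mem_coe.mp hz))
            · show _ ∈ mD ^ (n + 1)
              rw [pow_succ']
              exact Ideal.mul_mem_mul hg hzn
        exact key.1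
  obtain ⟨s, hs⟩ := hfin N
  have hs1 : (⊤ : Submodule G D) ≤ Submodule.span G (s : Set D) ⊔ m • ⊤ := hs.trans (sup_le_sup_left (by
    rw [Ideal.smul_top_eq_map]; exact fun y hy => hN hy) _)
  have hsn : ∀ n : ℕ, (⊤ : Submodule G D) ≤ Submodule.span G (s : Set D) ⊔ m ^ n • ⊤ := by
    intro n
    induction n with
    | zero => rw [pow_zero, one_smul]; exact le_sup_right
    | succ n ih =>
      refine hs1.trans (sup_le le_sup_left ((smul_mono_right m ih).trans ?_))
      rw [Submodule.smul_sup, ← Submodule.smul_assoc, smul_eq_mul, ← pow_succ']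
      exact sup_le_sup_right Submodule.smul_le_right _
  exact ⟨s, hsn⟩

theorem mem_of_forall_mem_sup_pow (G M : Type u) [CommRing G] [IsLocalRing G] [IsNoetherianRing G]
    [AddCommGroup M] [Module G M] [Module.Finite G M] (P : Submodule G M) (x : M)
    (hx' : ∀ n : ℕ, x ∈ P ⊔ maximalIdeal G ^ n • ⊤) : x ∈ P := by
  let m := maximalIdeal G
  have h0 : P.mkQ x ∈ (⨅ n : ℕ, m ^ n • ⊤ : Submodule G (M ⧸ P)) := by
    rw [Submodule.mem_iInf]
    intro n
    obtain ⟨p, hp, r, hr, hpr⟩ := Submodule.mem_sup.mp (hx' n)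
    rw [← hpr, map_add, Submodule.mkQ_apply, (Submodule.Quotient.mk_eq_zero P).mpr hp, zero_add]
    have := Submodule.mem_map_of_mem (f := P.mkQ) hr
    rw [Submodule.map_smul'', Submodule.map_top, Submodule.range_mkQ] at this
    exact this
  rw [Ideal.iInf_pow_smul_eq_bot_of_isLocalRing m (maximalIdeal.isMaximal G).ne_top, Submodule.mem_bot,
    Submodule.mkQ_apply, Submodule.Quotient.mk_eq_zero] at h0
  exact h0

theorem exists_pow_maximalIdeal_le (A G D : Type u) [CommRing A] [IsLocalRing A] [CommRing G] [IsLocalRing G]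
    [CommRing D] [IsLocalRing D] [IsNoetherianRing D] [Algebra A G] [Algebra G D] [Algebra A D] [IsScalarTower A G D]
    [Algebra.IsIntegral A D] [IsLocalHom (algebraMap A G)] :
    ∃ N : ℕ, maximalIdeal D ^ N ≤ (maximalIdeal G).map (algebraMap G D) := by
  refine Ideal.exists_pow_le_of_le_radical_of_fg ?_ (IsNoetherian.noetherian _)
  rw [Ideal.radical_eq_sInf, le_sInf_iff]
  rintro P ⟨hP, hPp⟩
  haveI : P.IsPrime := hPp
  haveI : (P.comap (algebraMap A D)).IsPrime := Ideal.IsPrime.comap _
  have h1 : maximalIdeal A ≤ P.comap (algebraMap A D) := fun a ha => by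
    rw [Ideal.mem_comap, IsScalarTower.algebraMap_apply A G D]
    exact hP (Ideal.mem_map_of_mem _ (map_nonunit (algebraMap A G) a ha))
  have h2 : P.IsMaximal := Ideal.isMaximal_of_isIntegral_of_isMaximal_comap (R := A) (S := D) P
    ((maximalIdeal.isMaximal A).eq_of_le (Ideal.IsPrime.ne_top inferInstance) h1 ▸ maximalIdeal.isMaximal A)
  exact (eq_maximalIdeal h2).ge

theorem exists_sub_algebraMap_mem (G D : Subalgebra A S) (hGD : G ≤ D) [IsLocalRing D]
    (hres : ∀ d ∈ D, ∃ g ∈ G, residue S g = residue S d) (d : D) :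
    ∃ g : G, d - Subalgebra.inclusion hGD g ∈ maximalIdeal D := by
  obtain ⟨y, hy, hyd⟩ := hres d d.2
  refine ⟨⟨y, hy⟩, ?_⟩
  rw [mem_maximalIdeal, mem_nonunits_iff]
  intro hu
  refine (residue_ne_zero_iff_isUnit _).mpr (hu.map D.val) ?_
  show residue S ((d : S) - y) = 0
  rw [map_sub, hyd, sub_self]

/-- Noetherian intermediate rings are finitely generated over subalgebras with the same residues. -/
theorem exists_finset_of_isNoetherianRing (G D : Subalgebra A S) [IsNoetherianRing G] [IsLocalRing G]
    [IsLocalHom (algebraMap A G)] (hGD : G ≤ D) [IsNoetherianRing D] [IsLocalRing D] [Algebra.IsIntegral A D]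
    (hres : ∀ d ∈ D, ∃ g ∈ G, residue S g = residue S d) :
    ∃ s : Finset S, ∀ (E H : Subalgebra A S) (hGH : G ≤ H), (s : Set S) ⊆ E → E ≤ H →
      (@Module.Finite G H _ _ (Subalgebra.inclusion hGH).toRingHom.toAlgebra.toModule) →
      (∀ I : Ideal H, (I.map (algebraMap H S)).comap (algebraMap H S) = I) →
      ∀ x ∈ D, x ∈ H → x ∈ G ⊔ E := by
  classical
  letI : Algebra G D := (Subalgebra.inclusion hGD).toRingHom.toAlgebra
  haveI : IsScalarTower G D S := IsScalarTower.of_algebraMap_eq fun _ => rfl
  haveI : IsScalarTower A G D := IsScalarTower.of_algebraMap_eq fun _ => rfl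
  let m := maximalIdeal G
  obtain ⟨N, hN⟩ := exists_pow_maximalIdeal_le A G D
  obtain ⟨s, hsn⟩ := exists_finset_span_sup G D N hN (exists_sub_algebraMap_mem G D hGD hres)
  refine ⟨s.image fun d : D => (d : S), fun E H hGH hgE hEH hfin hcomap x hx hxH' => ?_⟩
  letI : Algebra G H := (Subalgebra.inclusion hGH).toRingHom.toAlgebra
  haveI : IsScalarTower G H S := IsScalarTower.of_algebraMap_eq fun _ => rfl
  haveI : Module.Finite G H := hfin
  let H₀ : Subalgebra A S := G ⊔ E
  have hH₀H : H₀ ≤ H := sup_le hGH hEH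
  let P : Submodule G H :=
    { carrier := {h | (h : S) ∈ H₀}
      zero_mem' := H₀.zero_mem
      add_mem' := fun ha hb => H₀.add_mem ha hb
      smul_mem' := fun g h hh => by
        show ((algebraMap G H g * h : H) : S) ∈ H₀
        exact H₀.mul_mem ((le_sup_left : G ≤ H₀) g.2) hh }
  let xH : H := ⟨x, hxH'⟩
  have hx' : ∀ n : ℕ, xH ∈ P ⊔ m ^ n • ⊤ := by
    intro n
    obtain ⟨w, hw, y, hy, hwy⟩ := Submodule.mem_sup.mp (hsn n (Submodule.mem_top (x := (⟨x, hx⟩ : D))))
    have hw' : (w : S) ∈ H₀ := by
      clear hwy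
      induction hw using Submodule.span_induction with
      | mem d hd =>
        exact (le_sup_right : E ≤ H₀) (hgE (Finset.mem_coe.mpr (Finset.mem_image_of_mem _ (Finset.mem_coe.mp hd))))
      | zero => exact H₀.zero_mem
      | add a b _ _ ha hb => exact H₀.add_mem ha hb
      | smul g a _ ha => exact H₀.mul_mem ((le_sup_left : G ≤ H₀) g.2) ha
    rw [Ideal.smul_top_eq_map, Submodule.restrictScalars_mem] at hy
    have hy' : (y : S) ∈ ((m ^ n).map (algebraMap G H)).map (algebraMap H S) := by
      rw [Ideal.map_map, ← IsScalarTower.algebraMap_eq, IsScalarTower.algebraMap_eq G D S, ← Ideal.map_map]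
      exact Ideal.mem_map_of_mem (algebraMap D S) hy
    let wH : H := ⟨w, hH₀H hw'⟩
    have hdiff : xH - wH ∈ (m ^ n).map (algebraMap G H) := by
      rw [← hcomap ((m ^ n).map (algebraMap G H)), Ideal.mem_comap]
      have h : algebraMap H S (xH - wH) = (y : S) := by
        show x - (w : S) = y
        rw [sub_eq_iff_eq_add', ← show ((w + y : D) : S) = x from congrArg Subtype.val hwy]
        rfl
      rw [h]; exact hy'
    rw [show xH = wH + (xH - wH) by ring]
    refine Submodule.add_mem_sup hw' ?_
    rw [Ideal.smul_top_eq_map]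
    exact hdiff
  exact (mem_of_forall_mem_sup_pow G H P xH hx' :)

theorem moduleFinite_of_subset_span (G H : Subalgebra A S) [IsNoetherianRing G] (hGH : G ≤ H) (gens : Finset S)
    (h : ∀ x ∈ H, x ∈ Submodule.span G (gens : Set S)) :
    @Module.Finite G H _ _ (Subalgebra.inclusion hGH).toRingHom.toAlgebra.toModule := by
  letI : Algebra G H := (Subalgebra.inclusion hGH).toRingHom.toAlgebra
  haveI : IsScalarTower G H S := IsScalarTower.of_algebraMap_eq fun _ => rfl
  let P : Submodule G S := Submodule.span G (gens : Set S)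
  haveI : Module.Finite G P := Module.Finite.span_of_finite _ gens.finite_toSet
  haveI : IsNoetherian G P := isNoetherian_of_isNoetherianRing_of_finite _ _
  haveI : IsNoetherian G H :=
    isNoetherian_of_injective (LinearMap.codRestrict P
      (IsScalarTower.toAlgHom G H S).toLinearMap fun d => h d d.2)
      fun x y h => Subtype.ext congr(Subtype.val $h)
  infer_instance

/-- A Noetherian intermediate ring lies in a finite extension of the union of its good subalgebras. -/
theorem exists_le_sup_of_isNoetherianRing (D : Subalgebra A S) [IsNoetherianRing D] :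
    ∃ E : Subalgebra A S, H1Gal.IsFE E ∧ D ≤ goodUnion A (resField D) (algebraMap_mem_resField D) ⊔ E := by
  classical
  haveI := (isLocalHom_subalgebra D).1
  haveI := isIntegral_subalgebra D
  haveI := isNoetherianRing_goodUnion (A := A) (resField D) (algebraMap_mem_resField D)
  haveI := isLocalRing_goodUnion (A := A) (resField D) (algebraMap_mem_resField D)
  haveI : IsLocalHom (algebraMap A (goodUnion A (resField D) (algebraMap_mem_resField D))) :=
    ⟨fun a ha => isUnit_of_map_unit (algebraMap A S) a
      (ha.map (goodUnion A (resField D) (algebraMap_mem_resField D)).val)⟩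
  obtain ⟨s, hs⟩ := exists_finset_of_isNoetherianRing (goodUnion A (resField D) (algebraMap_mem_resField D)) D
    (goodUnion_le D _ _ le_rfl)
    fun d hd => exists_mem_goodUnion (A := A) (resField D) (algebraMap_mem_resField D)
      (Subfield.subset_closure ⟨d, hd, rfl⟩)
  obtain ⟨-, E, hE, -, hgE⟩ := H1Gal.exists_isFE_ge (A := A) (S := S) s
  refine ⟨E, hE, fun x hx => ?_⟩
  obtain ⟨gensE, hgensE⟩ := Module.Finite.iff_fg.mp (show Module.Finite A E.toSubmodule from hE.finite)
  obtain ⟨-, F, hF, -, hgF⟩ := H1Gal.exists_isFE_ge (A := A) (S := S) (insert x gensE)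
  rw [Finset.coe_insert, Set.insert_subset_iff] at hgF
  have hEF : E ≤ F := H1Gal.le_of_gens hgensE hgF.2
  haveI := hF.finite
  haveI := hF.isLocalRing
  haveI := hF.isLocalHom_right
  obtain ⟨Ω', hΩ', hgen, hΩle, hFle⟩ : ∃ (Ω' : Subfield (ResidueField S))
      (_ : ∀ a : A, residue S (algebraMap A S a) ∈ Ω'),
      Ω' ≤ Subfield.closure ((resField D : Set (ResidueField S)) ∪ residue S '' F) ∧ resField D ≤ Ω' ∧
        ∀ z ∈ F, residue S z ∈ Ω' :=
    ⟨Subfield.closure ((resField D : Set (ResidueField S)) ∪ residue S '' F),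
      fun a => Subfield.subset_closure (Or.inl (algebraMap_mem_resField D a)), le_rfl,
      fun z hz => Subfield.subset_closure (Or.inl hz), fun z hz => Subfield.subset_closure (Or.inr ⟨z, hz, rfl⟩)⟩
  have hFH : F ≤ goodUnion A Ω' hΩ' := fun y hy => ⟨F, hy, ‹_›, inferInstance, hF.isEssentiallyEtale, hFle⟩
  obtain ⟨gens, -, hgens⟩ := sup_le_span (G := goodUnion A (resField D) (algebraMap_mem_resField D)) (E := F)
  exact hs E (goodUnion A Ω' hΩ') (goodUnion_mono _ _ _ _ hΩle) hgE (hEF.trans hFH)
    (moduleFinite_of_subset_span _ _ _ gens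
      fun y hy => hgens (goodUnion_le_sup _ _ F Ω' hΩ' hgen hy))
    (comap_map_goodUnion Ω' hΩ') x hx (hFH hgF.1)

set_option maxHeartbeats 600000 in
set_option synthInstance.maxHeartbeats 200000 in
/-- The normalisation of a Noetherian intermediate ring is finite. -/
theorem finite_integralClosure_subalgebra [Module.Finite A (integralClosure A (FractionRing A))]
    (D : Subalgebra A S) [IsNoetherianRing D] : Module.Finite D (integralClosure D (FractionRing D)) := by
  classical
  haveI : Algebra.WeaklyEtale A S := weaklyEtale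
  haveI : Module.Flat A S := Algebra.WeaklyEtale.flat
  haveI : IsArtinianRing (FractionRing A) :=
    EssEtFrac5.isArtinianRing_fractionRing (minimalPrimes.finite_of_isNoetherianRing A)
  haveI := isIntegral_subalgebra D
  haveI := isIntegral_strictHenselization A S
  obtain ⟨E, hE, hDE⟩ := exists_le_sup_of_isNoetherianRing D
  haveI := hE.finite
  haveI := hE.isLocalRing
  haveI := hE.isLocalHom_right
  let Ω := resField D
  let hΩ := algebraMap_mem_resField D
  let Ω' := Subfield.closure ((Ω : Set (ResidueField S)) ∪ residue S '' E)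
  have hΩ' : ∀ a : A, residue S (algebraMap A S a) ∈ Ω' := fun a => Subfield.subset_closure (Or.inl (hΩ a))
  let H := goodUnion A Ω' hΩ'
  have hDH : D ≤ H := hDE.trans (sup_le
    (goodUnion_mono Ω Ω' hΩ hΩ' fun z hz => Subfield.subset_closure (Or.inl hz))
    fun y hy => ⟨E, hy, ‹_›, inferInstance, hE.isEssentiallyEtale,
      fun z hz => Subfield.subset_closure (Or.inr ⟨z, hz, rfl⟩)⟩)
  obtain ⟨gens, -, hgens⟩ := sup_le_span (G := goodUnion A Ω hΩ) (E := E)
  obtain ⟨cs, hcs⟩ := Module.Finite.fg_top (R := A) (M := integralClosure A (FractionRing A))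
  let gfun : integralClosure A (FractionRing A) →ₐ[A] FractionRing S :=
    (fracMap A S).comp (integralClosure A (FractionRing A)).val
  let sgen : Finset (FractionRing S) := gens.image (algebraMap S (FractionRing S)) ∪ cs.image gfun
  let Λ : Subalgebra D (FractionRing S) := Algebra.adjoin D (sgen : Set (FractionRing S))
  have hint : ∀ z ∈ (sgen : Set (FractionRing S)), IsIntegral D z := by
    intro z hz
    rcases Finset.mem_union.mp (Finset.mem_coe.mp hz) with h | h
    · obtain ⟨e, -, rfl⟩ := Finset.mem_image.mp h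
      exact ((Algebra.IsIntegral.isIntegral (R := A) e).map (IsScalarTower.toAlgHom A S (FractionRing S))).tower_top
    · obtain ⟨c, -, rfl⟩ := Finset.mem_image.mp h
      exact (c.2.map (fracMap A S)).tower_top
  haveI hΛ : Module.Finite D Λ := Module.Finite.iff_fg.mpr (fg_adjoin_of_finite sgen.finite_toSet hint)
  have hSΛ : ∀ y ∈ H, algebraMap S (FractionRing S) y ∈ Λ := by
    intro y hy
    have hy' := hgens (goodUnion_le_sup Ω hΩ E Ω' hΩ' le_rfl hy)
    rw [SetLike.mem_coe] at hy'
    clear hy
    induction hy' using Submodule.span_induction with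
    | mem z hz =>
      exact Algebra.subset_adjoin (Finset.mem_coe.mpr (Finset.mem_union_left _
        (Finset.mem_image_of_mem _ (Finset.mem_coe.mp hz))))
    | zero => rw [map_zero]; exact zero_mem _
    | add a b _ _ ha hb => rw [map_add]; exact add_mem ha hb
    | smul g a _ ha =>
      show algebraMap S (FractionRing S) ((g : S) * a) ∈ Λ
      rw [map_mul]
      exact mul_mem (Λ.algebraMap_mem (⟨g, goodUnion_le D _ _ le_rfl g.2⟩ : D)) ha
  have hCΛ : ∀ c, gfun c ∈ Λ := by
    intro c
    have hc : c ∈ Submodule.span A (cs : Set (integralClosure A (FractionRing A))) := hcs ▸ Submodule.mem_top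
    induction hc using Submodule.span_induction with
    | mem z hz =>
      exact Algebra.subset_adjoin (Finset.mem_coe.mpr (Finset.mem_union_right _
        (Finset.mem_image_of_mem _ (Finset.mem_coe.mp hz))))
    | zero => rw [map_zero]; exact zero_mem _
    | add a b _ _ ha hb => rw [map_add]; exact add_mem ha hb
    | smul g a _ ha =>
      rw [map_smul, Algebra.smul_def, IsScalarTower.algebraMap_apply A D (FractionRing S)]
      exact mul_mem (Λ.algebraMap_mem _) ha
  have hnorm : ∀ x ∈ normSub D, x ∈ Λ := by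
    rintro x ⟨hxi, a, ha, d, hd, hxd⟩
    obtain ⟨E', hE', hgood⟩ := exists_isGood_finset Ω' hΩ' {d} fun y hy => by
      rw [Finset.mem_singleton] at hy
      exact hy ▸ hDH hd
    obtain ⟨_, _, he', -⟩ := id hgood
    obtain ⟨y, rfl⟩ := exists_toFrac_eq E' he' x hxi.tower_top ⟨a, ha, d, hE' (by simp), hxd⟩
    clear hxi hxd
    induction y using TensorProduct.induction_on with
    | zero => rw [map_zero, map_zero]; exact zero_mem _
    | add u v hu hv => rw [map_add, map_add]; exact add_mem hu hv
    | tmul e c =>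
      show algebraMap S (FractionRing S) e * gfun c ∈ Λ
      exact mul_mem (hSΛ _ ⟨E', e.2, hgood⟩) (hCΛ c)
  obtain ⟨φ, hφ⟩ := exists_equiv_normSub D
  haveI : IsNoetherian D Λ := isNoetherian_of_isNoetherianRing_of_finite _ _
  let ψ : integralClosure D (FractionRing D) →ₗ[D] Λ :=
    { toFun := fun y => ⟨φ y, hnorm _ (φ y).2⟩
      map_add' := fun x y => Subtype.ext (by simp)
      map_smul' := fun d y => Subtype.ext (by
        show ((φ (d • y) : normSub D) : FractionRing S) = d • (φ y : FractionRing S)
        rw [Algebra.smul_def, Algebra.smul_def]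
        rw [map_mul, MulMemClass.coe_mul, hφ]
        rfl) }
  haveI : IsNoetherian D (integralClosure D (FractionRing D)) :=
    isNoetherian_of_injective ψ fun x y h => φ.injective (Subtype.ext congr(Subtype.val $h))
  infer_instance

end Groth.Agent.H1EssEt
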