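import Groth.Agent.H1EssEt.SepGen
import Groth.Agent.H1EssEt.NoethFinite
import Mathlib

/-!
# Noetherian intermediate rings and the separable closure in the residues of the normalisation
-/

set_option autoImplicit false
universe u
open IsLocalRing Polynomial

namespace Groth.Agent.H1EssEt

set_option maxHeartbeats 2000000 in
set_option synthInstance.maxHeartbeats 100000 in
theorem sepGen_of_finiteDimensional {A D N : Type u} [CommRing A] [IsLocalRing A] [CommRing D] [IsLocalRing D]
    [Algebra A D] [IsLocalHom (algebraMap A D)] [Algebra.IsSeparable (ResidueField A) (ResidueField D)]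
    [CommRing N] [Algebra D N] [Algebra.IsIntegral D N] (M : Ideal N) [M.IsMaximal]
    (h : FiniteDimensional (Subfield.closure (Set.range ((algebraMap N M.ResidueField).comp (algebraMap D N))))
      (separableClosure (Subfield.closure (Set.range ((algebraMap N M.ResidueField).comp (algebraMap D N))))
        M.ResidueField)) :
    SepGen (ringExpChar (ResidueField D)) (algebraMap A D) ((Ideal.Quotient.mk M).comp (algebraMap D N)) := by
  classical
  let e : (N ⧸ M) ≃+* M.ResidueField :=
    RingEquiv.ofBijective (algebraMap (N ⧸ M) M.ResidueField) M.bijective_algebraMap_quotient_residueField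
  refine SepGen.of_equiv _ _ _ e ?_
  rw [show e.toRingHom.comp ((Ideal.Quotient.mk M).comp (algebraMap D N)) =
    (algebraMap N M.ResidueField).comp (algebraMap D N) from RingHom.ext fun d => rfl]
  let L := M.ResidueField
  let f : D →+* L := (algebraMap N L).comp (algebraMap D N)
  change SepGen _ _ f
  change FiniteDimensional (Subfield.closure (Set.range f)) (separableClosure (Subfield.closure (Set.range f)) L) at h
  let q := ringExpChar (ResidueField D)
  have hm : ∀ d ∈ maximalIdeal D, f d = 0 := fun d hd => by
    haveI : (M.comap (algebraMap D N)).IsMaximal := Ideal.isMaximal_comap_of_isIntegral_of_isMaximal (R := D) M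
    exact Ideal.algebraMap_residueField_eq_zero.mpr
      ((IsLocalRing.eq_maximalIdeal (I := M.comap (algebraMap D N)) inferInstance).ge hd)
  let φ : ResidueField D →+* L := Ideal.Quotient.lift _ f hm
  set k₀ := Subfield.closure (Set.range f) with hk₀
  have hφk : ∀ z, φ z ∈ k₀ := fun z => by
    obtain ⟨d, rfl⟩ := residue_surjective z
    exact Subfield.subset_closure ⟨d, rfl⟩
  have hrange : ∀ x : L, x ∈ k₀ → ∃ d, f d = x := fun x hx => by
    have h : k₀ ≤ φ.fieldRange := Subfield.closure_le.mpr (by rintro _ ⟨d, rfl⟩; exact ⟨residue D d, rfl⟩)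
    obtain ⟨z, hz⟩ := h hx
    obtain ⟨d, rfl⟩ := residue_surjective z
    exact ⟨d, hz⟩
  let k := ResidueField A
  letI : Algebra k L := (φ.comp (algebraMap k (ResidueField D))).toAlgebra
  let iD : ResidueField D →ₐ[k] L := { φ with commutes' := fun x => rfl }
  letI : Algebra k k₀ := ((φ.comp (algebraMap k (ResidueField D))).codRestrict k₀ fun x => hφk _).toAlgebra
  haveI : IsScalarTower k k₀ L := IsScalarTower.of_algebraMap_eq fun _ => rfl
  haveI : Algebra.IsSeparable k k₀ := ⟨fun x => by
    obtain ⟨d, hd⟩ := hrange x x.2
    refine IsSeparable.of_algHom (IsScalarTower.toAlgHom k k₀ L) ?_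
    show IsSeparable k (x : L)
    rw [← hd, show f d = iD (residue D d) from rfl]
    exact IsSeparable.map iD iD.toRingHom.injective (Algebra.IsSeparable.isSeparable k _)⟩
  have hint : f.IsIntegral := by
    refine RingHom.IsIntegral.trans _ _ (algebraMap_isIntegral_iff.mpr inferInstance) ?_
    exact (algebraMap N L).isIntegral_of_surjective M.algebraMap_residueField_surjective
  let f₀ : D →+* k₀ := f.codRestrict k₀ fun d => Subfield.subset_closure ⟨d, rfl⟩
  haveI : Algebra.IsIntegral k₀ L := ⟨fun x => by
    obtain ⟨p, hp, hp0⟩ := hint x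
    refine ⟨p.map f₀, hp.map _, ?_⟩
    rw [Polynomial.eval₂_map]
    exact hp0⟩
  haveI : Algebra.IsAlgebraic k₀ L := Algebra.IsIntegral.isAlgebraic
  haveI : IsPurelyInseparable (separableClosure k₀ L) L := separableClosure.isPurelyInseparable k₀ L
  haveI : ExpChar (ResidueField D) q := ringExpChar.expChar _
  haveI : ExpChar L q := expChar_of_injective_ringHom φ.injective q
  haveI : ExpChar (separableClosure k₀ L) q :=
    (RingHom.expChar_iff (algebraMap (separableClosure k₀ L) L) (algebraMap (separableClosure k₀ L) L).injective q).mpr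
      inferInstance
  obtain ⟨G₀, hG₀⟩ := h.fg_top
  refine ⟨Finset.image (fun g : separableClosure k₀ L => algebraMap (separableClosure k₀ L) L g) G₀, fun g hg => ?_, fun w => ?_⟩
  · obtain ⟨g, -, rfl⟩ := Finset.mem_image.mp hg
    have hsep : IsSeparable k (algebraMap (separableClosure k₀ L) L g) :=
      IsSeparable.of_algebra_isSeparable_of_isSeparable k (mem_separableClosure_iff.mp g.2)
    obtain ⟨p, hp, -, hpm⟩ := Polynomial.lifts_and_degree_eq_and_monic (f := residue A) (p := minpoly k (algebraMap (separableClosure k₀ L) L g))
      ((Polynomial.lifts_iff_coeff_lifts _).mpr fun i => residue_surjective _) (minpoly.monic hsep.isIntegral)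
    refine ⟨p, hpm, hp.symm ▸ hsep, ?_⟩
    have h0 := minpoly.aeval k (algebraMap (separableClosure k₀ L) L g)
    rw [← hp, Polynomial.aeval_def, Polynomial.eval₂_map] at h0
    exact h0
  · obtain ⟨n, s, hs⟩ := IsPurelyInseparable.pow_mem (separableClosure k₀ L) q w
    refine ⟨n, ?_⟩
    rw [← hs]
    have hmem : s ∈ Submodule.span k₀ (G₀ : Set (separableClosure k₀ L)) := hG₀ ▸ Submodule.mem_top
    clear hs
    induction hmem using Submodule.span_induction with
    | mem x hx =>
      exact Subring.subset_closure (Or.inr (Finset.mem_coe.mpr (Finset.mem_image_of_mem _ (Finset.mem_coe.mp hx))))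
    | zero => exact zero_mem _
    | add x y _ _ hx hy => rw [map_add]; exact add_mem hx hy
    | smul c x _ hx =>
      obtain ⟨d, hd⟩ := hrange c c.2
      show (c : L) * _ ∈ _
      exact mul_mem (hd ▸ Subring.subset_closure (Or.inl ⟨d, rfl⟩)) hx

theorem finiteDimensional_separableClosure_of_finite {D N : Type u} [CommRing D] [CommRing N] [Algebra D N]
    [Module.Finite D N] (M : Ideal N) [M.IsMaximal] :
    FiniteDimensional (Subfield.closure (Set.range ((algebraMap N M.ResidueField).comp (algebraMap D N))))
      (separableClosure (Subfield.closure (Set.range ((algebraMap N M.ResidueField).comp (algebraMap D N))))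
        M.ResidueField) := by
  let f : D →+* M.ResidueField := (algebraMap N M.ResidueField).comp (algebraMap D N)
  let k₀ := Subfield.closure (Set.range f)
  letI : Algebra D k₀ := (f.codRestrict k₀ fun d => Subfield.subset_closure ⟨d, rfl⟩).toAlgebra
  haveI : Module.Finite D M.ResidueField :=
    Module.Finite.of_surjective (IsScalarTower.toAlgHom D N M.ResidueField).toLinearMap
      M.algebraMap_residueField_surjective
  haveI : IsScalarTower D k₀ M.ResidueField := IsScalarTower.of_algebraMap_eq fun d => by
    rw [IsScalarTower.algebraMap_apply D N M.ResidueField]; rfl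
  haveI : Module.Finite k₀ M.ResidueField := Module.Finite.of_restrictScalars_finite D k₀ _
  exact inferInstanceAs (FiniteDimensional k₀ (separableClosure k₀ M.ResidueField))

end Groth.Agent.H1EssEt
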