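import Groth.Agent.H1EssEt.Basic
import Groth.Agent.H1EssEt.InterNorm
import Groth.Agent.H1EssEt.NormBase
import Groth.Agent.WEtLib.Vnr
import Groth.Agent.CompleteNagata.Global
import Groth.Agent.RedNorm.Basic
import Groth.Agent.Hensel.HenselizationProps
import Mathlib

/-!
# The normalisation of an intermediate ring over which the strict henselization is flat
-/

set_option autoImplicit false
universe u
open TensorProduct nonZeroDivisors IsLocalRing

namespace Groth.Agent.H1EssEt

/-- Flatness descends along a faithfully flat extension of the algebra. -/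
theorem flat_of_faithfullyFlat_top (A D S : Type u) [CommRing A] [CommRing D] [CommRing S] [Algebra A D]
    [Algebra A S] [Algebra D S] [IsScalarTower A D S] [Module.Flat A S] [Module.FaithfullyFlat D S] :
    Module.Flat A D := by
  rw [Module.Flat.iff_lTensor_injective]
  intro J hJ
  refine (injective_iff_map_eq_zero _).mpr fun x hx => ?_
  let c := TensorProduct.AlgebraTensorModule.cancelBaseChange A D D S J
  let f : D ⊗[A] A →ₗ[A] S ⊗[A] A := (IsScalarTower.toAlgHom A D S).toLinearMap.rTensor A
  have hc : (J.subtype.lTensor S) (c ((1 : S) ⊗ₜ[D] x)) = f (J.subtype.lTensor D x) := by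
    clear hx
    induction x using TensorProduct.induction_on with
    | zero => simp
    | add x y hx hy => simp only [tmul_add, map_add, hx, hy]
    | tmul d j =>
      show (d • (1 : S)) ⊗ₜ[A] (j : A) = algebraMap D S d ⊗ₜ[A] (j : A)
      rw [Algebra.smul_def, mul_one]
  have h0 : c ((1 : S) ⊗ₜ[D] x) = 0 :=
    Module.Flat.lTensor_preserves_injective_linearMap (M := S) J.subtype J.injective_subtype (by
      rw [hc, hx, map_zero, map_zero])
  exact Module.FaithfullyFlat.tensorProduct_mk_injective (A := D) (B := S) (D ⊗[A] J)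
    (by show (1 : S) ⊗ₜ[D] x = (1 : S) ⊗ₜ[D] 0; rw [tmul_zero]; exact c.map_eq_zero_iff.mp h0)

/-- Base change along a faithfully flat extension is injective. -/
theorem injective_tensor_map (A D S : Type u) [CommRing A] [CommRing D] [CommRing S] [Algebra A D]
    [Algebra A S] [Algebra D S] [IsScalarTower A D S] [Module.FaithfullyFlat D S] (M : Type u)
    [AddCommGroup M] [Module A M] :
    Function.Injective ((IsScalarTower.toAlgHom A D S).toLinearMap.rTensor M) := by
  let c := TensorProduct.AlgebraTensorModule.cancelBaseChange A D D S M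
  refine (injective_iff_map_eq_zero _).mpr fun x hx => ?_
  have hc : c ((1 : S) ⊗ₜ[D] x) = (IsScalarTower.toAlgHom A D S).toLinearMap.rTensor M x := by
    clear hx
    induction x using TensorProduct.induction_on with
    | zero => simp
    | add x y hx hy => simp only [tmul_add, map_add, hx, hy]
    | tmul d j =>
      show (d • (1 : S)) ⊗ₜ[A] j = algebraMap D S d ⊗ₜ[A] j
      rw [Algebra.smul_def, mul_one]
  exact Module.FaithfullyFlat.tensorProduct_mk_injective (A := D) (B := S) (D ⊗[A] M)
    (by show (1 : S) ⊗ₜ[D] x = (1 : S) ⊗ₜ[D] 0; rw [tmul_zero]; exact c.map_eq_zero_iff.mp (hc.trans hx))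

set_option maxHeartbeats 1000000 in
set_option synthInstance.maxHeartbeats 100000 in
/-- The Jacobson radical of `A' ⊗ D` for a finite algebra `A'` and an intermediate ring `D` of a
weakly étale extension. -/
theorem tensor_semilocal_flat (A A' D S : Type u) [CommRing A] [IsLocalRing A] [CommRing A'] [Algebra A A']
    [Module.Finite A A'] [CommRing D] [IsLocalRing D] [Algebra A D] [IsLocalHom (algebraMap A D)]
    [CommRing S] [Algebra A S] [Algebra D S] [IsScalarTower A D S] [Algebra.WeaklyEtale A S]
    [Module.FaithfullyFlat D S]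
    (hmD : (maximalIdeal A).map (algebraMap A D) = maximalIdeal D) :
    Ideal.jacobson (⊥ : Ideal (A' ⊗[A] D)) =
      (Ideal.jacobson (⊥ : Ideal A')).map (Algebra.TensorProduct.includeLeft : A' →ₐ[A] A' ⊗[A] D) ∧
    {N : Ideal (A' ⊗[A] D) | N.IsMaximal}.Finite ∧
    (maximalIdeal D).map (Algebra.TensorProduct.includeRight : D →ₐ[A] A' ⊗[A] D) ≤
      (Ideal.jacobson (⊥ : Ideal A')).map (Algebra.TensorProduct.includeLeft : A' →ₐ[A] A' ⊗[A] D) := by
  classical
  let J : Ideal A' := Ideal.jacobson ⊥
  have hmJ : (maximalIdeal A).map (algebraMap A A') ≤ J := le_sInf fun N hN => by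
    haveI := hN.2
    rw [Ideal.map_le_iff_le_comap,
      IsLocalRing.eq_maximalIdeal (Ideal.isMaximal_comap_of_isIntegral_of_isMaximal (R := A) N)]
  have hmI : (maximalIdeal D).map (Algebra.TensorProduct.includeRight : D →ₐ[A] A' ⊗[A] D) ≤
      J.map (Algebra.TensorProduct.includeLeft : A' →ₐ[A] A' ⊗[A] D) := by
    refine Ideal.map_le_iff_le_comap.mpr fun d hd => ?_
    rw [← hmD] at hd
    refine (Ideal.map_le_iff_le_comap.mpr fun a ha => ?_ :
      (maximalIdeal A).map (algebraMap A D) ≤ (J.map (Algebra.TensorProduct.includeLeft : A' →ₐ[A] A' ⊗[A] D)).comap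
        (Algebra.TensorProduct.includeRight : D →ₐ[A] A' ⊗[A] D)) hd
    show (1 : A') ⊗ₜ[A] algebraMap A D a ∈ J.map _
    rw [Algebra.algebraMap_eq_smul_one, tmul_smul, smul_tmul', ← Algebra.algebraMap_eq_smul_one]
    exact Ideal.mem_map_of_mem _ (hmJ (Ideal.mem_map_of_mem _ ha))
  haveI hred : IsReduced (A' ⧸ J) := (Ideal.isRadical_iff_quotient_reduced J).mp (Ideal.isRadical_jacobson ⊥)
  haveI : IsReduced ((A' ⧸ J) ⊗[A] D) := by
    haveI : Algebra.WeaklyEtale (A' ⧸ J) ((A' ⧸ J) ⊗[A] S) := inferInstance
    haveI : IsReduced ((A' ⧸ J) ⊗[A] S) := WEtLib.isReduced_of_isReduced_base (A' ⧸ J) _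
    let g : (A' ⧸ J) ⊗[A] D →ₐ[A] (A' ⧸ J) ⊗[A] S :=
      Algebra.TensorProduct.map (AlgHom.id A _) (IsScalarTower.toAlgHom A D S)
    refine isReduced_of_injective g fun x y hxy => (Algebra.TensorProduct.comm A (A' ⧸ J) D).injective
      (injective_tensor_map A D S (A' ⧸ J) ?_)
    have key : ∀ z, (IsScalarTower.toAlgHom A D S).toLinearMap.rTensor (A' ⧸ J)
        (Algebra.TensorProduct.comm A (A' ⧸ J) D z) = Algebra.TensorProduct.comm A (A' ⧸ J) S (g z) := fun z => by
      induction z using TensorProduct.induction_on with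
      | zero => simp
      | add x y hx hy => simp only [map_add, hx, hy]
      | tmul r d => rfl
    rw [key, key, hxy]
  let β : A' ⊗[A] D →ₐ[A] (A' ⧸ J) ⊗[A] D :=
    Algebra.TensorProduct.map (Ideal.Quotient.mkₐ A J) (AlgHom.id A D)
  have hβs : Function.Surjective β :=
    TensorProduct.map_surjective Ideal.Quotient.mk_surjective Function.surjective_id
  have hkerβ : RingHom.ker β = J.map (Algebra.TensorProduct.includeLeft : A' →ₐ[A] A' ⊗[A] D) := by
    show RingHom.ker (Algebra.TensorProduct.map (Ideal.Quotient.mkₐ A J) (AlgHom.id A D)) = _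
    rw [Algebra.TensorProduct.rTensor_ker (R := A) _ Ideal.Quotient.mk_surjective]
    congr 1
    exact Ideal.mk_ker
  haveI : IsArtinianRing ((A' ⧸ J) ⊗[A] D) := by
    let cm := Algebra.TensorProduct.comm A D (A' ⧸ J)
    haveI : Module.Finite A (A' ⧸ J) := Module.Finite.of_surjective (Ideal.Quotient.mkₐ A J).toLinearMap Ideal.Quotient.mk_surjective
    let κ := D ⧸ maximalIdeal D
    letI : Field κ := Ideal.Quotient.field _
    let f : D →+* (A' ⧸ J) ⊗[A] D := (Algebra.TensorProduct.includeRight : D →ₐ[A] (A' ⧸ J) ⊗[A] D).toRingHom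
    have hf : ∀ d ∈ maximalIdeal D, f d = 0 := fun d hd => by
      have h1 : (Algebra.TensorProduct.includeRight : D →ₐ[A] A' ⊗[A] D) d ∈ RingHom.ker β :=
        hkerβ ▸ hmI (Ideal.mem_map_of_mem _ hd)
      have h2 : β ((1 : A') ⊗ₜ[A] d) = 0 := h1
      rw [Algebra.TensorProduct.map_tmul, map_one] at h2
      exact h2
    let f' : κ →+* (A' ⧸ J) ⊗[A] D := Ideal.Quotient.lift _ f hf
    have hfin : f'.Finite := by
      refine RingHom.Finite.of_comp_finite (f := Ideal.Quotient.mk (maximalIdeal D)) ?_
      have h3 : (cm.toAlgHom.toRingHom.comp (algebraMap D (D ⊗[A] (A' ⧸ J)))).Finite :=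
        (RingHom.Finite.of_surjective cm.toAlgHom.toRingHom cm.surjective).comp
          (RingHom.finite_algebraMap.mpr inferInstance)
      convert h3 using 1
      exact RingHom.ext fun d => rfl
    letI := f'.toAlgebra
    haveI : Module.Finite κ ((A' ⧸ J) ⊗[A] D) := hfin
    exact IsArtinianRing.of_finite κ ((A' ⧸ J) ⊗[A] D)
  have hle : ∀ N : Ideal (A' ⊗[A] D), N.IsMaximal →
      J.map (Algebra.TensorProduct.includeLeft : A' →ₐ[A] A' ⊗[A] D) ≤ N := fun N hN => by
    let e : D ⊗[A] A' ≃ₐ[A] A' ⊗[A] D := Algebra.TensorProduct.comm A D A'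
    haveI : (N.comap e.toRingEquiv.toRingHom).IsMaximal :=
      Ideal.comap_isMaximal_of_surjective _ e.toRingEquiv.surjective
    haveI hD0 : ((N.comap e.toRingEquiv.toRingHom).comap (algebraMap D (D ⊗[A] A'))).IsMaximal :=
      Ideal.isMaximal_comap_of_isIntegral_of_isMaximal _
    rw [Ideal.map_le_iff_le_comap]
    haveI : (N.comap (Algebra.TensorProduct.includeLeft : A' →ₐ[A] A' ⊗[A] D)).IsPrime := Ideal.IsPrime.comap _
    refine sInf_le ⟨bot_le, Ideal.isMaximal_of_isIntegral_of_isMaximal_comap (R := A) _ ?_⟩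
    have h : ((N.comap (Algebra.TensorProduct.includeLeft : A' →ₐ[A] A' ⊗[A] D)).comap (algebraMap A A')) =
        ((N.comap e.toRingEquiv.toRingHom).comap (algebraMap D (D ⊗[A] A'))).comap (algebraMap A D) := by
      ext a
      show algebraMap A A' a ⊗ₜ[A] (1 : D) ∈ N ↔ (1 : A') ⊗ₜ[A] algebraMap A D a ∈ N
      rw [Algebra.algebraMap_eq_smul_one, Algebra.algebraMap_eq_smul_one, smul_tmul]
    rw [h, IsLocalRing.eq_maximalIdeal hD0,
      ((IsLocalRing.local_hom_TFAE (algebraMap A D)).out 0 4 rfl rfl).mp inferInstance]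
    exact maximalIdeal.isMaximal A
  have hjac : Ideal.jacobson (⊥ : Ideal (A' ⊗[A] D)) =
      J.map (Algebra.TensorProduct.includeLeft : A' →ₐ[A] A' ⊗[A] D) := by
    refine le_antisymm (fun z hz => ?_) (le_sInf fun N hN => hle N hN.2)
    rw [← hkerβ, RingHom.mem_ker]
    have h2 : β z ∈ Ideal.jacobson (R := (A' ⧸ J) ⊗[A] D) ⊥ := Ideal.mem_jacobson_bot.mpr fun w => by
      obtain ⟨w, rfl⟩ := hβs w
      simpa only [map_add, map_mul, map_one] using (Ideal.mem_jacobson_bot.mp hz w).map β
    rw [IsArtinianRing.jacobson_eq_radical,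
      show (⊥ : Ideal ((A' ⧸ J) ⊗[A] D)).radical = ⊥ from nilradical_eq_zero _] at h2
    exact h2
  refine ⟨hjac, ?_, hmI⟩
  refine Set.Finite.of_injOn (f := fun N => Ideal.map β.toRingHom N) (t := {I : Ideal ((A' ⧸ J) ⊗[A] D) | I.IsPrime})
    (fun N hN => ?_) (fun N hN N' hN' h => ?_) (IsArtinianRing.setOfPred_isPrime_finite _)
  · haveI : N.IsMaximal := hN
    exact Ideal.map_isPrime_of_surjective hβs (hkerβ.le.trans (hle N hN))
  · have := congrArg (Ideal.comap β.toRingHom) h
    simp only [Ideal.comap_map_of_surjective _ (show Function.Surjective β.toRingHom from hβs),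
      ← RingHom.ker_eq_comap_bot] at this
    rwa [sup_eq_left.mpr (show RingHom.ker β.toRingHom ≤ N from hkerβ.le.trans (hle N hN)),
      sup_eq_left.mpr (show RingHom.ker β.toRingHom ≤ N' from hkerβ.le.trans (hle N' hN'))] at this

theorem ker_mk_jac_comp {A T D' : Type*} [CommRing A] [CommRing T] [CommRing D'] [Algebra A T] [Algebra A D']
    (P : T →ₐ[A] D') (hP : Function.Bijective P) :
    RingHom.ker ((Ideal.Quotient.mkₐ A (Ideal.jacobson (⊥ : Ideal D'))).comp P) = Ideal.jacobson (⊥ : Ideal T) := by
  ext z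
  rw [RingHom.mem_ker, AlgHom.comp_apply, Ideal.Quotient.mkₐ_eq_mk, Ideal.Quotient.eq_zero_iff_mem,
    Ideal.mem_jacobson_bot, Ideal.mem_jacobson_bot]
  refine ⟨fun h y => (isUnit_map_iff (RingEquiv.ofBijective P hP) _).mp ?_, fun h y => ?_⟩
  · simpa only [RingEquiv.ofBijective_apply, map_add, map_mul, map_one] using h (P y)
  · obtain ⟨y, rfl⟩ := hP.2 y
    simpa only [map_add, map_mul, map_one] using (h y).map P


theorem semilocal_of_bijective (A A' D D' S : Type u) [CommRing A] [IsLocalRing A] [CommRing A'] [Algebra A A']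
    [Module.Finite A A'] [CommRing D] [IsLocalRing D] [Algebra A D] [IsLocalHom (algebraMap A D)]
    [CommRing D'] [Algebra A D'] [CommRing S] [Algebra A S] [Algebra D S] [IsScalarTower A D S]
    [Algebra.WeaklyEtale A S] [Module.FaithfullyFlat D S]
    (hmD : (maximalIdeal A).map (algebraMap A D) = maximalIdeal D)
    (P : A' ⊗[A] D →ₐ[A] D') (hP : Function.Bijective P) :
    {N : Ideal D' | N.IsMaximal}.Finite ∧
      Function.Surjective ((Ideal.Quotient.mkₐ A (Ideal.jacobson (⊥ : Ideal D'))).comp P) ∧
      RingHom.ker ((Ideal.Quotient.mkₐ A (Ideal.jacobson (⊥ : Ideal D'))).comp P) =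
        (Ideal.jacobson (⊥ : Ideal A')).map
            (Algebra.TensorProduct.includeLeft : A' →ₐ[A] A' ⊗[A] D) ⊔
          (maximalIdeal D).map
            (Algebra.TensorProduct.includeRight : D →ₐ[A] A' ⊗[A] D) := by
  obtain ⟨hjac, hfin, hmI⟩ := tensor_semilocal_flat A A' D S hmD
  refine ⟨?_, Ideal.Quotient.mk_surjective.comp hP.2,
    ((ker_mk_jac_comp P hP).trans hjac).trans (sup_eq_left.mpr hmI).symm⟩
  refine Set.Finite.of_injOn (f := fun N => N.comap P.toRingHom) (fun N hN => ?_) (fun N _ N' _ h => ?_) hfin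
  · haveI : N.IsMaximal := hN
    exact Ideal.comap_isMaximal_of_surjective P.toRingHom hP.2
  · exact Ideal.comap_injective_of_surjective P.toRingHom hP.2 h

set_option maxHeartbeats 2000000 in
set_option synthInstance.maxHeartbeats 100000 in
/-- The residues of the normalisation of an intermediate local ring `D` over which the strict
henselization is flat. -/
theorem normalization_condition {A S : Type u} [CommRing A] [IsLocalRing A] [IsReduced A]
    (hA : EGA4.IsExcellent A) [CommRing S] [IsLocalRing S] [Algebra A S] [IsLocalHom (algebraMap A S)]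
    [Hensel.IsStrictHenselization A S] (D : Subalgebra A S) [IsLocalRing D] [IsLocalHom (algebraMap D S)]
    [Module.Flat D S] (A' D' : Subalgebra A (FractionRing S))
    (hA' : ∀ x : (FractionRing S), x ∈ A' ↔ (IsIntegral A x ∧
      ∃ a ∈ nonZeroDivisors A, ∃ b : A, algebraMap A (FractionRing S) a * x = algebraMap A (FractionRing S) b))
    (hD' : ∀ x : (FractionRing S), x ∈ D' ↔ (IsIntegral D x ∧
      ∃ a ∈ nonZeroDivisors A, ∃ d ∈ D, algebraMap A (FractionRing S) a * x = algebraMap S (FractionRing S) d))
    (hle : A' ≤ D') (ι : D →ₐ[A] D') (hι : ∀ d : D, (ι d : (FractionRing S)) = algebraMap S (FractionRing S) d) :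
    {N : Ideal D' | N.IsMaximal}.Finite ∧
      Function.Surjective ((Ideal.Quotient.mkₐ A (Ideal.jacobson (⊥ : Ideal D'))).comp
        (Algebra.TensorProduct.productMap (Subalgebra.inclusion hle) ι)) ∧
      RingHom.ker ((Ideal.Quotient.mkₐ A (Ideal.jacobson (⊥ : Ideal D'))).comp
        (Algebra.TensorProduct.productMap (Subalgebra.inclusion hle) ι)) =
        (Ideal.jacobson (⊥ : Ideal A')).map
            (Algebra.TensorProduct.includeLeft : A' →ₐ[A] A' ⊗[A] D) ⊔
          (maximalIdeal D).map
            (Algebra.TensorProduct.includeRight : D →ₐ[A] A' ⊗[A] D) := by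
  classical
  haveI : IsNoetherianRing A := hA.1
  haveI : Algebra.WeaklyEtale A S := weaklyEtale
  haveI : Module.Flat A S := Algebra.WeaklyEtale.flat
  haveI : Module.FaithfullyFlat A S := Module.FaithfullyFlat.of_flat_of_isLocalHom
  haveI : Module.FaithfullyFlat D S := Module.FaithfullyFlat.of_flat_of_isLocalHom
  have hinjA : Function.Injective (algebraMap A S) := FaithfulSMul.algebraMap_injective A S
  haveI : IsLocalHom (algebraMap A D) :=
    ⟨fun a ha => isUnit_of_map_unit (algebraMap A S) a (ha.map D.val)⟩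
  have hmD : (maximalIdeal A).map (algebraMap A D) = maximalIdeal D := by
    rw [← Ideal.comap_map_eq_self_of_faithfullyFlat (B := S) ((maximalIdeal A).map (algebraMap A D)),
      Ideal.map_map, ← IsScalarTower.algebraMap_eq, Hensel.map_maximalIdeal_of_isStrictHenselization]
    exact ((IsLocalRing.local_hom_TFAE (algebraMap D S)).out 0 4 rfl rfl).mp inferInstance
  let K := FractionRing A
  haveI : Module.Finite A A' := by
    haveI : Module.Finite A (integralClosure A K) := by
      obtain ⟨-, hN2⟩ := CompleteNagata.isNagata_of_isQuasiExcellent A ⟨hA.1, hA.2.2.1, hA.2.2.2⟩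
      exact RedNorm.finite_norm A fun p => hN2 p.1 (FractionRing (A ⧸ p.1)) inferInstance
    let jA : integralClosure A K →ₐ[A] A' :=
      AlgHom.codRestrict ((fracMap A S).comp (integralClosure A K).val) A' fun x => (hA' _).mpr
        ⟨x.2.map (fracMap A S), by
          obtain ⟨⟨r, a⟩, h⟩ := IsLocalization.surj A⁰ (x : K)
          refine ⟨a, a.2, r, ?_⟩
          have h1 := congrArg (fracMap A S) h
          rw [map_mul, AlgHom.commutes, AlgHom.commutes, mul_comm] at h1
          exact h1⟩
    refine Module.Finite.of_surjective jA.toLinearMap fun a => ?_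
    obtain ⟨hai, c, hc, b, hab⟩ := (hA' _).mp a.2
    let k : K := IsLocalization.mk' K b (⟨c, hc⟩ : A⁰)
    have hfi : Function.Injective (fracMap A S) := by
      refine (injective_iff_map_eq_zero _).mpr fun k hk => ?_
      obtain ⟨⟨r, a⟩, h⟩ := IsLocalization.surj A⁰ k
      have h1 := congrArg (fracMap A S) h
      rw [map_mul, hk, zero_mul, AlgHom.commutes, IsScalarTower.algebraMap_apply A S (FractionRing S)] at h1
      have hr : r = 0 := (map_eq_zero_iff _ hinjA).mp
        ((map_eq_zero_iff _ (IsFractionRing.injective S (FractionRing S))).mp h1.symm)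
      rw [hr, map_zero] at h
      exact (IsLocalization.map_units K a).mul_left_eq_zero.mp h
    have hk : fracMap A S k = (a : FractionRing S) := by
      refine (isUnit_algebraMap_frac (S := S) ⟨c, hc⟩).mul_left_cancel ?_
      rw [hab, ← (fracMap A S).commutes, ← map_mul, mul_comm (algebraMap A _ _), IsLocalization.mk'_spec]
      exact (fracMap A S).commutes b
    exact ⟨⟨k, (isIntegral_algHom_iff (fracMap A S) hfi).mp (hk ▸ hai)⟩, Subtype.ext hk⟩
  -- the product map is bijective
  let νS : A' ⊗[A] S →ₐ[A] FractionRing S :=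
    Algebra.TensorProduct.productMap A'.val (IsScalarTower.toAlgHom A S (FractionRing S))
  have hden : ∀ z : A' ⊗[A] S, ∃ a ∈ A⁰, ∃ s : S, a • z = (1 : A') ⊗ₜ[A] s := by
    intro z
    induction z using TensorProduct.induction_on with
    | zero => exact ⟨1, one_mem _, 0, by rw [smul_zero, tmul_zero]⟩
    | tmul x t =>
      obtain ⟨-, c, hc, b, hb⟩ := (hA' _).mp x.2
      refine ⟨c, hc, b • t, ?_⟩
      rw [smul_tmul', show c • x = algebraMap A A' b from Subtype.ext (by
        show c • (x : FractionRing S) = _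
        rw [Algebra.smul_def, hb]; rfl), Algebra.algebraMap_eq_smul_one, smul_tmul]
    | add x y hx hy =>
      obtain ⟨a, ha, t, hx⟩ := hx
      obtain ⟨b, hb, t', hy⟩ := hy
      refine ⟨a * b, mul_mem ha hb, b • t + a • t', ?_⟩
      rw [tmul_add, tmul_smul, tmul_smul, ← hx, ← hy, smul_add, smul_smul, smul_smul, mul_comm b a]
  have hreg : ∀ a ∈ A⁰, ∀ z : A' ⊗[A] S, a • z = 0 → z = 0 := fun a ha z hz => by
    have h := Module.Flat.rTensor_preserves_injective_linearMap (M := S) (a • (LinearMap.id : A' →ₗ[A] A'))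
      (fun x y hxy => Subtype.ext ((isUnit_algebraMap_frac (S := S) ⟨a, ha⟩).mul_left_cancel (by
        have h1 : a • (x : FractionRing S) = a • (y : FractionRing S) := congrArg Subtype.val hxy
        rwa [Algebra.smul_def, Algebra.smul_def] at h1)))
    refine h ?_
    rw [map_zero]
    refine Eq.trans ?_ hz
    clear hz
    induction z using TensorProduct.induction_on with
    | zero => rw [map_zero, smul_zero]
    | add x y hx hy => rw [map_add, smul_add, hx, hy]
    | tmul x t => rfl
  have hνS : Function.Injective νS := by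
    refine (injective_iff_map_eq_zero _).mpr fun z hz => ?_
    obtain ⟨a, ha, t, hat⟩ := hden z
    have h1 := congrArg νS hat
    rw [map_smul, hz, smul_zero, Algebra.TensorProduct.productMap_apply_tmul, map_one, one_mul] at h1
    have ht : t = 0 := (map_eq_zero_iff _ (IsFractionRing.injective S (FractionRing S))).mp h1.symm
    exact hreg a ha z (by rw [hat, ht, tmul_zero])
  let P := Algebra.TensorProduct.productMap (Subalgebra.inclusion hle) ι
  let m : A' ⊗[A] D →ₐ[A] A' ⊗[A] S :=
    Algebra.TensorProduct.map (AlgHom.id A A') (IsScalarTower.toAlgHom A D S)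
  have hPm : ∀ z, (P z : FractionRing S) = νS (m z) := fun z => by
    show (D'.val.comp P) z = (νS.comp m) z
    congr 1
    exact Algebra.TensorProduct.ext' fun x d => by
      show (x : FractionRing S) * (ι d : FractionRing S) = (x : FractionRing S) * algebraMap S (FractionRing S) (d : S)
      rw [hι]
  have hm : Function.Injective m := fun x y hxy => (Algebra.TensorProduct.comm A A' D).injective
    (injective_tensor_map A D S A' (by
      have key : ∀ z, (IsScalarTower.toAlgHom A D S).toLinearMap.rTensor A'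
          (Algebra.TensorProduct.comm A A' D z) = Algebra.TensorProduct.comm A A' S (m z) := fun z => by
        induction z using TensorProduct.induction_on with
        | zero => simp
        | add x y hx hy => simp only [map_add, hx, hy]
        | tmul r d => rfl
      rw [key, key, hxy]))
  have hP : Function.Bijective P := by
    refine ⟨fun x y h => hm (hνS (by rw [← hPm, ← hPm, h])), fun x => ?_⟩
    obtain ⟨⟨p, hp, hp0⟩, a, ha, d, hd, hxa⟩ := (hD' _).mp x.2
    obtain ⟨E', hE's, _, _, hE'⟩ := exists_subalgebra_ge (A := A) (S := S)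
      (insert d (p.support.image fun i => ((p.coeff i : D) : S)))
    rw [Finset.coe_insert, Set.insert_subset_iff] at hE's
    have hl : p.map D.val.toRingHom ∈ Polynomial.lifts E'.val.toRingHom :=
      (Polynomial.lifts_iff_coeff_lifts _).mpr fun i => by
        rw [Polynomial.coeff_map]
        by_cases hi : i ∈ p.support
        · exact ⟨⟨_, hE's.2 (Finset.mem_coe.mpr (Finset.mem_image_of_mem _ hi))⟩, rfl⟩
        · rw [Polynomial.notMem_support_iff.mp hi, map_zero]; exact ⟨0, map_zero _⟩
    obtain ⟨p', hp', -, hp'm⟩ := Polynomial.lifts_and_degree_eq_and_monic hl (hp.map _)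
    have hxi : IsIntegral E' (x : FractionRing S) := by
      refine ⟨p', hp'm, ?_⟩
      rw [show algebraMap E' (FractionRing S) = (algebraMap S (FractionRing S)).comp E'.val.toRingHom from rfl,
        ← Polynomial.eval₂_map, hp', Polynomial.eval₂_map]
      exact hp0
    obtain ⟨y, hy⟩ := exists_toFrac_eq E' hE' _ hxi ⟨a, ha, d, hE's.1, hxa⟩
    obtain ⟨w, hw⟩ : ∃ w, νS w = (x : FractionRing S) := by
      rw [← hy]
      show _ ∈ νS.range
      clear hy
      induction y using TensorProduct.induction_on with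
      | zero => rw [map_zero, map_zero]; exact zero_mem _
      | add u v hu hv => rw [map_add, map_add]; exact add_mem hu hv
      | tmul e k =>
        have hk : fracMap A S (k : K) ∈ A' := (hA' _).mpr ⟨k.2.map (fracMap A S), by
          obtain ⟨⟨r, c⟩, h⟩ := IsLocalization.surj A⁰ (k : K)
          refine ⟨c, c.2, r, ?_⟩
          have h1 := congrArg (fracMap A S) h
          rw [map_mul, AlgHom.commutes, AlgHom.commutes, mul_comm] at h1
          exact h1⟩
        exact ⟨(⟨_, hk⟩ : A') ⊗ₜ (e : S), mul_comm _ _⟩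
    have haw : a • w = m ((1 : A') ⊗ₜ[A] (⟨d, hd⟩ : D)) := hνS (by
      rw [map_smul, hw, Algebra.smul_def, hxa]
      show _ = ((1 : A') : FractionRing S) * algebraMap S (FractionRing S) d
      rw [OneMemClass.coe_one, one_mul])
    -- descend along `D → S`
    let f : A' →ₗ[A] A' := a • LinearMap.id
    let g : A' →ₗ[A] A' ⧸ LinearMap.range f := (LinearMap.range f).mkQ
    have hgf : ∀ z : A', g (a • z) = 0 := fun z =>
      (Submodule.Quotient.mk_eq_zero (LinearMap.range f)).mpr ⟨z, rfl⟩
    have h0 : g.lTensor D ((⟨d, hd⟩ : D) ⊗ₜ[A] (1 : A')) = 0 := by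
      refine injective_tensor_map A D S _ ?_
      rw [map_zero]
      have h1 := congrArg (fun z => g.lTensor S (TensorProduct.comm A A' S z)) haw
      have h2 : g.lTensor S (TensorProduct.comm A A' S (a • w)) = 0 := by
        clear haw hw h1
        induction w using TensorProduct.induction_on with
        | zero => simp
        | add u v hu hv => rw [smul_add, map_add, map_add, hu, hv, add_zero]
        | tmul z t =>
          rw [smul_tmul', TensorProduct.comm_tmul, LinearMap.lTensor_tmul, hgf, tmul_zero]
      simp only [h2] at h1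
      exact h1.symm
    obtain ⟨w₀, hw₀⟩ := (lTensor_exact D (LinearMap.exact_map_mkQ_range f)
      (Submodule.mkQ_surjective _) _).mp h0
    refine ⟨Algebra.TensorProduct.comm A D A' w₀, Subtype.ext ((isUnit_algebraMap_frac (S := S) ⟨a, ha⟩).mul_left_cancel ?_)⟩
    show algebraMap A (FractionRing S) a * _ = algebraMap A (FractionRing S) a * _
    rw [hxa, ← Algebra.smul_def, ← Subalgebra.coe_smul, ← map_smul P]
    have h3 : a • Algebra.TensorProduct.comm A D A' w₀ = (1 : A') ⊗ₜ[A] (⟨d, hd⟩ : D) := by
      have h4 := congrArg (Algebra.TensorProduct.comm A D A') hw₀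
      rw [Algebra.TensorProduct.comm_tmul] at h4
      rw [← h4]
      clear h4 hw₀
      induction w₀ using TensorProduct.induction_on with
      | zero => simp
      | add u v hu hv => simp only [map_add, smul_add, hu, hv]
      | tmul z t => exact smul_tmul' a t z
    rw [h3]
    show ((Subalgebra.inclusion hle 1 * ι ⟨d, hd⟩ : D') : FractionRing S) = _
    rw [map_one, one_mul, hι]
  exact semilocal_of_bijective A A' D D' S hmD P hP

end Groth.Agent.H1EssEt
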