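import Groth.Agent.H1EssEt.NormBase
import Mathlib

/-!
# A killer of the diagonal from the residues of the normalisation
-/

set_option autoImplicit false
universe u
open TensorProduct nonZeroDivisors IsLocalRing

namespace Groth.Agent.H1EssEt

variable {A S : Type u} [CommRing A] [IsLocalRing A] [CommRing S] [Algebra A S]
  [IsReduced (FractionRing S)] [IsArtinianRing (FractionRing A)]

set_option maxHeartbeats 4000000 in
set_option synthInstance.maxHeartbeats 100000 in
/-- If the residues of the normalisation of `D` are generated by those of the normalisation of `A`, the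
kernel of `E ⊗ D → E` is killed by an element mapping to a unit. -/
theorem exists_killer [Module.Flat A S] (hinjA : Function.Injective (algebraMap A S))
    (D E : Subalgebra A S) (hle : D ≤ E) [IsLocalRing D] [IsLocalRing E] [Module.Flat A E]
    (hE : EGA4loc.IsEssentiallyEtale A E)
    (hloc : IsLocalHom (Subalgebra.inclusion hle).toRingHom)
    (A' D' : Subalgebra A (FractionRing S))
    (hA' : ∀ x : (FractionRing S), x ∈ A' ↔ (IsIntegral A x ∧
      ∃ a ∈ nonZeroDivisors A, ∃ b : A, algebraMap A (FractionRing S) a * x = algebraMap A (FractionRing S) b))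
    (hD' : ∀ x : (FractionRing S), x ∈ D' ↔ (IsIntegral D x ∧
      ∃ a ∈ nonZeroDivisors A, ∃ d ∈ D, algebraMap A (FractionRing S) a * x = algebraMap S (FractionRing S) d))
    (hA'D' : A' ≤ D') (ι : D →ₐ[A] D') (hι : ∀ d : D, (ι d : (FractionRing S)) = algebraMap S (FractionRing S) d)
    (hsurj : Function.Surjective ((Ideal.Quotient.mkₐ A (Ideal.jacobson (⊥ : Ideal D'))).comp
      (Algebra.TensorProduct.productMap (Subalgebra.inclusion hA'D') ι))) :
    ∃ σ : D ⊗[A] E, IsUnit (Algebra.TensorProduct.productMap (Subalgebra.inclusion hle) (AlgHom.id A E) σ) ∧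
      ∀ z, Algebra.TensorProduct.productMap (Subalgebra.inclusion hle) (AlgHom.id A E) z = 0 → σ * z = 0 := by
  classical
  let K := FractionRing A
  letI : Algebra K (FractionRing S) := (fracMap A S).toRingHom.toAlgebra
  haveI : IsScalarTower A K (FractionRing S) :=
    IsScalarTower.of_algebraMap_eq fun a => ((fracMap A S).commutes a).symm
  have hfi : Function.Injective (fracMap A S) := by
    refine (injective_iff_map_eq_zero _).mpr fun k hk => ?_
    obtain ⟨⟨r, a⟩, h⟩ := IsLocalization.surj A⁰ k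
    have h1 := congrArg (fracMap A S) h
    rw [map_mul, hk, zero_mul, AlgHom.commutes, IsScalarTower.algebraMap_apply A S (FractionRing S)] at h1
    have hr : r = 0 := (map_eq_zero_iff _ hinjA).mp
      ((map_eq_zero_iff _ (IsFractionRing.injective S (FractionRing S))).mp h1.symm)
    rw [hr, map_zero] at h
    exact (IsLocalization.map_units K a).mul_left_eq_zero.mp h
  -- the fractions of `D`
  let L : Subalgebra K (FractionRing S) :=
    { carrier := {x | ∃ a ∈ A⁰, ∃ d ∈ D, algebraMap A (FractionRing S) a * x = algebraMap S (FractionRing S) d}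
      mul_mem' := fun {x y} ⟨a, ha, d, hd, hx⟩ ⟨b, hb, e, he, hy⟩ => ⟨a * b, mul_mem ha hb, d * e, mul_mem hd he, by
        rw [map_mul, map_mul, ← hx, ← hy]; ring⟩
      add_mem' := fun {x y} ⟨a, ha, d, hd, hx⟩ ⟨b, hb, e, he, hy⟩ => ⟨a * b, mul_mem ha hb,
        algebraMap A S b * d + algebraMap A S a * e,
        add_mem (mul_mem (D.algebraMap_mem b) hd) (mul_mem (D.algebraMap_mem a) he), by
        rw [map_mul, map_add, map_mul, map_mul, ← hx, ← hy, ← IsScalarTower.algebraMap_apply,
          ← IsScalarTower.algebraMap_apply]; ring⟩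
      algebraMap_mem' := fun k => by
        obtain ⟨⟨r, a⟩, h⟩ := IsLocalization.surj A⁰ k
        refine ⟨a, a.2, algebraMap A S r, D.algebraMap_mem r, ?_⟩
        have h1 := congrArg (fracMap A S) h
        rw [map_mul, AlgHom.commutes, AlgHom.commutes] at h1
        rw [← IsScalarTower.algebraMap_apply, mul_comm]
        exact h1 }
  haveI : Module.Finite K (K ⊗[A] E) := finite_tensor hE K
  let g : K ⊗[A] E →ₐ[K] FractionRing S :=
    Algebra.TensorProduct.lift (Algebra.ofId K (FractionRing S))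
      ((IsScalarTower.toAlgHom A S (FractionRing S)).comp E.val) fun _ _ => Commute.all _ _
  haveI : Module.Finite K L := by
    haveI : Module.Finite K (LinearMap.range g.toLinearMap) := Module.Finite.range _
    haveI : IsNoetherian K (LinearMap.range g.toLinearMap) := isNoetherian_of_isNoetherianRing_of_finite K _
    have hle' : Subalgebra.toSubmodule L ≤ LinearMap.range g.toLinearMap := by
      rintro x ⟨a, ha, d, hd, hx⟩
      refine ⟨IsLocalization.mk' K 1 (⟨a, ha⟩ : A⁰) ⊗ₜ ⟨d, hle hd⟩, ?_⟩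
      refine (isUnit_algebraMap_frac (S := S) ⟨a, ha⟩).mul_left_cancel ?_
      show algebraMap A (FractionRing S) a * (fracMap A S _ * algebraMap S (FractionRing S) d) = _
      rw [hx, ← mul_assoc, ← (fracMap A S).commutes, ← map_mul, mul_comm (algebraMap A _ _),
        IsLocalization.mk'_spec, map_one, map_one, one_mul]
    exact Module.Finite.of_injective (Submodule.inclusion hle') (Submodule.inclusion_injective _)
  haveI : IsArtinianRing L := IsArtinianRing.of_finite K L
  haveI : IsReduced L := isReduced_of_injective L.val.toRingHom Subtype.val_injective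
  haveI : IsReduced (L ⊗[A] E) := isReduced_tensor hE L
  haveI : Module.Finite L (L ⊗[A] E) := finite_tensor hE L
  haveI : IsArtinianRing (L ⊗[A] E) := IsArtinianRing.of_finite L (L ⊗[A] E)
  let cm := Algebra.TensorProduct.comm A L E
  haveI : IsArtinianRing (E ⊗[A] L) := RingEquiv.isArtinianRing cm.toRingEquiv
  haveI : IsReduced (E ⊗[A] L) := isReduced_of_injective cm.symm.toRingHom cm.symm.injective
  let νT : E ⊗[A] L →ₐ[E] FractionRing S :=
    Algebra.TensorProduct.lift (Algebra.ofId E (FractionRing S)) (L.val.restrictScalars A) fun _ _ => Commute.all _ _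
  obtain ⟨ε, hε, hker⟩ := exists_idempotent (RingHom.ker νT.toRingHom)
  have hεi : IsIntegral E (1 - ε) := by
    refine IsIntegral.sub isIntegral_one ⟨Polynomial.X ^ 2 - Polynomial.X, Polynomial.monic_X_pow_sub (by
      rw [Polynomial.degree_X]; norm_num), ?_⟩
    simp [pow_two, hε.eq]
  obtain ⟨y, hy⟩ := (bijective_toIntegralClosure hE L).2 ⟨1 - ε, hεi⟩
  have hy' : Algebra.TensorProduct.map (AlgHom.id E E) (integralClosure A L).val y = 1 - ε :=
    congrArg Subtype.val hy
  let jD : integralClosure A L →ₐ[A] D' :=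
    AlgHom.codRestrict ((L.val.restrictScalars A).comp (integralClosure A L).val) D' fun x =>
      (hD' _).mpr ⟨(x.2.map (L.val.restrictScalars A)).tower_top, (x : L).2⟩
  let jT : D' →ₐ[A] L := AlgHom.codRestrict D'.val (L.restrictScalars A) fun x => ((hD' _).mp x.2).2
  let incl : E ⊗[A] D' →ₐ[E] E ⊗[A] L := Algebra.TensorProduct.map (AlgHom.id E E) jT
  have hincl : Function.Injective incl :=
    Module.Flat.lTensor_preserves_injective_linearMap (M := E) jT.toLinearMap
      fun a b h => Subtype.ext (congrArg Subtype.val h : _)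
  let σ' : E ⊗[A] D' := Algebra.TensorProduct.map (AlgHom.id E E) jD y
  have hσ' : incl σ' = 1 - ε := by
    rw [← hy']
    show (incl.comp (Algebra.TensorProduct.map (AlgHom.id E E) jD)) y = _
    congr 1
    exact Algebra.TensorProduct.ext' fun e x => rfl
  let ιT : E ⊗[A] D →ₐ[E] E ⊗[A] D' := Algebra.TensorProduct.map (AlgHom.id E E) ι
  have hιinj : Function.Injective ιT :=
    Module.Flat.lTensor_preserves_injective_linearMap (M := E) ι.toLinearMap fun a b h => Subtype.ext
      (IsFractionRing.injective S (FractionRing S) ((hι a).symm.trans ((congrArg Subtype.val h).trans (hι b))))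
  let μ : E ⊗[A] D →ₐ[E] E :=
    Algebra.TensorProduct.lift (AlgHom.id E E) (Subalgebra.inclusion hle) fun _ _ => Commute.all _ _
  let ν : E ⊗[A] D' →ₐ[E] FractionRing S :=
    Algebra.TensorProduct.lift (Algebra.ofId E (FractionRing S)) D'.val fun _ _ => Commute.all _ _
  have hνincl : ∀ w, νT (incl w) = ν w := fun w => by
    show (νT.comp incl) w = ν w
    congr 1
    exact Algebra.TensorProduct.ext' fun e x => rfl
  have hνι : ∀ z, ν (ιT z) = algebraMap E (FractionRing S) (μ z) := fun z => by
    induction z using TensorProduct.induction_on with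
    | zero => simp
    | add x y hx hy => simp only [map_add, hx, hy]
    | tmul e d =>
      show algebraMap E (FractionRing S) e * (ι d : FractionRing S) = algebraMap E (FractionRing S) (e * Subalgebra.inclusion hle d)
      rw [map_mul, hι]
      rfl
  let q : Ideal (E ⊗[A] D) := (maximalIdeal E).comap μ
  let 𝔟 : Ideal (E ⊗[A] D') :=
    { carrier := {s | ∀ z, μ z = 0 → s * ιT z = 0}
      zero_mem' := fun z _ => zero_mul _
      add_mem' := fun {s t} hs ht z hz => by rw [add_mul, hs z hz, ht z hz, add_zero]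
      smul_mem' := fun c s hs z hz => by rw [smul_eq_mul, mul_assoc, hs z hz, mul_zero] }
  have hσb : σ' ∈ 𝔟 := fun z hz => hincl (by
    have hk : incl (ιT z) ∈ RingHom.ker νT.toRingHom := RingHom.mem_ker.mpr (by
      show νT (incl (ιT z)) = 0
      rw [hνincl, hνι, hz, map_zero])
    obtain ⟨c, hc⟩ := Ideal.mem_span_singleton'.mp (hker ▸ hk)
    rw [map_mul, map_zero, hσ', ← hc]
    linear_combination -c * hε.eq)
  suffices h : ∃ s : E ⊗[A] D, IsUnit (μ s) ∧ ∀ z, μ z = 0 → s * z = 0 by
    obtain ⟨s, hs, hsz⟩ := h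
    let c := Algebra.TensorProduct.comm A E D
    have hc : ∀ z, Algebra.TensorProduct.productMap (Subalgebra.inclusion hle) (AlgHom.id A E) (c z) = μ z := by
      intro z
      induction z using TensorProduct.induction_on with
      | zero => simp
      | add x y hx hy => simp only [map_add, hx, hy]
      | tmul e d => exact mul_comm _ _
    refine ⟨c s, by rw [hc]; exact hs, fun z hz => ?_⟩
    obtain ⟨z, rfl⟩ := c.surjective z
    rw [← map_mul, hsz z (hc z ▸ hz), map_zero]
  by_contra! hno
  letI : Algebra D D' := ι.toRingHom.toAlgebra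
  haveI : IsScalarTower D D' (FractionRing S) := IsScalarTower.of_algebraMap_eq fun d => (hι d).symm
  haveI : Algebra.IsIntegral D D' := ⟨fun x =>
    (isIntegral_algHom_iff (IsScalarTower.toAlgHom D D' (FractionRing S)) Subtype.val_injective).mp ((hD' _).mp x.2).1⟩
  letI : Algebra (E ⊗[A] D) (E ⊗[A] D') := ιT.toRingHom.toAlgebra
  haveI : Algebra.IsIntegral (E ⊗[A] D) (E ⊗[A] D') := ⟨fun w => by
    induction w using TensorProduct.induction_on with
    | zero => exact isIntegral_zero
    | add x y hx hy => exact hx.add hy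
    | tmul e x =>
      rw [show e ⊗ₜ[A] x = algebraMap (E ⊗[A] D) (E ⊗[A] D') (e ⊗ₜ 1) * ((1 : E) ⊗ₜ[A] x) by
        show _ = (e ⊗ₜ[A] ι 1) * _
        rw [map_one, Algebra.TensorProduct.tmul_mul_tmul, mul_one, one_mul]]
      exact isIntegral_algebraMap.mul (IsIntegral.map_of_comp_eq
        (Algebra.TensorProduct.includeRight : D →ₐ[A] E ⊗[A] D).toRingHom
        (Algebra.TensorProduct.includeRight : D' →ₐ[A] E ⊗[A] D').toRingHom
        (RingHom.ext fun d => rfl) (Algebra.IsIntegral.isIntegral x))⟩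
  haveI : q.IsPrime := Ideal.IsPrime.comap _
  obtain ⟨Q, hQb, hQp, hQ⟩ := Ideal.exists_ideal_over_prime_of_isIntegral q 𝔟 fun s hs =>
    Ideal.mem_comap.mpr ((mem_maximalIdeal _).mpr fun hu => by
      obtain ⟨z, hz, hne⟩ := hno s hu
      exact hne (hιinj (by rw [map_mul, map_zero]; exact hs z hz)))
  haveI := hQp
  have hQ' : ∀ s, ιT s ∈ Q ↔ μ s ∈ maximalIdeal E := fun s => SetLike.ext_iff.mp hQ s
  -- retraction to the base change of the normalisation of `A`
  let jA : integralClosure A K →ₐ[A] A' :=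
    AlgHom.codRestrict ((fracMap A S).comp (integralClosure A K).val) A' fun x => (hA' _).mpr
      ⟨x.2.map (fracMap A S), by
        obtain ⟨⟨r, a⟩, h⟩ := IsLocalization.surj A⁰ (x : K)
        refine ⟨a, a.2, r, ?_⟩
        have h1 := congrArg (fracMap A S) h
        rw [map_mul, AlgHom.commutes, AlgHom.commutes, mul_comm] at h1
        exact h1⟩
  let νA : E ⊗[A] integralClosure A K →ₐ[E] FractionRing S :=
    (toFrac E).comp (Algebra.TensorProduct.map (AlgHom.id E E) (integralClosure A K).val)
  have hνA : Function.Injective νA := (toFrac_injective E).comp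
    (Module.Flat.lTensor_preserves_injective_linearMap (M := E) (integralClosure A K).val.toLinearMap Subtype.val_injective)
  letI : Algebra D E := (Subalgebra.inclusion hle).toRingHom.toAlgebra
  haveI : IsScalarTower D E (FractionRing S) := IsScalarTower.of_algebraMap_eq fun _ => rfl
  have hrange : ∀ w, ν w ∈ νA.range := by
    intro w
    have : IsIntegral E (ν w) ∧ ∃ a ∈ A⁰, ∃ e ∈ E,
        algebraMap A (FractionRing S) a * ν w = algebraMap S (FractionRing S) e := by
      induction w using TensorProduct.induction_on with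
      | zero => exact ⟨by rw [map_zero]; exact isIntegral_zero, 1, one_mem _, 0, zero_mem _, by simp⟩
      | add x y hx hy =>
        obtain ⟨hxi, a, ha, e, he, hxa⟩ := hx
        obtain ⟨hyi, b, hb, f, hf, hyb⟩ := hy
        refine ⟨by rw [map_add]; exact hxi.add hyi, a * b, mul_mem ha hb,
          algebraMap A S b * e + algebraMap A S a * f,
          add_mem (mul_mem (E.algebraMap_mem b) he) (mul_mem (E.algebraMap_mem a) hf), ?_⟩
        rw [map_mul, map_add, map_add, map_mul, map_mul, ← hxa, ← hyb, ← IsScalarTower.algebraMap_apply,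
          ← IsScalarTower.algebraMap_apply]
        ring
      | tmul e x =>
        obtain ⟨hxi, a, ha, d, hd, hxa⟩ := (hD' _).mp x.2
        refine ⟨isIntegral_algebraMap.mul hxi.tower_top, a, ha, e * d, mul_mem e.2 (hle hd), ?_⟩
        show _ * (algebraMap E (FractionRing S) e * (x : FractionRing S)) = _
        rw [mul_left_comm, hxa, map_mul]
        rfl
    obtain ⟨hi, ha⟩ := this
    obtain ⟨w', hw'⟩ := exists_toFrac_eq E hE (ν w) hi ha
    exact ⟨w', hw'⟩
  let r : E ⊗[A] D' →ₐ[E] E ⊗[A] integralClosure A K :=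
    (AlgEquiv.ofInjective νA hνA).symm.toAlgHom.comp (ν.codRestrict νA.range hrange)
  have hr : ∀ w, νA (r w) = ν w := fun w =>
    congrArg Subtype.val ((AlgEquiv.ofInjective νA hνA).apply_symm_apply _)
  let Φ : E ⊗[A] integralClosure A K →ₐ[E] E ⊗[A] D' :=
    Algebra.TensorProduct.map (AlgHom.id E E) ((Subalgebra.inclusion hA'D').comp jA)
  let f1 : D' →ₐ[A] (E ⊗[A] D') ⧸ Q :=
    (Ideal.Quotient.mkₐ A Q).comp Algebra.TensorProduct.includeRight
  let g1 : D' →ₐ[A] (E ⊗[A] D') ⧸ Q :=
    (Ideal.Quotient.mkₐ A Q).comp (((Φ.comp r).restrictScalars A).comp Algebra.TensorProduct.includeRight)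
  have hprime : ∀ h : D' →ₐ[A] (E ⊗[A] D') ⧸ Q,
      (∀ d : D, h (ι d) = Ideal.Quotient.mk Q ((Subalgebra.inclusion hle d) ⊗ₜ 1)) →
      Ideal.jacobson (⊥ : Ideal D') ≤ RingHom.ker h.toRingHom := by
    intro h hh
    haveI : (RingHom.ker h.toRingHom).IsPrime := RingHom.ker_isPrime _
    have hcomap : (RingHom.ker h.toRingHom).comap (algebraMap D D') = maximalIdeal D := by
      ext d
      show h (ι d) = 0 ↔ _
      rw [hh, Ideal.Quotient.eq_zero_iff_mem,
        show (Subalgebra.inclusion hle d) ⊗ₜ[A] (1 : D') = ιT ((Subalgebra.inclusion hle d) ⊗ₜ 1) by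
          show _ = _ ⊗ₜ[A] ι 1
          rw [map_one]; rfl, hQ']
      show Subalgebra.inclusion hle d * Subalgebra.inclusion hle 1 ∈ maximalIdeal E ↔ _
      rw [map_one, mul_one, mem_maximalIdeal, mem_maximalIdeal, mem_nonunits_iff, mem_nonunits_iff]
      exact not_congr ⟨fun hu => hloc.map_nonunit d hu, fun hu => hu.map _⟩
    exact sInf_le ⟨bot_le, Ideal.isMaximal_of_isIntegral_of_isMaximal_comap _
      (hcomap ▸ maximalIdeal.isMaximal D)⟩
  have hg1 : ∀ d : D, g1 (ι d) = Ideal.Quotient.mk Q ((Subalgebra.inclusion hle d) ⊗ₜ 1) := fun d => by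
    show Ideal.Quotient.mk Q (Φ (r ((1 : E) ⊗ₜ ι d))) = _
    rw [show r ((1 : E) ⊗ₜ ι d) = (Subalgebra.inclusion hle d) ⊗ₜ 1 from hνA (by
      rw [hr]
      show algebraMap E (FractionRing S) 1 * (ι d : FractionRing S) = toFrac E (_ ⊗ₜ (1 : K))
      rw [toFrac_tmul, map_one, map_one, one_mul, mul_one, hι]
      rfl)]
    show Ideal.Quotient.mk Q (_ ⊗ₜ[A] ((Subalgebra.inclusion hA'D').comp jA) 1) = _
    rw [map_one]
    rfl
  have hf1 : ∀ d : D, f1 (ι d) = Ideal.Quotient.mk Q ((Subalgebra.inclusion hle d) ⊗ₜ 1) := fun d => by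
    refine Ideal.Quotient.eq.mpr ?_
    show (1 : E) ⊗ₜ[A] ι d - (Subalgebra.inclusion hle d) ⊗ₜ[A] (1 : D') ∈ Q
    rw [show (1 : E) ⊗ₜ[A] ι d - (Subalgebra.inclusion hle d) ⊗ₜ[A] (1 : D') =
      ιT ((1 : E) ⊗ₜ d - (Subalgebra.inclusion hle d) ⊗ₜ 1) by
        rw [map_sub]
        show _ = _ - _ ⊗ₜ[A] ι 1
        rw [map_one]; rfl, hQ']
    have h0 : μ ((1 : E) ⊗ₜ d - (Subalgebra.inclusion hle d) ⊗ₜ 1) = 0 := by
      rw [map_sub]
      show 1 * Subalgebra.inclusion hle d - Subalgebra.inclusion hle d * Subalgebra.inclusion hle 1 = 0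
      rw [map_one, one_mul, mul_one, sub_self]
    rw [h0]
    exact zero_mem _
  have hfgA : ∀ a : A', f1 (Subalgebra.inclusion hA'D' a) = g1 (Subalgebra.inclusion hA'D' a) := by
    intro a
    obtain ⟨hai, c, hc, b, hab⟩ := (hA' _).mp a.2
    let k : K := IsLocalization.mk' K b (⟨c, hc⟩ : A⁰)
    have hk : fracMap A S k = (a : FractionRing S) := by
      refine (isUnit_algebraMap_frac (S := S) ⟨c, hc⟩).mul_left_cancel ?_
      rw [hab, ← (fracMap A S).commutes, ← map_mul, mul_comm (algebraMap A _ _), IsLocalization.mk'_spec]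
      exact (fracMap A S).commutes b
    have hki : IsIntegral A k := (isIntegral_algHom_iff (fracMap A S) hfi).mp (hk ▸ hai)
    have hj : jA ⟨k, hki⟩ = a := Subtype.ext hk
    show Ideal.Quotient.mk Q ((1 : E) ⊗ₜ[A] Subalgebra.inclusion hA'D' a) =
      Ideal.Quotient.mk Q (Φ (r ((1 : E) ⊗ₜ[A] Subalgebra.inclusion hA'D' a)))
    rw [show r ((1 : E) ⊗ₜ Subalgebra.inclusion hA'D' a) = (1 : E) ⊗ₜ ⟨k, hki⟩ from hνA (by
      rw [hr]
      show algebraMap E (FractionRing S) 1 * (a : FractionRing S) = toFrac E (_ ⊗ₜ k)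
      rw [toFrac_tmul, hk]
      rfl)]
    show _ = Ideal.Quotient.mk Q ((1 : E) ⊗ₜ[A] Subalgebra.inclusion hA'D' (jA ⟨k, hki⟩))
    rw [hj]
  have hfg : ∀ x, f1 x = g1 x := by
    intro x
    obtain ⟨w, hw⟩ := hsurj (Ideal.Quotient.mk _ x)
    have hw' : x - Algebra.TensorProduct.productMap (Subalgebra.inclusion hA'D') ι w ∈
        Ideal.jacobson (⊥ : Ideal D') := Ideal.Quotient.eq.mp hw.symm
    have h1 : f1 (x - Algebra.TensorProduct.productMap (Subalgebra.inclusion hA'D') ι w) = 0 :=
      RingHom.mem_ker.mp (hprime f1 hf1 hw')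
    have h2 : g1 (x - Algebra.TensorProduct.productMap (Subalgebra.inclusion hA'D') ι w) = 0 :=
      RingHom.mem_ker.mp (hprime g1 hg1 hw')
    have h3 : f1.comp (Algebra.TensorProduct.productMap (Subalgebra.inclusion hA'D') ι) =
        g1.comp (Algebra.TensorProduct.productMap (Subalgebra.inclusion hA'D') ι) :=
      Algebra.TensorProduct.ext' fun a d => by
        show f1 (Subalgebra.inclusion hA'D' a * ι d) = g1 (Subalgebra.inclusion hA'D' a * ι d)
        rw [map_mul f1, map_mul g1, hfgA, hf1, hg1]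
    rw [map_sub] at h1 h2
    rw [sub_eq_zero.mp h1, sub_eq_zero.mp h2]
    exact congr($h3 w)
  have heq : (Ideal.Quotient.mkₐ A Q) = (Ideal.Quotient.mkₐ A Q).comp ((Φ.comp r).restrictScalars A) := by
    refine Algebra.TensorProduct.ext' fun e x => ?_
    show Ideal.Quotient.mk Q (e ⊗ₜ x) = Ideal.Quotient.mk Q (Φ (r (e ⊗ₜ x)))
    rw [show e ⊗ₜ[A] x = e • ((1 : E) ⊗ₜ[A] x) by rw [smul_tmul', smul_eq_mul, mul_one],
      map_smul r, map_smul Φ, ← smul_one_mul e ((1 : E) ⊗ₜ[A] x),
      ← smul_one_mul e (Φ (r ((1 : E) ⊗ₜ[A] x))), map_mul, map_mul]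
    exact congrArg _ (hfg x)
  have hkerQ : ∀ w, ν w = 0 → w ∈ Q := fun w hw => by
    rw [← Ideal.Quotient.eq_zero_iff_mem]
    refine (congr($heq w)).trans ?_
    show Ideal.Quotient.mk Q (Φ (r w)) = 0
    rw [show r w = 0 from hνA (by rw [hr, hw, map_zero]), map_zero, map_zero]
  have h1 : (1 : E ⊗[A] D') - σ' ∈ Q := hkerQ _ (by
    rw [← hνincl, map_sub, map_one, hσ', sub_sub_cancel]
    exact RingHom.mem_ker.mp (hker ▸ Ideal.mem_span_singleton_self ε))
  exact hQp.ne_top ((Ideal.eq_top_iff_one Q).mpr (by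
    have := add_mem h1 (hQb hσb)
    rwa [sub_add_cancel] at this))

end Groth.Agent.H1EssEt
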