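import Groth.Agent.H1EssEt.AnyInter
import Groth.Agent.H1EssEt.NormBase
import Mathlib

/-!
# Normalisations of arbitrary intermediate rings of a strict henselization
-/

set_option autoImplicit false
universe u
open IsLocalRing TensorProduct nonZeroDivisors

namespace Groth.Agent.H1EssEt

variable {A S : Type u} [CommRing A] [HenselianLocalRing A] [IsNoetherianRing A] [IsReduced A] [CommRing S]
  [IsLocalRing S] [Algebra A S] [IsLocalHom (algebraMap A S)] [_root_.Hensel.IsStrictHenselization A S]

/-- The normalisation of an intermediate ring inside the total ring of fractions of `S`. -/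
def normSub (D : Subalgebra A S) : Subalgebra A (FractionRing S) where
  carrier := {x | IsIntegral A x ∧
    ∃ a ∈ A⁰, ∃ d ∈ D, algebraMap A (FractionRing S) a * x = algebraMap S (FractionRing S) d}
  mul_mem' := fun {x y} ⟨hxi, a, ha, d, hd, hx⟩ ⟨hyi, b, hb, e, he, hy⟩ =>
    ⟨hxi.mul hyi, a * b, mul_mem ha hb, d * e, mul_mem hd he, by rw [map_mul, map_mul, ← hx, ← hy]; ring⟩
  add_mem' := fun {x y} ⟨hxi, a, ha, d, hd, hx⟩ ⟨hyi, b, hb, e, he, hy⟩ =>
    ⟨hxi.add hyi, a * b, mul_mem ha hb,
      algebraMap A S b * d + algebraMap A S a * e,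
      add_mem (mul_mem (D.algebraMap_mem b) hd) (mul_mem (D.algebraMap_mem a) he), by
      rw [map_mul, map_add, map_mul, map_mul, ← hx, ← hy, ← IsScalarTower.algebraMap_apply,
        ← IsScalarTower.algebraMap_apply]; ring⟩
  algebraMap_mem' := fun r => ⟨isIntegral_algebraMap, 1, one_mem _, algebraMap A S r, D.algebraMap_mem r, by
    rw [map_one, one_mul, ← IsScalarTower.algebraMap_apply]⟩

theorem normSub_mono {D D₂ : Subalgebra A S} (h : D ≤ D₂) : normSub D ≤ normSub D₂ :=
  fun _ ⟨hi, a, ha, d, hd, hx⟩ => ⟨hi, a, ha, d, h hd, hx⟩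

theorem algebraMap_mem_normSub {D : Subalgebra A S} {d : S} (hd : d ∈ D) :
    algebraMap S (FractionRing S) d ∈ normSub D :=
  haveI := isIntegral_strictHenselization A S
  ⟨(Algebra.IsIntegral.isIntegral d).map (IsScalarTower.toAlgHom A S (FractionRing S)), 1, one_mem _, d, hd,
    by rw [map_one, one_mul]⟩

theorem finite_minimalPrimes_subalgebra (D : Subalgebra A S) : (minimalPrimes D).Finite := by
  haveI : IsNoetherianRing S := H1Gal.isNoetherianRing A
  refine ((minimalPrimes.finite_of_isNoetherianRing S).image (Ideal.comap (algebraMap D S))).subset ?_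
  intro p hp
  have hker : (⊥ : Ideal S).comap (algebraMap D S) = ⊥ :=
    (RingHom.injective_iff_ker_eq_bot _).mp (show Function.Injective (algebraMap D S) from Subtype.val_injective)
  obtain ⟨q, hq, hqp⟩ := Ideal.exists_minimalPrimes_comap_eq (I := (⊥ : Ideal S)) (algebraMap D S) p (by rwa [hker])
  exact ⟨q, hq, hqp⟩

theorem isReduced_subalgebra (D : Subalgebra A S) : IsReduced D :=
  haveI : IsReduced S := (Hensel.isHenzLike_of_isStrictHenselization A S).isReduced_iff.mp inferInstance
  isReduced_of_injective D.val Subtype.val_injective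

theorem exists_fracHom (D : Subalgebra A S) : ∃ φ : FractionRing D →ₐ[A] FractionRing S,
    Function.Injective φ ∧ (∀ d : D, φ (algebraMap D _ d) = algebraMap S (FractionRing S) d) ∧
      ∀ a ∈ A⁰, IsUnit (algebraMap A (FractionRing D) a) ∧ algebraMap A D a ∈ D⁰ := by
  haveI : Algebra.WeaklyEtale A S := weaklyEtale
  haveI : Module.Flat A S := Algebra.WeaklyEtale.flat
  have hmin : (minimalPrimes A).Finite := minimalPrimes.finite_of_isNoetherianRing A
  have hu : ∀ s : D⁰, IsUnit ((algebraMap D (FractionRing S)) s) := fun s => by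
    obtain ⟨a, ha, e, he⟩ := exists_mul_eq_algebraMap hmin D s.2
    refine isUnit_of_mul_isUnit_left (y := algebraMap D (FractionRing S) e) ?_
    rw [← map_mul, he, ← IsScalarTower.algebraMap_apply]
    exact isUnit_algebraMap_frac (S := S) ⟨a, ha⟩
  let φ : FractionRing D →ₐ[A] FractionRing S :=
    IsLocalization.liftAlgHom (M := D⁰) (f := IsScalarTower.toAlgHom A D (FractionRing S)) hu
  have hφD : ∀ d : D, φ (algebraMap D _ d) = algebraMap S (FractionRing S) d := fun d => IsLocalization.lift_eq _ d
  have hφ : Function.Injective φ := by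
    refine (injective_iff_map_eq_zero _).mpr fun x hx => ?_
    obtain ⟨⟨d, s⟩, h⟩ := IsLocalization.surj D⁰ x
    have h1 := congrArg φ h
    rw [map_mul, hx, zero_mul, hφD] at h1
    have hd : d = 0 := Subtype.ext ((map_eq_zero_iff _ (IsFractionRing.injective S (FractionRing S))).mp h1.symm)
    rw [hd, map_zero] at h
    exact (IsLocalization.map_units _ s).mul_left_eq_zero.mp h
  refine ⟨φ, hφ, hφD, fun a ha => ?_⟩
  have h : algebraMap A D a ∈ D⁰ := mem_nonZeroDivisors_iff_right.mpr fun z hz => by
    refine Subtype.ext ((map_eq_zero_iff _ (IsFractionRing.injective S (FractionRing S))).mp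
      ((isUnit_algebraMap_frac (S := S) ⟨a, ha⟩).mul_left_eq_zero.mp ?_))
    rw [IsScalarTower.algebraMap_apply A S (FractionRing S), ← map_mul]
    show algebraMap S (FractionRing S) ((z * algebraMap A D a : D) : S) = 0
    rw [hz]; exact map_zero _
  exact ⟨by rw [IsScalarTower.algebraMap_apply A D (FractionRing D)]
            exact IsLocalization.map_units _ (⟨_, h⟩ : D⁰), h⟩

theorem map_mem_normSub (D : Subalgebra A S) (φ : FractionRing D →ₐ[A] FractionRing S)
    (hφD : ∀ d : D, φ (algebraMap D _ d) = algebraMap S (FractionRing S) d) (y : FractionRing D)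
    (hy : IsIntegral A y) : φ y ∈ normSub D := by
  have hmin : (minimalPrimes A).Finite := minimalPrimes.finite_of_isNoetherianRing A
  refine ⟨hy.map φ, ?_⟩
  obtain ⟨⟨d, s⟩, h⟩ := IsLocalization.surj D⁰ y
  obtain ⟨a, ha, e, he⟩ := exists_mul_eq_algebraMap hmin D s.2
  refine ⟨a, ha, (d * e : D), (d * e : D).2, ?_⟩
  have h1 := congrArg φ h
  rw [map_mul, hφD, hφD] at h1
  rw [IsScalarTower.algebraMap_apply A D (FractionRing S), ← he]
  show algebraMap S (FractionRing S) ((s : S) * e) * φ y = algebraMap S (FractionRing S) ((d : S) * e)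
  rw [map_mul, map_mul, ← h1]
  ring

/-- The normalisation of an intermediate ring and its image in the total ring of fractions of `S`. -/
theorem exists_equiv_normSub (D : Subalgebra A S) :
    ∃ φ : integralClosure D (FractionRing D) ≃+* normSub D,
      ∀ d : D, (φ (algebraMap D _ d) : FractionRing S) = algebraMap S (FractionRing S) d := by
  obtain ⟨φ, hφ, hφD, hunit⟩ := exists_fracHom D
  haveI := isIntegral_subalgebra D
  let f : integralClosure D (FractionRing D) →+* normSub D :=
    { toFun := fun y => ⟨φ y, map_mem_normSub D φ hφD y (isIntegral_trans (R := A) (A := D) _ y.2)⟩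
      map_one' := Subtype.ext (map_one φ)
      map_mul' := fun x y => Subtype.ext (map_mul φ _ _)
      map_zero' := Subtype.ext (map_zero φ)
      map_add' := fun x y => Subtype.ext (map_add φ _ _) }
  have hf : Function.Bijective f := by
    refine ⟨fun x y h => Subtype.ext (hφ congr(Subtype.val $h)), ?_⟩
    rintro ⟨x, hxi, a, ha, d, hd, hxd⟩
    obtain ⟨hua, haD⟩ := hunit a ha
    let y : FractionRing D := IsLocalization.mk' _ (⟨d, hd⟩ : D) (⟨_, haD⟩ : D⁰)
    have hy : φ y = x := by
      refine (hua.map φ).mul_left_cancel ?_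
      rw [← map_mul, IsScalarTower.algebraMap_apply A D (FractionRing D), mul_comm,
        show (algebraMap A D a : D) = ((⟨_, haD⟩ : D⁰) : D) from rfl, IsLocalization.mk'_spec, hφD,
        ← hxd]
      exact (congrArg (· * x) ((hφD _).trans (IsScalarTower.algebraMap_apply A S (FractionRing S) a).symm)).symm
    exact ⟨⟨y, ((isIntegral_algHom_iff φ hφ).mp (hy ▸ hxi)).tower_top⟩, Subtype.ext hy⟩
  exact ⟨RingEquiv.ofBijective f hf, hφD⟩

/-- The normalisation of an intermediate ring has finitely many maximal ideals. -/
theorem finite_maximalSpectrum_integralClosure (D : Subalgebra A S) :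
    Finite (MaximalSpectrum (integralClosure D (FractionRing D))) := by
  haveI := (isLocalHom_subalgebra D).1
  haveI := henselianLocalRing_subalgebra D
  haveI := isHenselization_self D
  haveI : IsLocalHom (algebraMap D D) := ⟨fun _ h => h⟩
  haveI := isReduced_subalgebra D
  have hfD := finite_minimalPrimes_subalgebra D
  have h2 := BrnchLib.card_minimalPrimes_henselization (A := D) D
  rw [Brnch.numBranches, if_pos hfD] at h2
  haveI := hfD.to_subtype
  haveI hfm : Finite (MaximalSpectrum (CAlg2.normRed D)) :=
    not_infinite_iff_finite.mp fun h => by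
      exact (ENat.card_lt_top.mpr hfD.to_subtype).ne (h2.trans (ENat.card_eq_top.mpr h))
  let e : D ≃+* CAlg2.red D := RingEquiv.ofBijective (Ideal.Quotient.mk (nilradical D))
    ⟨(RingHom.injective_iff_ker_eq_bot _).mpr (by rw [Ideal.mk_ker]; exact nilradical_eq_zero D),
      Ideal.Quotient.mk_surjective⟩
  obtain ⟨ψ, -⟩ := exists_integralClosure_equiv e
  refine Finite.of_injective (fun m : MaximalSpectrum (integralClosure D (FractionRing D)) =>
    (⟨m.asIdeal.comap ψ.symm,
      haveI := m.isMaximal
      Ideal.comap_isMaximal_of_surjective ψ.symm ψ.symm.surjective⟩ : MaximalSpectrum (CAlg2.normRed D))) ?_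
  intro m m' h
  exact MaximalSpectrum.ext (Ideal.comap_injective_of_surjective ψ.symm ψ.symm.surjective congr($(h).asIdeal))

set_option maxHeartbeats 4000000 in
set_option synthInstance.maxHeartbeats 200000 in
/-- Adjoining a finite étale subalgebra: the normalisation is generated by the old one. -/
theorem normSub_sup_le (D E : Subalgebra A S) (hE : H1Gal.IsFE E) :
    normSub (D ⊔ E) ≤ normSub D ⊔ E.map (IsScalarTower.toAlgHom A S (FractionRing S)) := by
  classical
  obtain ⟨φ, hφ, hφD, hunit⟩ := exists_fracHom D
  haveI := hE.isLocalRing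
  haveI := hE.isLocalHom_left
  have hEe := hE.isEssentiallyEtale
  haveI := isReduced_subalgebra D
  haveI : IsArtinianRing (FractionRing D) :=
    EssEtFrac5.isArtinianRing_fractionRing (finite_minimalPrimes_subalgebra D)
  haveI : IsReduced (FractionRing D) := isReduced_localizationPreserves D⁰ _ inferInstance
  haveI : Module.Finite (FractionRing D) (FractionRing D ⊗[A] E) := finite_tensor hEe _
  haveI : IsArtinianRing (FractionRing D ⊗[A] E) := IsArtinianRing.of_finite (FractionRing D) _
  haveI : IsReduced (FractionRing D ⊗[A] E) := isReduced_tensor hEe _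
  let cm := Algebra.TensorProduct.comm A (FractionRing D) E
  haveI : IsArtinianRing (E ⊗[A] FractionRing D) := RingEquiv.isArtinianRing cm.toRingEquiv
  haveI : IsReduced (E ⊗[A] FractionRing D) := isReduced_of_injective cm.symm.toRingHom cm.symm.injective
  let g : E ⊗[A] FractionRing D →ₐ[E] FractionRing S :=
    Algebra.TensorProduct.lift (Algebra.ofId E (FractionRing S)) φ fun _ _ => Commute.all _ _
  rintro x ⟨hxi, a, ha, z, hz, hxz⟩
  have hzr : z ∈ (Algebra.TensorProduct.productMap E.val D.val).range := by
    rw [Algebra.TensorProduct.productMap_range, Subalgebra.range_val, Subalgebra.range_val, sup_comm]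
    exact hz
  obtain ⟨t, rfl⟩ := hzr
  obtain ⟨u, hu⟩ := (hunit a ha).1.exists_right_inv
  let w : E ⊗[A] FractionRing D :=
    Algebra.TensorProduct.map (AlgHom.id A E) (IsScalarTower.toAlgHom A D (FractionRing D)) t * ((1 : E) ⊗ₜ u)
  have hgt : ∀ t : E ⊗[A] D, g (Algebra.TensorProduct.map (AlgHom.id A E) (IsScalarTower.toAlgHom A D (FractionRing D)) t) =
      algebraMap S (FractionRing S) (Algebra.TensorProduct.productMap E.val D.val t) := fun t => by
    induction t using TensorProduct.induction_on with
    | zero => simp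
    | add x y hx hy => simp only [map_add, hx, hy]
    | tmul e d =>
      show algebraMap S (FractionRing S) e * φ (algebraMap D _ d) = algebraMap S (FractionRing S) ((e : S) * d)
      rw [hφD, map_mul]
  have hgw : g w = x := by
    have h1 : algebraMap A (FractionRing S) a * φ u = 1 := by
      rw [← φ.commutes, ← map_mul, hu, map_one]
    change algebraMap A (FractionRing S) a * x =
      algebraMap S (FractionRing S) (Algebra.TensorProduct.productMap E.val D.val t) at hxz
    rw [map_mul, hgt, ← hxz]
    show _ * (algebraMap S (FractionRing S) 1 * φ u) = x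
    rw [map_one, one_mul, mul_comm _ x, mul_assoc, h1, mul_one]
  obtain ⟨ε, hε, hker⟩ := exists_idempotent (RingHom.ker g.toRingHom)
  have hεg : g ε = 0 := RingHom.mem_ker.mp (hker.symm ▸ Ideal.mem_span_singleton_self ε : ε ∈ RingHom.ker g.toRingHom)
  obtain ⟨p, hp, hp0⟩ := hxi
  have hp1 : (1 - ε) * Polynomial.aeval w p = 0 := by
    have h : Polynomial.aeval w p ∈ RingHom.ker g.toRingHom := by
      show g.restrictScalars A (Polynomial.aeval w p) = 0
      rw [← Polynomial.aeval_algHom_apply]
      show Polynomial.aeval (g w) p = 0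
      rw [hgw]; exact hp0
    obtain ⟨c, hc⟩ := Ideal.mem_span_singleton'.mp (hker ▸ h)
    rw [← hc]; linear_combination -c * hε.eq
  have hidem : ∀ q : Polynomial A,
      (1 - ε) * Polynomial.aeval ((1 - ε) * w) q = (1 - ε) * Polynomial.aeval w q := fun q => by
    induction q using Polynomial.induction_on' with
    | add p q hp hq => simp only [map_add, mul_add, hp, hq]
    | monomial n c =>
      rw [Polynomial.aeval_monomial, Polynomial.aeval_monomial, mul_pow]
      calc (1 - ε) * (algebraMap A _ c * ((1 - ε) ^ n * w ^ n)) =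
            (1 - ε) ^ (n + 1) * (algebraMap A _ c * w ^ n) := by ring
        _ = _ := by rw [hε.one_sub.pow_succ_eq]
  have hwi : IsIntegral A ((1 - ε) * w) := by
    refine ⟨Polynomial.X * p, Polynomial.monic_X.mul hp, ?_⟩
    rw [← Polynomial.aeval_def, map_mul, Polynomial.aeval_X, mul_comm (1 - ε) w, mul_assoc, mul_comm w (1 - ε),
      hidem, hp1, mul_zero]
  obtain ⟨y, hy⟩ := (bijective_toIntegralClosure hEe (FractionRing D)).2 ⟨_, hwi.tower_top⟩
  have hy' : Algebra.TensorProduct.map (AlgHom.id E E) (integralClosure A (FractionRing D)).val y = (1 - ε) * w :=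
    congrArg Subtype.val hy
  have hxy : g (Algebra.TensorProduct.map (AlgHom.id E E) (integralClosure A (FractionRing D)).val y) = x := by
    rw [hy', map_mul, map_sub, map_one, hεg, sub_zero, one_mul, hgw]
  rw [← hxy]
  clear hxy hy' hy
  induction y using TensorProduct.induction_on with
  | zero => rw [map_zero, map_zero]; exact zero_mem _
  | add y y' h h' => rw [map_add, map_add]; exact add_mem h h'
  | tmul e c =>
    show algebraMap S (FractionRing S) e * φ c ∈ _
    exact mul_mem ((le_sup_right : _ ≤ normSub D ⊔ _) ⟨e, e.2, rfl⟩)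
      ((le_sup_left : _ ≤ normSub D ⊔ _) (map_mem_normSub D φ hφD c c.2))

end Groth.Agent.H1EssEt
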