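import Groth.Agent.S2474
import Mathlib

/-!
# The normalisation of a reduced Noetherian local ring is semilocal
-/

set_option autoImplicit false
universe u
open nonZeroDivisors

namespace Groth.Agent.H1EssEt

set_option maxHeartbeats 1000000 in
/-- The normalisation of a reduced Noetherian local ring has finitely many maximal ideals. -/
theorem finite_maximal_integralClosure (E : Type u) [CommRing E] [IsLocalRing E] [IsNoetherianRing E]
    [IsReduced E] [IsArtinianRing (FractionRing E)] :
    {M : Ideal (integralClosure E (FractionRing E)) | M.IsMaximal}.Finite := by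
  classical
  let F := FractionRing E
  haveI : IsReduced F := isReduced_localizationPreserves (nonZeroDivisors E) F inferInstance
  haveI : Fintype (MaximalSpectrum F) := Fintype.ofFinite _
  have hm : ∀ m : MaximalSpectrum F, ∃ S : Set (Ideal (integralClosure E F)), S.Finite ∧
      ∀ M : Ideal (integralClosure E F), M.IsMaximal →
        (∀ x : integralClosure E F, (x : F) ∈ m.asIdeal → x ∈ M) → M ∈ S := by
    intro m
    haveI := m.isMaximal
    letI : Field (F ⧸ m.asIdeal) := Ideal.Quotient.field _
    let Q := F ⧸ m.asIdeal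
    let q : Ideal E := RingHom.ker (algebraMap E Q)
    haveI : q.IsPrime := RingHom.ker_isPrime _
    letI : Algebra (E ⧸ q) Q := RingHom.toAlgebra (R := E ⧸ q) (S := Q) (RingHom.kerLift (algebraMap E Q))
    haveI : IsScalarTower E (E ⧸ q) Q := IsScalarTower.of_algebraMap_eq fun _ => rfl
    haveI : FaithfulSMul (E ⧸ q) Q :=
      (faithfulSMul_iff_algebraMap_injective _ _).mpr (RingHom.kerLift_injective (algebraMap E Q))
    letI : Algebra (FractionRing (E ⧸ q)) Q := FractionRing.liftAlgebra (E ⧸ q) Q
    haveI : FiniteDimensional (FractionRing (E ⧸ q)) Q := by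
      refine Module.Finite.of_surjective (Algebra.linearMap (FractionRing (E ⧸ q)) Q) fun y => ?_
      obtain ⟨z, rfl⟩ := Ideal.Quotient.mk_surjective y
      obtain ⟨⟨x, s⟩, h⟩ := IsLocalization.surj E⁰ z
      have hs : algebraMap E Q s ≠ 0 := by
        rw [IsScalarTower.algebraMap_apply E F Q]
        exact ((IsLocalization.map_units F s).map (algebraMap F Q)).ne_zero
      refine ⟨algebraMap E (FractionRing (E ⧸ q)) x / algebraMap E (FractionRing (E ⧸ q)) s, ?_⟩
      show algebraMap (FractionRing (E ⧸ q)) Q _ = _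
      have key : ∀ e : E, algebraMap (FractionRing (E ⧸ q)) Q (algebraMap E _ e) = algebraMap E Q e := fun e => by
        rw [IsScalarTower.algebraMap_apply E (E ⧸ q) (FractionRing (E ⧸ q)),
          ← IsScalarTower.algebraMap_apply (E ⧸ q) (FractionRing (E ⧸ q)) Q, ← IsScalarTower.algebraMap_apply]
      rw [map_div₀, key, key, div_eq_iff hs, IsScalarTower.algebraMap_apply E F Q, IsScalarTower.algebraMap_apply E F Q]
      exact (congrArg (algebraMap F Q) h).symm.trans (map_mul _ _ _)
    have hfin := (S2474.result (A := E ⧸ q) (K' := Q)).1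
    let π : integralClosure E F →+* integralClosure (E ⧸ q) Q :=
      RingHom.codRestrict ((Ideal.Quotient.mk m.asIdeal).comp (integralClosure E F).val.toRingHom)
        (integralClosure (E ⧸ q) Q) fun x => (x.2.map (Ideal.Quotient.mkₐ E m.asIdeal)).tower_top
    letI := π.toAlgebra
    haveI : IsScalarTower E (integralClosure E F) (integralClosure (E ⧸ q) Q) :=
      IsScalarTower.of_algebraMap_eq fun e => Subtype.ext rfl
    haveI : Algebra.IsIntegral (integralClosure E F) (integralClosure (E ⧸ q) Q) := ⟨fun x => by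
      have : IsIntegral E (x : Q) := isIntegral_trans (A := E ⧸ q) _ x.2
      exact ((isIntegral_algHom_iff ((integralClosure (E ⧸ q) Q).val.restrictScalars E)
        Subtype.val_injective).mp this).tower_top⟩
    refine ⟨(fun N : Ideal (integralClosure (E ⧸ q) Q) => N.comap π) '' {N | N.IsMaximal}, hfin.image _,
      fun M hM h => ?_⟩
    haveI := hM
    obtain ⟨N, hN, hNM⟩ := Ideal.exists_ideal_over_maximal_of_isIntegral (S := integralClosure (E ⧸ q) Q) M
      fun x hx => h x (Ideal.Quotient.eq_zero_iff_mem.mp (congrArg Subtype.val hx))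
    exact ⟨N, hN, hNM⟩
  choose S hS hS' using hm
  refine (Set.finite_iUnion hS).subset fun M hM => ?_
  have hM' : M.IsMaximal := hM
  by_contra hnot
  have h1 : ∀ m : MaximalSpectrum F, ∃ x : integralClosure E F, (x : F) ∈ m.asIdeal ∧ x ∉ M := fun m => by
    by_contra! h
    exact hnot (Set.mem_iUnion.mpr ⟨m, hS' m M hM' h⟩)
  choose x hx hxM using h1
  have h0 : ∏ m, x m = 0 := by
    refine Subtype.ext ?_
    rw [ZeroMemClass.coe_zero]
    have h : ((∏ m, x m : integralClosure E F) : F) ∈ Ideal.jacobson (⊥ : Ideal F) :=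
      Submodule.mem_sInf.mpr fun m hm => by
        rw [SubmonoidClass.coe_finsetProd]
        exact Ideal.mem_of_dvd _ (Finset.dvd_prod_of_mem _ (Finset.mem_univ ⟨m, hm.2⟩)) (hx ⟨m, hm.2⟩)
    rwa [IsArtinianRing.jacobson_eq_radical, show (⊥ : Ideal F).radical = ⊥ from nilradical_eq_zero _] at h
  obtain ⟨m, -, hm⟩ := hM'.isPrime.prod_mem_iff.mp (h0 ▸ M.zero_mem : ∏ m, x m ∈ M)
  exact hxM m hm

end Groth.Agent.H1EssEt
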