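import Groth.Agent.H1EssEt.Tower
import Groth.Agent.H1EssEt.InterNorm
import Groth.Agent.H1EssEt.FiniteCriterion
import Groth.Agent.S16448
import Groth.Agent.Hensel.QuasiFiniteSplit
import Mathlib

/-!
# Counting separable points of the residue field of the normalisation
-/

set_option autoImplicit false
universe u
open IsLocalRing TensorProduct nonZeroDivisors

namespace Groth.Agent.H1EssEt

theorem mem_range_of_isSeparable_of_pow_mem {F Ω : Type*} [Field F] [Field Ω] [Algebra F Ω] (q : ℕ) [ExpChar F q]
    {x : Ω} (hx : IsSeparable F x) {n : ℕ} (h : x ^ q ^ n ∈ (algebraMap F Ω).range) :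
    x ∈ (algebraMap F Ω).range := by
  have h1 : (minpoly F x).natSepDegree = 1 := (minpoly.natSepDegree_eq_one_iff_pow_mem q).mpr ⟨n, h⟩
  rw [Polynomial.natSepDegree_eq_natDegree_of_separable _ hx] at h1
  exact (minpoly.natDegree_eq_one_iff.mp h1)

theorem natCard_algHom_eq_finrank_iff (k F L Ω : Type*) [Field k] [Field F] [Field L] [Field Ω] [IsAlgClosed Ω]
    [Algebra k F] [Algebra k L] [Algebra k Ω] [Algebra F Ω] [IsScalarTower k F Ω]
    [FiniteDimensional k L] [Algebra.IsSeparable k L] :
    Nat.card (L →ₐ[k] F) = Module.finrank k L ↔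
      ∀ σ : L →ₐ[k] Ω, ∀ x, σ x ∈ (algebraMap F Ω).range := by
  let ι : (L →ₐ[k] F) → (L →ₐ[k] Ω) := fun τ => (IsScalarTower.toAlgHom k F Ω).comp τ
  have hι : Function.Injective ι := fun τ τ' h => AlgHom.ext fun x =>
    (algebraMap F Ω).injective congr($h x)
  have hΩ : Nat.card (L →ₐ[k] Ω) = Module.finrank k L := by
    rw [Nat.card_eq_fintype_card, AlgHom.card]
  constructor
  · intro h σ x
    obtain ⟨τ, rfl⟩ := (hι.bijective_of_nat_card_le (hΩ.trans h.symm).le).2 σ
    exact ⟨τ x, rfl⟩
  · intro h
    refine (Nat.card_eq_of_bijective ι ⟨hι, fun σ => ?_⟩).trans hΩ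
    let e := AlgEquiv.ofInjectiveField (IsScalarTower.toAlgHom k F Ω)
    refine ⟨e.symm.toAlgHom.comp (σ.codRestrict _ fun x => h σ x), AlgHom.ext fun x => ?_⟩
    exact congrArg Subtype.val (e.apply_symm_apply _)

theorem mem_range_of_natCard (k F L L' : Type*) [Field k] [Field F] [Field L] [Field L'] [Algebra k F] [Algebra k L]
    [FiniteDimensional k L] [Algebra.IsSeparable k L] (h : Nat.card (L →ₐ[k] F) = Module.finrank k L)
    (i : F →+* L') (θ : L →+* L') (hθ : ∀ x : k, θ (algebraMap k L x) = i (algebraMap k F x)) (x : L) :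
    θ x ∈ i.range := by
  letI : Algebra F L' := i.toAlgebra
  letI : Algebra k L' := (i.comp (algebraMap k F)).toAlgebra
  haveI : IsScalarTower k F L' := IsScalarTower.of_algebraMap_eq fun _ => rfl
  let σ : L →ₐ[k] AlgebraicClosure L' := AlgHom.mk ((algebraMap L' _).comp θ) fun y =>
    (congrArg (algebraMap L' (AlgebraicClosure L')) (hθ y)).trans
      (IsScalarTower.algebraMap_apply k L' (AlgebraicClosure L') y).symm
  obtain ⟨z, hz⟩ := (natCard_algHom_eq_finrank_iff k F L (AlgebraicClosure L')).mp h σ x
  refine ⟨z, (algebraMap L' (AlgebraicClosure L')).injective ?_⟩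
  exact (IsScalarTower.algebraMap_apply F L' (AlgebraicClosure L') z).symm.trans hz

set_option maxHeartbeats 2000000 in
set_option synthInstance.maxHeartbeats 100000 in
theorem exists_equiv_integralClosure (A E : Type u) [CommRing A] [IsLocalRing A] [IsReduced A]
    (hmin : (minimalPrimes A).Finite) [CommRing E] [IsLocalRing E] [Algebra A E] [IsLocalHom (algebraMap A E)]
    (hE : EGA4loc.IsEssentiallyEtale A E) :
    ∃ ν : E ⊗[A] integralClosure A (FractionRing A) ≃+* integralClosure E (FractionRing E),
      ∀ e : E, ν (e ⊗ₜ[A] 1) = algebraMap E _ e := by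
  haveI h1 : IsLocalization (Algebra.algebraMapSubmonoid E A⁰) (FractionRing E) := (S16448.result A E hmin hE).1
  let g : E ⊗[A] FractionRing A ≃ₐ[E] FractionRing E :=
    IsLocalization.algEquiv (Algebra.algebraMapSubmonoid E A⁰) _ _
  let f : E ⊗[A] integralClosure A (FractionRing A) →ₐ[E] integralClosure E (FractionRing E) :=
    g.mapIntegralClosure.toAlgHom.comp (TensorProduct.toIntegralClosure A E (FractionRing A))
  have hf : Function.Bijective f :=
    g.mapIntegralClosure.bijective.comp (bijective_toIntegralClosure hE (FractionRing A))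
  exact ⟨(RingEquiv.ofBijective f hf), fun e => f.commutes e⟩

set_option maxHeartbeats 4000000 in
set_option synthInstance.maxHeartbeats 200000 in
theorem forall_pi_iff_natCard (A E C N : Type u) [CommRing A] [IsLocalRing A] [CommRing C] [IsLocalRing C] [Algebra A C]
    [Algebra.IsIntegral A C] [IsLocalHom (algebraMap A C)]
    [FiniteDimensional (ResidueField A) (separableClosure (ResidueField A) (ResidueField C))]
    [CommRing E] [IsLocalRing E] [Algebra A E] [IsLocalHom (algebraMap A E)] [Algebra.IsIntegral A E]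
    [CommRing N] [Algebra E N] [Algebra.IsIntegral E N] (ν : E ⊗[A] C ≃+* N)
    (hν : ∀ e : E, ν (e ⊗ₜ[A] 1) = algebraMap E N e)
    [Algebra.IsAlgebraic (ResidueField A) (ResidueField C)] :
    (∀ (M : Ideal N) [M.IsMaximal],
      PI (ringExpChar (ResidueField E)) ((Ideal.Quotient.mk M).comp (algebraMap E N))) ↔
      Nat.card (separableClosure (ResidueField A) (ResidueField C) →ₐ[ResidueField A] ResidueField E) =
        Module.finrank (ResidueField A) (separableClosure (ResidueField A) (ResidueField C)) := by
  classical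
  let k := ResidueField A
  let k' := ResidueField C
  let kE := ResidueField E
  let q := ringExpChar kE
  haveI : ExpChar kE q := ringExpChar.expChar _
  haveI : ExpChar k q := (RingHom.expChar_iff (algebraMap k kE) (algebraMap k kE).injective q).mpr inferInstance
  let ks := separableClosure k k'
  let Ω := AlgebraicClosure kE
  haveI : ExpChar Ω q := expChar_of_injective_ringHom (algebraMap kE Ω).injective q
  have hres : ∀ a : A, algebraMap k kE (residue A a) = residue E (algebraMap A E a) := fun _ => rfl
  rw [natCard_algHom_eq_finrank_iff k kE ks Ω]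
  constructor
  · intro h σ s
    letI : Algebra ks Ω := σ.toRingHom.toAlgebra
    haveI : IsScalarTower k ks Ω := IsScalarTower.of_algebraMap_eq fun x => (σ.commutes x).symm
    haveI : Algebra.IsAlgebraic ks k' := Algebra.IsAlgebraic.tower_top (K := k) ks
    let σ' : k' →ₐ[ks] Ω := IsAlgClosed.lift
    letI : Algebra A Ω := ((algebraMap kE Ω).comp ((residue E).comp (algebraMap A E))).toAlgebra
    let fE : E →ₐ[A] Ω := AlgHom.mk ((algebraMap kE Ω).comp (residue E)) fun a => rfl
    let fC : C →ₐ[A] Ω := AlgHom.mk (σ'.toRingHom.comp (residue C)) fun a => by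
      show σ' (algebraMap k k' (residue A a)) = algebraMap kE Ω (residue E (algebraMap A E a))
      rw [IsScalarTower.algebraMap_apply k ks k', σ'.commutes]
      show σ (algebraMap k ks (residue A a)) = _
      rw [σ.commutes, IsScalarTower.algebraMap_apply k kE Ω, hres]
    let φ : E ⊗[A] C →+* Ω := (Algebra.TensorProduct.lift fE fC fun _ _ => Commute.all _ _).toRingHom
    let ψ : N →+* Ω := φ.comp ν.symm.toRingHom
    have hψE : ∀ e : E, ψ (algebraMap E N e) = algebraMap kE Ω (residue E e) := fun e => by
      show φ (ν.symm (algebraMap E N e)) = _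
      rw [← hν, ν.symm_apply_apply]
      show fE e * fC 1 = _
      rw [map_one, mul_one]
      rfl
    haveI : (RingHom.ker ψ).IsPrime := RingHom.ker_isPrime _
    haveI : (RingHom.ker ψ).IsMaximal := by
      haveI : ((RingHom.ker ψ).comap (algebraMap E N)).IsPrime := Ideal.IsPrime.comap _
      refine Ideal.isMaximal_of_isIntegral_of_isMaximal_comap (R := E) (S := N) _ ?_
      have : (RingHom.ker ψ).comap (algebraMap E N) = maximalIdeal E := by
        ext e
        rw [Ideal.mem_comap, RingHom.mem_ker, hψE, map_eq_zero_iff _ (algebraMap kE Ω).injective,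
          residue_eq_zero_iff]
      rw [this]
      exact maximalIdeal.isMaximal E
    obtain ⟨c, hc⟩ := residue_surjective (s : k')
    obtain ⟨n, e, he⟩ := h (RingHom.ker ψ) (Ideal.Quotient.mk _ (ν ((1 : E) ⊗ₜ[A] c)))
    rw [RingHom.comp_apply, ← map_pow, Ideal.Quotient.eq, RingHom.mem_ker, map_sub, map_pow, hψE, sub_eq_zero] at he
    have hs : ψ (ν ((1 : E) ⊗ₜ[A] c)) = σ s := by
      show φ (ν.symm (ν _)) = _
      rw [ν.symm_apply_apply]
      show fE 1 * fC c = _
      rw [map_one, one_mul]
      show σ' (residue C c) = _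
      rw [hc]
      exact σ'.commutes s
    rw [hs] at he
    have hsep : IsSeparable kE (σ s) :=
      IsSeparable.tower_top kE (IsSeparable.map σ σ.injective (IsSeparable.of_algHom ks.val (mem_separableClosure_iff.mp s.2)))
    exact mem_range_of_isSeparable_of_pow_mem q hsep ⟨_, he⟩
  · intro h M hM
    letI : Field (N ⧸ M) := Ideal.Quotient.field M
    let L := N ⧸ M
    let f : E →+* L := (Ideal.Quotient.mk M).comp (algebraMap E N)
    let χ : E ⊗[A] C →+* L := (Ideal.Quotient.mk M).comp ν.toRingHom
    have hfm : ∀ e ∈ maximalIdeal E, f e = 0 := fun e he => by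
      haveI : (M.comap (algebraMap E N)).IsMaximal := Ideal.isMaximal_comap_of_isIntegral_of_isMaximal (R := E) M
      exact Ideal.Quotient.eq_zero_iff_mem.mpr
        ((IsLocalRing.eq_maximalIdeal (I := M.comap (algebraMap E N)) inferInstance).ge he)
    have hχE : ∀ e : E, χ (e ⊗ₜ[A] 1) = f e := fun e => congrArg (Ideal.Quotient.mk M) (hν e)
    let iE : kE →+* L := Ideal.Quotient.lift _ f hfm
    let rC : C →+* L := χ.comp (Algebra.TensorProduct.includeRight : C →ₐ[A] E ⊗[A] C).toRingHom
    have hrA : ∀ a : A, rC (algebraMap A C a) = f (algebraMap A E a) := fun a => by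
      rw [← hχE]
      show χ ((1 : E) ⊗ₜ[A] algebraMap A C a) = _
      rw [Algebra.algebraMap_eq_smul_one, Algebra.algebraMap_eq_smul_one (A := E), tmul_smul, smul_tmul']
    have hrm : ∀ c ∈ maximalIdeal C, rC c = 0 := by
      haveI : (RingHom.ker rC).IsPrime := RingHom.ker_isPrime _
      haveI hP : ((RingHom.ker rC).comap (algebraMap A C)).IsPrime := Ideal.IsPrime.comap _
      have h0 : (RingHom.ker rC).comap (algebraMap A C) = maximalIdeal A := by
        refine ((maximalIdeal.isMaximal A).eq_of_le hP.ne_top fun a ha => ?_).symm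
        rw [Ideal.mem_comap, RingHom.mem_ker, hrA]
        exact hfm _ (map_nonunit (algebraMap A E) a ha)
      have h1 : (RingHom.ker rC).IsMaximal := Ideal.isMaximal_of_isIntegral_of_isMaximal_comap (R := A) (S := C) _
        (h0.symm ▸ maximalIdeal.isMaximal A)
      exact fun c hc => (IsLocalRing.eq_maximalIdeal h1).ge hc
    let θ : k' →+* L := Ideal.Quotient.lift _ rC hrm
    have h' := mem_range_of_natCard k kE ks L ((natCard_algHom_eq_finrank_iff k kE ks Ω).mpr h) iE
      (θ.comp (algebraMap ks k')) (fun x => by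
        obtain ⟨a, rfl⟩ := residue_surjective x
        exact hrA a)
    haveI : IsPurelyInseparable ks k' := separableClosure.isPurelyInseparable k k'
    haveI : ExpChar ks q := expChar_of_injective_ringHom (algebraMap k ks).injective q
    haveI : ExpChar L q := expChar_of_injective_ringHom iE.injective q
    intro x
    obtain ⟨t, rfl⟩ : ∃ t, χ t = x :=
      ⟨ν.symm (Ideal.Quotient.mk_surjective x).choose, by
        show Ideal.Quotient.mk M (ν (ν.symm _)) = x
        rw [ν.apply_symm_apply]; exact (Ideal.Quotient.mk_surjective x).choose_spec⟩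
    induction t using TensorProduct.induction_on with
    | zero => exact ⟨0, 0, by rw [map_zero, map_zero, pow_zero, pow_one]⟩
    | tmul e c =>
      obtain ⟨n, s, hs⟩ := IsPurelyInseparable.pow_mem ks q (residue C c)
      obtain ⟨z, hz⟩ := h' s
      obtain ⟨z, rfl⟩ := residue_surjective z
      refine ⟨n, e ^ q ^ n * z, ?_⟩
      have h1 : f z = rC c ^ q ^ n := by
        refine hz.trans ?_
        show θ (algebraMap ks k' s) = _
        rw [hs, map_pow]
        rfl
      show f (e ^ q ^ n * z) = χ (e ⊗ₜ[A] c) ^ q ^ n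
      rw [map_mul, map_pow, h1, ← mul_pow]
      congr 1
      rw [← hχE]
      show χ (e ⊗ₜ[A] 1) * χ ((1 : E) ⊗ₜ[A] c) = _
      rw [← map_mul, Algebra.TensorProduct.tmul_mul_tmul, mul_one, one_mul]
    | add x y hx hy =>
      obtain ⟨n, d, hn⟩ := hx
      obtain ⟨m, d', hm⟩ := hy
      refine ⟨n + m, d ^ q ^ m + d' ^ q ^ n, ?_⟩
      show f (d ^ q ^ m + d' ^ q ^ n) = χ (x + y) ^ q ^ (n + m)
      rw [map_add, map_add, map_pow, map_pow, add_pow_expChar_pow (R := L) (p := q)]
      congr 1
      · rw [show f d = χ x ^ q ^ n from hn, ← pow_mul, ← pow_add]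
      · rw [show f d' = χ y ^ q ^ m from hm, ← pow_mul, ← pow_add, add_comm n m]

end Groth.Agent.H1EssEt
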