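import Groth.Agent.H1EssEt.NormInter
import Groth.Agent.H1EssEt.FlatPI
import Mathlib

/-!
# Separably generated residues of the normalisation and Noetherian intermediate rings
-/

set_option autoImplicit false
universe u
open IsLocalRing TensorProduct nonZeroDivisors Polynomial

namespace Groth.Agent.H1EssEt

/-- The residues of `f` are purely inseparable over finitely many separable elements. -/
def SepGen {A D L : Type*} [CommRing A] [IsLocalRing A] [CommRing D] [CommRing L] (q : ℕ) (i : A →+* D)
    (f : D →+* L) : Prop :=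
  ∃ G : Finset L, (∀ g ∈ G, ∃ p : A[X], p.Monic ∧ (p.map (residue A)).Separable ∧ p.eval₂ (f.comp i) g = 0) ∧
    ∀ w : L, ∃ n : ℕ, w ^ q ^ n ∈ Subring.closure (Set.range f ∪ G)

theorem SepGen.of_equiv {A D L L' : Type*} [CommRing A] [IsLocalRing A] [CommRing D] [CommRing L] [CommRing L']
    (q : ℕ) (i : A →+* D) (f : D →+* L) (e : L ≃+* L') (h : SepGen q i (e.toRingHom.comp f)) : SepGen q i f := by
  classical
  obtain ⟨G, hG, hw⟩ := h
  refine ⟨G.image e.symm, fun g hg => ?_, fun w => ?_⟩
  · obtain ⟨g', hg', rfl⟩ := Finset.mem_image.mp hg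
    obtain ⟨p, hp, hsep, h0⟩ := hG g' hg'
    refine ⟨p, hp, hsep, e.injective ?_⟩
    rw [map_zero, ← RingEquiv.coe_toRingHom, Polynomial.hom_eval₂]
    simpa [RingHom.comp_assoc] using h0
  · obtain ⟨n, hn⟩ := hw (e w)
    refine ⟨n, ?_⟩
    have h : Subring.closure (Set.range (e.toRingHom.comp f) ∪ (G : Set L')) ≤
        (Subring.closure (Set.range f ∪ ((G.image e.symm : Finset L) : Set L))).map e.toRingHom := by
      refine Subring.closure_le.mpr (Set.union_subset ?_ fun g hg => ?_)
      · rintro _ ⟨d, rfl⟩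
        exact ⟨f d, Subring.subset_closure (Or.inl ⟨d, rfl⟩), rfl⟩
      · exact ⟨e.symm g, Subring.subset_closure (Or.inr (Finset.mem_coe.mpr (Finset.mem_image_of_mem _ hg))),
          e.apply_symm_apply g⟩
    obtain ⟨z, hz, hzw⟩ := h hn
    rw [← map_pow] at hzw
    exact e.injective hzw ▸ hz

variable {A S : Type u} [CommRing A] [HenselianLocalRing A] [IsNoetherianRing A] [IsReduced A] [CommRing S]
  [IsLocalRing S] [Algebra A S] [IsLocalHom (algebraMap A S)] [_root_.Hensel.IsStrictHenselization A S]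

set_option maxHeartbeats 4000000 in
set_option synthInstance.maxHeartbeats 200000 in
theorem isNoetherianRing_of_sepGen (D : Subalgebra A S) [IsLocalRing D]
    (h : ∀ (M : Ideal (integralClosure D (FractionRing D))) [M.IsMaximal],
      SepGen (ringExpChar (ResidueField D)) (algebraMap A D)
        ((Ideal.Quotient.mk M).comp (algebraMap D (integralClosure D (FractionRing D))))) :
    IsNoetherianRing D := by
  classical
  let N := integralClosure D (FractionRing D)
  let kS := ResidueField S
  let rA : A →+* kS := (residue S).comp (algebraMap A S)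
  haveI := finite_maximalSpectrum_integralClosure (A := A) (S := S) D
  haveI := Fintype.ofFinite (MaximalSpectrum N)
  choose G hG hw using fun M : MaximalSpectrum N => @h M.asIdeal M.isMaximal
  choose p hp hsep hroot using fun (M : MaximalSpectrum N) (g : {g // g ∈ G M}) => hG M g g.2
  let R : Finset kS := Finset.univ.biUnion fun M => Finset.univ.biUnion fun g => ((p M g).map rA).roots.toFinset
  let lift : kS → S := Function.surjInv residue_surjective
  obtain ⟨-, E, hE, -, hgE⟩ := H1Gal.exists_isFE_ge (A := A) (S := S) (R.image lift)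
  haveI := hE.finite
  have hroots : ∀ M g, ∀ r ∈ ((p M g).map rA).roots, ∃ e ∈ E, residue S e = r := fun M g r hr =>
    ⟨lift r, hgE (Finset.mem_coe.mpr (Finset.mem_image_of_mem _ (Finset.mem_biUnion.mpr
      ⟨M, Finset.mem_univ _, Finset.mem_biUnion.mpr ⟨g, Finset.mem_univ _, Multiset.mem_toFinset.mpr hr⟩⟩))),
      Function.surjInv_eq residue_surjective r⟩
  let D₂ : Subalgebra A S := D ⊔ E
  haveI := (isLocalHom_subalgebra D₂).1
  haveI := (isLocalHom_subalgebra D₂).2
  haveI := (isLocalHom_subalgebra D).2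
  let q := ringExpChar (ResidueField D)
  let incl : D →ₐ[A] D₂ := Subalgebra.inclusion le_sup_left
  haveI : IsLocalHom incl.toRingHom :=
    ⟨fun d hd => isUnit_of_map_unit (algebraMap D S) d (hd.map D₂.val)⟩
  haveI : ExpChar (ResidueField D) q := ringExpChar.expChar _
  haveI : ExpChar (ResidueField D₂) q := expChar_of_injective_ringHom (ResidueField.map incl.toRingHom).injective q
  have hq : ringExpChar (ResidueField D₂) = q := ringExpChar.eq _ q
  obtain ⟨φ, hφ⟩ := exists_equiv_normSub D
  obtain ⟨φ₂, hφ₂⟩ := exists_equiv_normSub D₂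
  have hflat : Module.Flat D₂ S := by
    refine flat_of_pi A S D₂ fun M₂ hM₂ => ?_
    rw [hq]
    let N₂ := integralClosure D₂ (FractionRing D₂)
    letI : Field (N₂ ⧸ M₂) := Ideal.Quotient.field M₂
    let L := N₂ ⧸ M₂
    let f₂ : D₂ →+* L := (Ideal.Quotient.mk M₂).comp (algebraMap D₂ N₂)
    have hm₂ : ∀ d ∈ maximalIdeal D₂, f₂ d = 0 := fun d hd => by
      haveI : (M₂.comap (algebraMap D₂ N₂)).IsMaximal := Ideal.isMaximal_comap_of_isIntegral_of_isMaximal (R := D₂) M₂
      exact Ideal.Quotient.eq_zero_iff_mem.mpr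
        ((IsLocalRing.eq_maximalIdeal (I := M₂.comap (algebraMap D₂ N₂)) inferInstance).ge hd)
    let i₂ : ResidueField D₂ →+* L := Ideal.Quotient.lift _ f₂ hm₂
    haveI : ExpChar L q := expChar_of_injective_ringHom i₂.injective q
    let h₂ : normSub D₂ →+* L := (Ideal.Quotient.mk M₂).comp φ₂.symm.toRingHom
    let j : normSub D →ₐ[A] normSub D₂ := Subalgebra.inclusion (normSub_mono le_sup_left)
    let hN : N →+* L := (h₂.comp j.toRingHom).comp φ.toRingHom
    have hh₂ : ∀ (d : D₂) (y : normSub D₂), (y : FractionRing S) = algebraMap S (FractionRing S) d →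
        h₂ y = f₂ d := fun d y hy => by
      show Ideal.Quotient.mk M₂ (φ₂.symm y) = Ideal.Quotient.mk M₂ (algebraMap D₂ N₂ d)
      rw [show y = φ₂ (algebraMap D₂ N₂ d) from Subtype.ext (hy.trans (hφ₂ d).symm), φ₂.symm_apply_apply]
    have hND : ∀ d : D, hN (algebraMap D N d) = f₂ (incl d) := fun d => hh₂ (incl d) _ (hφ d)
    haveI hMp : (RingHom.ker hN).IsPrime := RingHom.ker_isPrime _
    haveI hMmax : (RingHom.ker hN).IsMaximal := by
      haveI : ((RingHom.ker hN).comap (algebraMap D N)).IsPrime := Ideal.IsPrime.comap _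
      refine Ideal.isMaximal_of_isIntegral_of_isMaximal_comap (R := D) (S := N) _ ?_
      rw [← (maximalIdeal.isMaximal D).eq_of_le (Ideal.IsPrime.ne_top inferInstance)
        (show maximalIdeal D ≤ (RingHom.ker hN).comap (algebraMap D N) from fun d hd => by
          rw [Ideal.mem_comap, RingHom.mem_ker, hND]
          exact hm₂ _ (map_nonunit incl.toRingHom d hd))]
      exact maximalIdeal.isMaximal D
    let M : MaximalSpectrum N := ⟨RingHom.ker hN, hMmax⟩
    let θ : (N ⧸ M.asIdeal) →+* L := Ideal.Quotient.lift _ hN fun x hx => hx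
    have hclos : ∀ x ∈ Subring.closure
        (Set.range ((Ideal.Quotient.mk M.asIdeal).comp (algebraMap D N)) ∪ (G M : Set (N ⧸ M.asIdeal))),
        θ x ∈ f₂.range := by
      intro x hx
      refine (Subring.closure_le (t := f₂.range.comap θ)).mpr (Set.union_subset ?_ fun g hg => ?_) hx
      · rintro _ ⟨d, rfl⟩
        exact ⟨incl d, (hND d).symm⟩
      · let γ : A →+* ResidueField D₂ := (residue D₂).comp (algebraMap A D₂)
        let ιS : ResidueField D₂ →+* kS := ResidueField.map (algebraMap D₂ S)
        let P := (p M ⟨g, hg⟩).map γ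
        have hPS : P.map ιS = (p M ⟨g, hg⟩).map rA := by
          rw [Polynomial.map_map]
          congr 1
        have hsplit : (P.map ιS).Splits := by
          haveI := Hensel.IsStrictHenselization.isSepClosure (R := A) (S := S)
          haveI : IsSepClosed kS := IsSepClosure.sep_closed (ResidueField A)
          refine IsSepClosed.splits_of_separable _ ?_
          rw [hPS, show rA = (ResidueField.map (algebraMap A S)).comp (residue A) from rfl, ← Polynomial.map_map]
          exact (hsep M ⟨g, hg⟩).map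
        have hP : P.Splits := Polynomial.Splits.of_splits_map ιS hsplit fun r hr => by
          rw [hPS] at hr
          obtain ⟨e, he, rfl⟩ := hroots M ⟨g, hg⟩ r hr
          exact ⟨residue D₂ ⟨e, (le_sup_right : E ≤ D₂) he⟩, ResidueField.map_residue _ _⟩
        obtain ⟨z, hz⟩ := hP.mem_range_of_isRoot ((hp M ⟨g, hg⟩).map γ).ne_zero (i := i₂) (x := θ g) (by
          show ((P.map i₂).eval (θ g)) = 0
          rw [Polynomial.map_map, Polynomial.eval_map,
            show i₂.comp γ = θ.comp (((Ideal.Quotient.mk M.asIdeal).comp (algebraMap D N)).comp (algebraMap A D)) from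
              RingHom.ext fun a => ((hND (algebraMap A D a)).trans (congrArg f₂ (incl.commutes a))).symm,
            ← Polynomial.hom_eval₂, hroot M ⟨g, hg⟩, map_zero])
        obtain ⟨z, rfl⟩ := residue_surjective z
        exact ⟨z, hz⟩
    suffices key : ∀ y : normSub D₂, ∃ n : ℕ, ∃ d : D₂, f₂ d = h₂ y ^ q ^ n by
      intro x
      obtain ⟨x, rfl⟩ := Ideal.Quotient.mk_surjective x
      obtain ⟨n, d, hd⟩ := key (φ₂ x)
      refine ⟨n, d, hd.trans ?_⟩
      show Ideal.Quotient.mk M₂ (φ₂.symm (φ₂ x)) ^ q ^ n = _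
      rw [φ₂.symm_apply_apply]
    let T : Subalgebra A (normSub D₂) :=
      { carrier := {y | ∃ n : ℕ, ∃ d : D₂, f₂ d = h₂ y ^ q ^ n}
        mul_mem' := fun {x y} ⟨n, d, hn⟩ ⟨m, d', hm⟩ => ⟨n + m, d ^ q ^ m * d' ^ q ^ n, by
          rw [map_mul f₂, map_pow, map_pow, hn, hm, map_mul h₂, mul_pow, ← pow_mul, ← pow_mul, ← pow_add, ← pow_add,
            add_comm m n]⟩
        add_mem' := fun {x y} ⟨n, d, hn⟩ ⟨m, d', hm⟩ => ⟨n + m, d ^ q ^ m + d' ^ q ^ n, by
          rw [map_add f₂, map_pow, map_pow, hn, hm, map_add h₂, add_pow_expChar_pow (R := L) (p := q),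
            ← pow_mul, ← pow_mul, ← pow_add, ← pow_add, add_comm m n]⟩
        algebraMap_mem' := fun a => ⟨0, algebraMap A D₂ a, by
          rw [pow_zero, pow_one]
          exact (hh₂ _ _ (IsScalarTower.algebraMap_apply A S (FractionRing S) a)).symm⟩ }
    intro y
    have hy := normSub_sup_le D E hE y.2
    have hsup : normSub D ⊔ E.map (IsScalarTower.toAlgHom A S (FractionRing S)) ≤ T.map (normSub D₂).val := by
      refine sup_le (fun x hx => ?_) ?_
      · refine ⟨j ⟨x, hx⟩, ?_, rfl⟩
        obtain ⟨n, hn⟩ := hw M (Ideal.Quotient.mk _ (φ.symm ⟨x, hx⟩))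
        obtain ⟨d, hd⟩ := hclos _ hn
        refine ⟨n, d, hd.trans ?_⟩
        rw [map_pow]
        show hN (φ.symm ⟨x, hx⟩) ^ q ^ n = _
        congr 1
        show h₂ (j (φ (φ.symm ⟨x, hx⟩))) = h₂ (j ⟨x, hx⟩)
        rw [φ.apply_symm_apply]
      · rintro _ ⟨e, he, rfl⟩
        refine ⟨⟨_, algebraMap_mem_normSub ((le_sup_right : E ≤ D₂) he)⟩,
          ⟨0, ⟨e, (le_sup_right : E ≤ D₂) he⟩, ?_⟩, rfl⟩
        rw [pow_zero, pow_one]
        exact (hh₂ _ _ rfl).symm
    obtain ⟨y', hy', hyy'⟩ := hsup hy
    obtain rfl : y' = y := Subtype.ext hyy'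
    exact hy'
  have hD₂ := eq_goodUnion_of_flat D₂
  have hgen : resField D₂ ≤ Subfield.closure ((resField D : Set kS) ∪ residue S '' E) := by
    refine Subfield.closure_le.mpr ?_
    rintro _ ⟨x, hx, rfl⟩
    let U := Subfield.closure ((resField D : Set kS) ∪ residue S '' E)
    let T : Subalgebra A S :=
      { carrier := {x | residue S x ∈ U}
        mul_mem' := fun {a b} ha hb => by
          show residue S (a * b) ∈ U
          rw [map_mul]; exact mul_mem ha hb
        add_mem' := fun {a b} ha hb => by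
          show residue S (a + b) ∈ U
          rw [map_add]; exact add_mem ha hb
        algebraMap_mem' := fun a => Subfield.subset_closure (Or.inl (algebraMap_mem_resField D a)) }
    exact (sup_le (fun y hy => Subfield.subset_closure (Or.inl (Subfield.subset_closure ⟨y, hy, rfl⟩)))
      (fun y hy => Subfield.subset_closure (Or.inr ⟨y, hy, rfl⟩)) : D ⊔ E ≤ T) hx
  refine isNoetherianRing_of_le_sup (resField D) (algebraMap_mem_resField D) D E (goodUnion_le D _ _ le_rfl) ?_
  calc D ≤ D₂ := le_sup_left
    _ = goodUnion A (resField D₂) (algebraMap_mem_resField D₂) := hD₂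
    _ ≤ _ := goodUnion_le_sup (resField D) (algebraMap_mem_resField D) E _ _ hgen

end Groth.Agent.H1EssEt
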