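import Groth.Agent.Hensel.Local
import Groth.Agent.Hensel.HenselizationDescent
import Groth.Agent.H1EssEt.Basic
import Mathlib

set_option autoImplicit false
universe u
open IsLocalRing

namespace Groth.Agent.H1EssEt

/-- `S` is a strict henselization of every unramified local algebra mapping to it. -/
theorem isStrictHenselization_tower (A S : Type u) [CommRing A] [IsLocalRing A] [CommRing S]
    [IsLocalRing S] [Algebra A S] [IsLocalHom (algebraMap A S)] [hS : _root_.Hensel.IsStrictHenselization A S]
    (D : Type u) [CommRing D] [Algebra A D] [Algebra D S] [IsScalarTower A D S]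
    [IsLocalRing D] [IsLocalHom (algebraMap D S)] [Algebra.EssFiniteType A D]
    [Algebra.FormallyUnramified A D] : _root_.Hensel.IsStrictHenselization D S := by
  haveI : IsLocalHom (algebraMap A D) :=
    ⟨fun a ha => isUnit_of_map_unit (algebraMap A S) a
      (IsScalarTower.algebraMap_apply A D S a ▸ ha.map (algebraMap D S))⟩
  haveI : IsScalarTower (ResidueField A) (ResidueField D) (ResidueField S) :=
    IsScalarTower.of_algebraMap_eq fun a => by
      obtain ⟨a, rfl⟩ := residue_surjective a
      show residue S (algebraMap A S a) = residue S (algebraMap D S (algebraMap A D a))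
      rw [← IsScalarTower.algebraMap_apply]
  refine ⟨hS.henselian, ?_, ?_⟩
  · haveI := hS.isSepClosure.separable
    exact ⟨hS.isSepClosure.sep_closed, Algebra.isSeparable_tower_top_of_isSeparable (ResidueField A) _ _⟩
  intro T _ _ f _ τ hτ
  have hf0 : IsLocalHom (f.comp (algebraMap A D)) := inferInstance
  have hτ0 : τ.comp (ResidueField.map (algebraMap A S)) = ResidueField.map (f.comp (algebraMap A D)) := by
    refine RingHom.ext fun a => ?_
    obtain ⟨a, rfl⟩ := residue_surjective a
    have h := RingHom.congr_fun hτ (residue D (algebraMap A D a))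
    rw [RingHom.comp_apply, ResidueField.map_residue, ResidueField.map_residue,
      ← IsScalarTower.algebraMap_apply] at h
    rw [RingHom.comp_apply, ResidueField.map_residue, ResidueField.map_residue]
    exact h
  obtain ⟨g, ⟨hg, hgτ⟩, huniq⟩ := hS.universal T (f.comp (algebraMap A D)) τ hτ0
  letI : Algebra A T := (f.comp (algebraMap A D)).toAlgebra
  have hgD : g.comp (algebraMap D S) = f := by
    let φ₁ : D →ₐ[A] T :=
      { g.comp (algebraMap D S) with
        commutes' := fun a => by
          show g (algebraMap D S (algebraMap A D a)) = _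
          rw [← IsScalarTower.algebraMap_apply]
          exact RingHom.congr_fun hg a }
    let φ₂ : D →ₐ[A] T := { f with commutes' := fun a => rfl }
    have h : φ₁ = φ₂ := by
      refine Hensel.algHom_ext_of_le_jacobson (J := maximalIdeal T)
        (IsLocalRing.jacobson_eq_maximalIdeal ⊥ bot_ne_top).ge _ _ fun d => ?_
      refine Ideal.Quotient.eq.mp ?_
      show residue T (g (algebraMap D S d)) = residue T (f d)
      rw [hgτ]
      have h := RingHom.congr_fun hτ (residue D d)
      rwa [RingHom.comp_apply, ResidueField.map_residue, ResidueField.map_residue] at h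
    exact RingHom.ext fun d => congr($h d)
  refine ⟨g, ⟨hgD, hgτ⟩, fun g' ⟨hg', hg'τ⟩ => huniq g' ⟨?_, hg'τ⟩⟩
  rw [← hg', IsScalarTower.algebraMap_eq A D S]
  rfl

end Groth.Agent.H1EssEt
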