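import Groth.Agent.EtStalk.Normal
import Groth.Agent.WEtLib.Stalks
import Mathlib.RingTheory.Unramified.LocalStructure

/-!
# Unramified local extensions of normal domains are étale
-/

set_option autoImplicit false
universe u
open IsLocalRing

namespace Groth.Agent.H1EssEt

/-- An injective, essentially of finite type, formally unramified local map from a normal domain to a
domain is flat. -/
theorem flat_of_formallyUnramified_normal (N E : Type u) [CommRing N] [IsDomain N] [IsIntegrallyClosed N]
    [CommRing E] [IsDomain E] [IsLocalRing E] [Algebra N E] [Algebra.EssFiniteType N E]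
    [Algebra.FormallyUnramified N E] (hinjNE : Function.Injective (algebraMap N E)) :
    Module.Flat N E := by
  classical
  let D₀ := Algebra.EssFiniteType.subalgebra N E
  haveI : Algebra.FiniteType N D₀ := inferInstance
  let Q : Ideal D₀ := (maximalIdeal E).comap (algebraMap D₀ E)
  haveI hloc : IsLocalization.AtPrime E Q := by
    refine IsLocalization.of_le (Algebra.EssFiniteType.submonoid N E) Q.primeCompl ?_ ?_
    · intro x hx hxQ
      exact (IsLocalRing.mem_maximalIdeal _).mp (Ideal.mem_comap.mp hxQ) hx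
    · intro x hx
      exact IsLocalRing.notMem_maximalIdeal.mp hx
  haveI : Algebra.IsUnramifiedAt N Q :=
    Algebra.FormallyUnramified.of_equiv
      ((IsLocalization.algEquiv Q.primeCompl E (Localization.AtPrime Q)).restrictScalars N)
  obtain ⟨f, hfQ, P, φ, hφ⟩ := Algebra.IsUnramifiedAt.exists_hasStandardEtaleSurjectionOn (R := N) Q
  have hfu : ∀ y : Submonoid.powers f, IsUnit (algebraMap D₀ E y) := by
    rintro ⟨_, n, rfl⟩
    rw [map_pow]
    exact (IsLocalRing.notMem_maximalIdeal.mp hfQ).pow n
  let ψ : P.Ring →ₐ[N] E :=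
    (IsLocalization.liftAlgHom (f := (IsScalarTower.toAlgHom N D₀ E)) hfu).comp φ
  let q : Ideal P.Ring := (maximalIdeal E).comap ψ
  have hunit : ∀ y : q.primeCompl, IsUnit (ψ y) := fun y => IsLocalRing.notMem_maximalIdeal.mp y.2
  let Ψ : Localization.AtPrime q →ₐ[N] E := IsLocalization.liftAlgHom (f := ψ) hunit
  have hΨ : ∀ c, Ψ (algebraMap P.Ring (Localization.AtPrime q) c) = ψ c := fun c =>
    IsLocalization.lift_eq _ c
  have himg : ∀ x : D₀, ∃ c, ψ c = algebraMap D₀ E x := by
    intro x
    obtain ⟨c, hc⟩ := hφ (algebraMap D₀ (Localization.Away f) x)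
    refine ⟨c, ?_⟩
    show IsLocalization.liftAlgHom (f := IsScalarTower.toAlgHom N D₀ E) hfu (φ c) = _
    rw [hc]
    exact IsLocalization.lift_eq _ x
  have hsurj : Function.Surjective Ψ := by
    intro d
    obtain ⟨x, s, rfl⟩ := IsLocalization.exists_mk'_eq Q.primeCompl d
    obtain ⟨c, hc⟩ := himg x
    obtain ⟨t, ht⟩ := himg s
    have htq : t ∈ q.primeCompl := by
      intro htm
      have : ψ t ∈ maximalIdeal E := htm
      rw [ht] at this
      exact s.2 this
    refine ⟨IsLocalization.mk' _ c (⟨t, htq⟩ : q.primeCompl), ?_⟩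
    rw [IsLocalization.eq_mk'_iff_mul_eq, ← hc, ← ht, ← hΨ, ← hΨ, ← map_mul, IsLocalization.mk'_spec]
  haveI : Algebra.WeaklyEtale P.Ring (Localization.AtPrime q) :=
    WEtLib.weaklyEtale_localization q.primeCompl
  haveI : Algebra.WeaklyEtale N (Localization.AtPrime q) :=
    Algebra.WeaklyEtale.trans N P.Ring (Localization.AtPrime q)
  obtain ⟨hdom, -⟩ := EtStalk.normal_of_weaklyEtale_local N (Localization.AtPrime q)
  haveI := hdom
  haveI : Algebra.QuasiFinite N (Localization.AtPrime q) := Algebra.QuasiFinite.trans N P.Ring _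
  let p : Ideal (Localization.AtPrime q) := RingHom.ker Ψ
  haveI : p.IsPrime := RingHom.ker_isPrime _
  have hp : (⊥ : Ideal (Localization.AtPrime q)) = p := by
    refine Algebra.QuasiFinite.eq_of_le_of_under_eq (R := N) _ _ bot_le ?_
    ext x
    rw [Ideal.mem_comap, Ideal.mem_comap, Ideal.mem_bot, RingHom.mem_ker, AlgHom.commutes]
    refine ⟨fun h => ?_, fun h => ?_⟩
    · rw [← Ψ.commutes, h, map_zero]
    · rw [hinjNE (h.trans (map_zero _).symm), map_zero]
  have hinj : Function.Injective Ψ := (RingHom.injective_iff_ker_eq_bot Ψ).mpr hp.symm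
  exact Module.Flat.of_linearEquiv (AlgEquiv.ofBijective Ψ ⟨hinj, hsurj⟩).symm.toLinearEquiv

end Groth.Agent.H1EssEt
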